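import Mathlib
import Cfsg.Prelude.Def_Sporadic_a

/-!
Transport along isomorphisms of set systems.
-/

set_option autoImplicit false

namespace CfsgLib.Steiner

open Cfsg
open scoped Pointwise

universe u v w

variable {α : Type u} {β : Type v} {γ : Type w} [DecidableEq α] [DecidableEq β] [DecidableEq γ]

theorem setSystemIso_symm {B : Set (Finset α)} {B' : Set (Finset β)} (h : SetSystemIso B B') :
    SetSystemIso B' B := by
  obtain ⟨e, rfl⟩ := h
  refine ⟨e.symm, ?_⟩
  simp [Set.image_image, Finset.image_image]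

theorem setSystemIso_trans {B : Set (Finset α)} {B' : Set (Finset β)} {B'' : Set (Finset γ)}
    (h : SetSystemIso B B') (h' : SetSystemIso B' B'') : SetSystemIso B B'' := by
  obtain ⟨e, rfl⟩ := h
  obtain ⟨e', rfl⟩ := h'
  exact ⟨e.trans e', by simp [Set.image_image, Finset.image_image]⟩

theorem mem_setSystemAut_iff {B : Set (Finset α)} {σ : Equiv.Perm α} :
    σ ∈ setSystemAut B ↔ (fun b => b.image σ) '' B = B := Iff.rfl

theorem permCongr_mem_setSystemAut {B : Set (Finset α)} (e : α ≃ β) {σ : Equiv.Perm α}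
    (hσ : σ ∈ setSystemAut B) :
    e.permCongr σ ∈ setSystemAut ((fun b => b.image e) '' B) := by
  rw [mem_setSystemAut_iff] at hσ ⊢
  conv_rhs => rw [← hσ]
  simp only [Set.image_image, Finset.image_image]
  exact Set.image_congr fun b _ => Finset.image_congr fun x _ => by simp

/-- Isomorphic set systems have isomorphic automorphism groups, compatibly with the bijection. -/
theorem exists_setSystemAut_equiv {B : Set (Finset α)} {B' : Set (Finset β)}
    (h : SetSystemIso B B') :
    ∃ (e : α ≃ β) (φ : setSystemAut B ≃* setSystemAut B'),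
      ∀ (g : setSystemAut B) (x : α), (φ g : Equiv.Perm β) (e x) = e ((g : Equiv.Perm α) x) := by
  obtain ⟨e, he⟩ := h
  have h1 : ∀ σ ∈ setSystemAut B, e.permCongr σ ∈ setSystemAut B' := fun σ hσ =>
    he ▸ permCongr_mem_setSystemAut e hσ
  have h2 : ∀ σ ∈ setSystemAut B', e.symm.permCongr σ ∈ setSystemAut B := fun σ hσ => by
    have := permCongr_mem_setSystemAut e.symm hσ
    rw [← he] at this
    simpa [Set.image_image, Finset.image_image] using this
  refine ⟨e,
    { toFun := fun g => ⟨_, h1 g g.2⟩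
      invFun := fun g => ⟨_, h2 g g.2⟩
      left_inv := fun g => Subtype.ext (Equiv.ext fun x => by simp)
      right_inv := fun g => Subtype.ext (Equiv.ext fun x => by simp)
      map_mul' := fun g g' => Subtype.ext (Equiv.ext fun x => by simp) }, fun g x => ?_⟩
  show e.permCongr (g : Equiv.Perm α) (e x) = _
  simp

/-- Multiple transitivity along an isomorphism. -/
theorem isMultiplyPretransitive_of_equiv {G : Subgroup (Equiv.Perm α)} {H : Subgroup (Equiv.Perm β)}
    (e : α ≃ β) (φ : G ≃* H)
    (hφ : ∀ (g : G) (x : α), (φ g : Equiv.Perm β) (e x) = e ((g : Equiv.Perm α) x)) {n : ℕ}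
    (h : MulAction.IsMultiplyPretransitive H β n) : MulAction.IsMultiplyPretransitive G α n := by
  rw [MulAction.isMultiplyPretransitive_iff] at h ⊢
  intro x y
  obtain ⟨g, hg⟩ := h (x.trans e.toEmbedding) (y.trans e.toEmbedding)
  refine ⟨φ.symm g, DFunLike.ext _ _ fun i => ?_⟩
  have h' := congrFun (congrArg DFunLike.coe hg) i
  apply e.injective
  show e (((φ.symm g : G) : Equiv.Perm α) (x i)) = e (y i)
  rw [← hφ, MulEquiv.apply_symm_apply]
  exact h'

/-- Sharpness along an isomorphism. -/
theorem stabilizer_eq_bot_of_equiv {G : Subgroup (Equiv.Perm α)} {H : Subgroup (Equiv.Perm β)}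
    (e : α ≃ β) (φ : G ≃* H)
    (hφ : ∀ (g : G) (x : α), (φ g : Equiv.Perm β) (e x) = e ((g : Equiv.Perm α) x)) {n : ℕ}
    (h : ∀ x : Fin n ↪ β, MulAction.stabilizer H x = ⊥) (x : Fin n ↪ α) :
    MulAction.stabilizer G x = ⊥ := by
  rw [eq_bot_iff]
  intro g hg
  rw [MulAction.mem_stabilizer_iff] at hg
  have h' : φ g ∈ MulAction.stabilizer H (x.trans e.toEmbedding) := by
    rw [MulAction.mem_stabilizer_iff]
    refine DFunLike.ext _ _ fun i => ?_
    show (φ g : Equiv.Perm β) (e (x i)) = e (x i)
    rw [hφ]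
    exact congrArg e (congrFun (congrArg DFunLike.coe hg) i)
  rw [h, Subgroup.mem_bot] at h'
  exact Subgroup.mem_bot.mpr (φ.map_eq_one_iff.mp h')

theorem isSimpleGroup_of_mulEquiv {G : Type u} {H : Type v} [Group G] [Group H] (φ : G ≃* H)
    [IsSimpleGroup H] : IsSimpleGroup G := by
  haveI : Nontrivial G := φ.toEquiv.nontrivial
  exact IsSimpleGroup.isSimpleGroup_of_surjective φ.symm.toMonoidHom φ.symm.surjective

end CfsgLib.Steiner
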