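import Mathlib
import Cfsg.Prelude.Def_Sporadic_a
import Cfsg.Agent.Lib.Combin.SteinerCount

/-!
Block intersection numbers of the large Witt designs.
-/

set_option autoImplicit false

namespace CfsgLib.Steiner

open CfsgLib.Combin.SteinerCount

variable {α : Type*} [Fintype α] [DecidableEq α]

/-- blocks different from `b` meeting it in exactly `j` points -/
noncomputable def meetCount (B : Set (Finset α)) (b : Finset α) (j : ℕ) : ℕ :=
  ((blocksThrough B ∅).erase b |>.filter fun c => (b ∩ c).card = j).card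

theorem card_inter_lt {t k : ℕ} {B : Set (Finset α)} (hB : Cfsg.IsSteinerSystem t k B)
    {b c : Finset α} (hb : b ∈ B) (hc : c ∈ B) (hne : b ≠ c) : (b ∩ c).card < t := by
  by_contra h
  obtain ⟨s, hs, hcard⟩ := Finset.exists_subset_card_eq (Nat.le_of_not_lt h)
  obtain ⟨u, -, hu⟩ := hB.2 s hcard
  exact hne ((hu b ⟨hb, hs.trans Finset.inter_subset_left⟩).trans
    (hu c ⟨hc, hs.trans Finset.inter_subset_right⟩).symm)

/-- Double counting of pairs (i-subset of `b`, other block through it). -/
theorem sum_meetCount {t k : ℕ} {B : Set (Finset α)} (hB : Cfsg.IsSteinerSystem t k B)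
    {b : Finset α} (hb : b ∈ B) {i n : ℕ}
    (hn : ∀ I : Finset α, I.card = i → (blocksThrough B I).card = n) :
    ∑ j ∈ Finset.range t, meetCount B b j * j.choose i = k.choose i * (n - 1) := by
  classical
  set S := (blocksThrough B ∅).erase b with hS
  have hmem : ∀ c ∈ S, c ∈ B ∧ c ≠ b := by
    intro c hc
    rw [hS, Finset.mem_erase, mem_blocksThrough] at hc
    exact ⟨hc.2.1, hc.1⟩
  have h1 : ∑ c ∈ S, ((b ∩ c).card).choose i = ∑ j ∈ Finset.range t, meetCount B b j * j.choose i := by
    rw [← Finset.sum_fiberwise_of_maps_to (g := fun c => (b ∩ c).card) (t := Finset.range t)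
      (fun c hc => Finset.mem_range.mpr (card_inter_lt hB hb (hmem c hc).1 (hmem c hc).2.symm))]
    refine Finset.sum_congr rfl fun j _ => ?_
    rw [meetCount, ← smul_eq_mul, ← Finset.sum_const]
    exact Finset.sum_congr rfl fun c hc => by rw [(Finset.mem_filter.mp hc).2]
  rw [← h1]
  have h2 : ∀ c, ((b ∩ c).card).choose i = ((b.powersetCard i).filter fun I => I ⊆ c).card := by
    intro c
    rw [← Finset.card_powersetCard]
    congr 1
    ext I
    simp only [Finset.mem_powersetCard, Finset.mem_filter, Finset.subset_inter_iff]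
    tauto
  simp only [h2, Finset.card_filter]
  rw [Finset.sum_comm]
  have h3 : ∀ I ∈ b.powersetCard i, ∑ c ∈ S, (if I ⊆ c then 1 else 0) = n - 1 := by
    intro I hI
    obtain ⟨hIb, hIc⟩ := Finset.mem_powersetCard.mp hI
    rw [← Finset.card_filter, ← hn I hIc,
      ← Finset.card_erase_of_mem (mem_blocksThrough.mpr ⟨hb, hIb⟩)]
    congr 1
    ext c
    simp only [hS, Finset.mem_filter, Finset.mem_erase, mem_blocksThrough, Finset.empty_subset,
      and_true]
    tauto
  rw [Finset.sum_congr rfl h3, Finset.sum_const, Finset.card_powersetCard, hB.1 b hb, smul_eq_mul]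

theorem meetCount_pos {t k : ℕ} {B : Set (Finset α)} (_hB : Cfsg.IsSteinerSystem t k B)
    {b c : Finset α} (_hb : b ∈ B) (hc : c ∈ B) (hne : b ≠ c) :
    0 < meetCount B b (b ∩ c).card :=
  Finset.card_pos.mpr ⟨c, by
    simp [Finset.mem_filter, Finset.mem_erase, mem_blocksThrough, hc, hne.symm]⟩

theorem card_blocksThrough_four_seven {B : Set (Finset α)} (hα : Fintype.card α = 23)
    (hB : Cfsg.IsSteinerSystem 4 7 B) (T : Finset α) (hT : T.card ≤ 4) :
    (blocksThrough B T).card = [253, 77, 21, 5, 1].getD T.card 0 := by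
  have h := card_blocksThrough_mul hB T hT
  rw [hα] at h
  generalize (blocksThrough B T).card = n at h ⊢
  generalize T.card = i at h hT ⊢
  interval_cases i <;> norm_num [Nat.choose] at h ⊢ <;> omega

theorem card_blocksThrough_three_six {B : Set (Finset α)} (hα : Fintype.card α = 22)
    (hB : Cfsg.IsSteinerSystem 3 6 B) (T : Finset α) (hT : T.card ≤ 3) :
    (blocksThrough B T).card = [77, 21, 5, 1].getD T.card 0 := by
  have h := card_blocksThrough_mul hB T hT
  rw [hα] at h
  generalize (blocksThrough B T).card = n at h ⊢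
  generalize T.card = i at h hT ⊢
  interval_cases i <;> norm_num [Nat.choose] at h ⊢ <;> omega

/-- Two blocks of an S(5,8,24) meet in 0, 2 or 4 points. -/
theorem card_inter_five_eight {B : Set (Finset α)} (hα : Fintype.card α = 24)
    (hB : Cfsg.IsSteinerSystem 5 8 B) {b c : Finset α} (hb : b ∈ B) (hc : c ∈ B) (hne : b ≠ c) :
    (b ∩ c).card = 0 ∨ (b ∩ c).card = 2 ∨ (b ∩ c).card = 4 := by
  have key : ∀ i, i ≤ 5 → ∑ j ∈ Finset.range 5, meetCount B b j * j.choose i =
      Nat.choose 8 i * ([759, 253, 77, 21, 5, 1].getD i 0 - 1) := fun i hi =>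
    sum_meetCount hB hb fun I hI => by rw [card_blocksThrough_five_eight hα hB I (hI ▸ hi), hI]
  have h0 := key 0 (by norm_num)
  have h1 := key 1 (by norm_num)
  have h2 := key 2 (by norm_num)
  have h3 := key 3 (by norm_num)
  have h4 := key 4 (by norm_num)
  simp [Finset.sum_range_succ, Nat.choose] at h0 h1 h2 h3 h4
  have hpos := meetCount_pos hB hb hc hne
  have hlt := card_inter_lt hB hb hc hne
  generalize (b ∩ c).card = j at hpos hlt ⊢
  interval_cases j <;> omega

/-- Two blocks of an S(4,7,23) meet in 1 or 3 points. -/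
theorem card_inter_four_seven {B : Set (Finset α)} (hα : Fintype.card α = 23)
    (hB : Cfsg.IsSteinerSystem 4 7 B) {b c : Finset α} (hb : b ∈ B) (hc : c ∈ B) (hne : b ≠ c) :
    (b ∩ c).card = 1 ∨ (b ∩ c).card = 3 := by
  have key : ∀ i, i ≤ 4 → ∑ j ∈ Finset.range 4, meetCount B b j * j.choose i =
      Nat.choose 7 i * ([253, 77, 21, 5, 1].getD i 0 - 1) := fun i hi =>
    sum_meetCount hB hb fun I hI => by rw [card_blocksThrough_four_seven hα hB I (hI ▸ hi), hI]
  have h0 := key 0 (by norm_num)
  have h1 := key 1 (by norm_num)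
  have h2 := key 2 (by norm_num)
  have h3 := key 3 (by norm_num)
  simp [Finset.sum_range_succ, Nat.choose] at h0 h1 h2 h3
  have hpos := meetCount_pos hB hb hc hne
  have hlt := card_inter_lt hB hb hc hne
  generalize (b ∩ c).card = j at hpos hlt ⊢
  interval_cases j <;> omega

/-- Two blocks of an S(3,6,22) meet in 0 or 2 points. -/
theorem card_inter_three_six {B : Set (Finset α)} (hα : Fintype.card α = 22)
    (hB : Cfsg.IsSteinerSystem 3 6 B) {b c : Finset α} (hb : b ∈ B) (hc : c ∈ B) (hne : b ≠ c) :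
    (b ∩ c).card = 0 ∨ (b ∩ c).card = 2 := by
  have key : ∀ i, i ≤ 3 → ∑ j ∈ Finset.range 3, meetCount B b j * j.choose i =
      Nat.choose 6 i * ([77, 21, 5, 1].getD i 0 - 1) := fun i hi =>
    sum_meetCount hB hb fun I hI => by rw [card_blocksThrough_three_six hα hB I (hI ▸ hi), hI]
  have h0 := key 0 (by norm_num)
  have h1 := key 1 (by norm_num)
  have h2 := key 2 (by norm_num)
  simp [Finset.sum_range_succ, Nat.choose] at h0 h1 h2
  have hpos := meetCount_pos hB hb hc hne
  have hlt := card_inter_lt hB hb hc hne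
  generalize (b ∩ c).card = j at hpos hlt ⊢
  interval_cases j <;> omega

end CfsgLib.Steiner
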