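import Mathlib
import Cfsg.Prelude.Def_Sporadic_a
import Cfsg.Agent.Lib.Steiner.Inter

/-!
Families of 8-sets through a fixed set `W` completing every 5-set through `W` exactly once:
a uniform description of S(5,8,24) and its derived systems S(4,7,23), S(3,6,22), S(2,5,21).
-/

set_option autoImplicit false

namespace CfsgLib.Steiner

open scoped Pointwise

variable {α β : Type*}

/-- Every member is an 8-set through `W`, and each 5-set through `W` lies in exactly one. -/
def Completes (W : Finset α) (B : Set (Finset α)) : Prop :=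
  (∀ b ∈ B, b.card = 8 ∧ W ⊆ b) ∧ ∀ s : Finset α, s.card = 5 → W ⊆ s → ∃! b, b ∈ B ∧ s ⊆ b

/-- The members of `O` through `W`. -/
def through (W : Finset α) (O : Set (Finset α)) : Set (Finset α) := {o | o ∈ O ∧ W ⊆ o}

theorem mem_through {W : Finset α} {O : Set (Finset α)} {o : Finset α} :
    o ∈ through W O ↔ o ∈ O ∧ W ⊆ o := Iff.rfl

theorem completes_empty_iff {B : Set (Finset α)} :
    Completes ∅ B ↔ Cfsg.IsSteinerSystem 5 8 B := by
  simp [Completes, Cfsg.IsSteinerSystem]

theorem Completes.mono {W U : Finset α} {B : Set (Finset α)} (h : Completes W B) (hWU : W ⊆ U) :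
    Completes U (through U B) := by
  refine ⟨fun b hb => ⟨(h.1 b hb.1).1, hb.2⟩, fun s hs hUs => ?_⟩
  obtain ⟨b, ⟨hb, hsb⟩, hu⟩ := h.2 s hs (hWU.trans hUs)
  exact ⟨b, ⟨⟨hb, hUs.trans hsb⟩, hsb⟩, fun c hc => hu c ⟨hc.1.1, hc.2⟩⟩

theorem completes_through {O : Set (Finset α)} (hO : Cfsg.IsSteinerSystem 5 8 O) (W : Finset α) :
    Completes W (through W O) :=
  (completes_empty_iff.mpr hO).mono (Finset.empty_subset W)

theorem Completes.eq_of_subset {W : Finset α} {B : Set (Finset α)} (h : Completes W B)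
    {b c s : Finset α} (hb : b ∈ B) (hc : c ∈ B) (hs : s.card = 5) (hW : W ⊆ s) (hsb : s ⊆ b)
    (hsc : s ⊆ c) : b = c :=
  (h.2 s hs hW).unique ⟨hb, hsb⟩ ⟨hc, hsc⟩

/-- A family inside another one that completes equals it. -/
theorem Completes.eq_of_le {W : Finset α} {B B' : Set (Finset α)} (h : Completes W B)
    (h' : Completes W B') (hW : W.card ≤ 5) (hle : B ⊆ B') : B = B' := by
  refine Set.Subset.antisymm hle fun c hc => ?_
  obtain ⟨hc8, hWc⟩ := h'.1 c hc
  obtain ⟨s, hWs, hsc, hs⟩ := Finset.exists_subsuperset_card_eq hWc hW (by omega)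
  obtain ⟨b, ⟨hb, hsb⟩, -⟩ := h.2 s hs hWs
  exact h'.eq_of_subset (hle hb) hc hs hWs hsb hsc ▸ hb

/-- Image under a bijection. -/
theorem Completes.map {W : Finset α} {B : Set (Finset α)} (h : Completes W B) (e : α ≃ β) :
    Completes (W.map e.toEmbedding) ((fun b => b.map e.toEmbedding) '' B) := by
  refine ⟨?_, fun s hs hWs => ?_⟩
  · rintro _ ⟨b, hb, rfl⟩
    exact ⟨by rw [Finset.card_map]; exact (h.1 b hb).1, Finset.map_subset_map.mpr (h.1 b hb).2⟩
  · have hW' : W ⊆ s.map e.symm.toEmbedding := by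
      intro x hx
      rw [Finset.mem_map_equiv]
      simpa using hWs (Finset.mem_map_of_mem e.toEmbedding hx)
    obtain ⟨b, ⟨hb, hsb⟩, hu⟩ := h.2 (s.map e.symm.toEmbedding) (by rw [Finset.card_map, hs]) hW'
    have back : ∀ t : Finset α, s ⊆ t.map e.toEmbedding ↔ s.map e.symm.toEmbedding ⊆ t := by
      intro t
      simp only [Finset.subset_iff, Finset.mem_map_equiv, Equiv.symm_symm]
      exact ⟨fun h' x hx => by simpa using h' hx, fun h' x hx => h' (by simpa using hx)⟩
    refine ⟨b.map e.toEmbedding, ⟨⟨b, hb, rfl⟩, (back b).mpr hsb⟩, ?_⟩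
    rintro _ ⟨⟨c, hc, rfl⟩, hsc⟩
    rw [hu c ⟨hc, (back c).mp hsc⟩]

variable [DecidableEq α]

/-- Removing the fixed part. -/
def strip (W : Finset α) (B : Set (Finset α)) : Set (Finset {x // x ∉ W}) :=
  (fun b => b.subtype fun x => x ∉ W) '' B

theorem card_subtype_eq {W b : Finset α} (h : W ⊆ b) :
    (b.subtype fun x => x ∉ W).card = b.card - W.card := by
  rw [Finset.card_subtype, ← Finset.card_sdiff_of_subset h]
  congr 1
  ext x
  simp

theorem Completes.strip_isSteinerSystem {W : Finset α} {B : Set (Finset α)} (h : Completes W B)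
    (hW : W.card ≤ 5) :
    Cfsg.IsSteinerSystem (5 - W.card) (8 - W.card) (strip W B) := by
  refine ⟨?_, fun s hs => ?_⟩
  · rintro _ ⟨b, hb, rfl⟩
    rw [card_subtype_eq (h.1 b hb).2, (h.1 b hb).1]
  · set s' : Finset α := W ∪ s.map (Function.Embedding.subtype _) with hs'
    have hdisj : Disjoint W (s.map (Function.Embedding.subtype _)) := by
      rw [Finset.disjoint_left]
      intro x hx hx'
      obtain ⟨⟨y, hy⟩, -, rfl⟩ := Finset.mem_map.mp hx'
      exact hy hx
    have hcard : s'.card = 5 := by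
      rw [hs', Finset.card_union_of_disjoint hdisj, Finset.card_map]; omega
    obtain ⟨b, ⟨hb, hsb⟩, hu⟩ := h.2 s' hcard Finset.subset_union_left
    have key : ∀ c, W ⊆ c → (s' ⊆ c ↔ s ⊆ c.subtype fun x => x ∉ W) := by
      intro c hc
      constructor
      · intro h' x hx
        rw [Finset.mem_subtype]
        exact h' (Finset.mem_union_right _ (Finset.mem_map_of_mem _ hx))
      · intro h'
        refine Finset.union_subset hc fun y hy => ?_
        obtain ⟨x, hx, rfl⟩ := Finset.mem_map.mp hy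
        exact Finset.mem_subtype.mp (h' hx)
    refine ⟨_, ⟨⟨b, hb, rfl⟩, (key b (h.1 b hb).2).mp hsb⟩, ?_⟩
    rintro _ ⟨⟨c, hc, rfl⟩, hsc⟩
    rw [hu c ⟨hc, (key c (h.1 c hc).2).mpr hsc⟩]

/-- Adding a fixed part: a derived system becomes a family of 8-sets through `W`. -/
theorem completes_of_isSteinerSystem {t k : ℕ} {γ : Type*} {B : Set (Finset γ)}
    (hB : Cfsg.IsSteinerSystem t k B) (f : γ ↪ α) (W : Finset α)
    (hf : ∀ x, x ∉ W ↔ x ∈ Set.range f) (ht : t + W.card = 5) (hk : k + W.card = 8) :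
    Completes W ((fun b => W ∪ b.map f) '' B) := by
  have hdisj : ∀ b : Finset γ, Disjoint W (b.map f) := by
    intro b
    rw [Finset.disjoint_left]
    intro x hx hx'
    obtain ⟨y, -, rfl⟩ := Finset.mem_map.mp hx'
    exact (hf (f y)).mpr ⟨y, rfl⟩ hx
  refine ⟨?_, fun s hs hWs => ?_⟩
  · rintro _ ⟨b, hb, rfl⟩
    rw [Finset.card_union_of_disjoint (hdisj b), Finset.card_map, hB.1 b hb]
    exact ⟨by omega, Finset.subset_union_left⟩
  · set s0 : Finset γ := s.preimage f f.injective.injOn with hs0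
    have hmap : s0.map f = s \ W := by
      ext x
      simp only [Finset.mem_map, hs0, Finset.mem_preimage, Finset.mem_sdiff]
      constructor
      · rintro ⟨y, hy, rfl⟩; exact ⟨hy, (hf _).mpr ⟨y, rfl⟩⟩
      · rintro ⟨hx, hxW⟩; obtain ⟨y, rfl⟩ := (hf x).mp hxW; exact ⟨y, hx, rfl⟩
    have hs0c : s0.card = t := by
      rw [← Finset.card_map f, hmap, Finset.card_sdiff_of_subset hWs]; omega
    obtain ⟨b, ⟨hb, hsb⟩, hu⟩ := hB.2 s0 hs0c
    have key : ∀ c : Finset γ, s ⊆ W ∪ c.map f ↔ s0 ⊆ c := by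
      intro c
      rw [← Finset.map_subset_map (f := f), hmap]
      exact sdiff_le_iff.symm
    refine ⟨_, ⟨⟨b, hb, rfl⟩, (key b).mpr hsb⟩, ?_⟩
    rintro _ ⟨⟨c, hc, rfl⟩, hsc⟩
    rw [hu c ⟨hc, (key c).mp hsc⟩]

/-- Members meet evenly. -/
theorem Completes.even_inter [Fintype α] (hα : Fintype.card α = 24) {W : Finset α}
    {B : Set (Finset α)} (h : Completes W B) (hW : W.card ≤ 2) {b c : Finset α}
    (hb : b ∈ B) (hc : c ∈ B) : (b ∩ c).card % 2 = 0 := by
  by_cases hne : b = c
  · subst hne; rw [Finset.inter_self, (h.1 b hb).1]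
  obtain ⟨hb8, hWb⟩ := h.1 b hb
  obtain ⟨hc8, hWc⟩ := h.1 c hc
  have hsys := h.strip_isSteinerSystem (by omega)
  have hne' : (b.subtype fun x => x ∉ W) ≠ c.subtype fun x => x ∉ W := by
    intro he
    apply hne
    ext x
    by_cases hx : x ∈ W
    · exact ⟨fun _ => hWc hx, fun _ => hWb hx⟩
    · have := congrArg (fun u => (⟨x, hx⟩ : {x // x ∉ W}) ∈ u) he
      simpa using this
  have hinter : ((b.subtype fun x => x ∉ W) ∩ c.subtype fun x => x ∉ W).card =
      (b ∩ c).card - W.card := by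
    rw [← card_subtype_eq (Finset.subset_inter hWb hWc)]
    congr 1
    ext x; simp
  have hcardW : Fintype.card {x // x ∉ W} = 24 - W.card := by
    rw [Fintype.card_subtype_compl, hα, Fintype.card_coe]
  have hle : W.card ≤ (b ∩ c).card := Finset.card_le_card (Finset.subset_inter hWb hWc)
  obtain ⟨w, hw⟩ : ∃ w, W.card = w := ⟨_, rfl⟩
  rw [hw] at hsys hinter hcardW hle hW
  have hb' : (b.subtype fun x => x ∉ W) ∈ strip W B := ⟨b, hb, rfl⟩
  have hc' : (c.subtype fun x => x ∉ W) ∈ strip W B := ⟨c, hc, rfl⟩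
  interval_cases w
  · rcases card_inter_five_eight hcardW hsys hb' hc' hne' with h' | h' | h' <;> omega
  · rcases card_inter_four_seven hcardW hsys hb' hc' hne' with h' | h' <;> omega
  · rcases card_inter_three_six hcardW hsys hb' hc' hne' with h' | h' <;> omega

end CfsgLib.Steiner
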