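import Mathlib
import Cfsg.Prelude.Def_Sporadic_a
import Cfsg.Agent.Lib.Combin.AbstractGolay
import Cfsg.Agent.Lib.Golay.Code
import Cfsg.Agent.Lib.Steiner.Completes

/-!
A completing family on the 24 points which agrees with the octads through a base triple agrees
with the octads everywhere, up to a permutation of the triple.  The only computed fact is that
ten octads through the triple and two others span the code.
-/

set_option autoImplicit false

namespace CfsgLib.Steiner.Rigidity

open Cfsg CfsgLib.Golay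
open scoped Pointwise symmDiff

/-- The base triple. -/
def T0 : Finset GolayPt := {none, some 0, some 1}

theorem card_T0 : T0.card = 3 := by decide

/-- The code, as a family of supports. -/
abbrev codeSets : Set (Finset GolayPt) := supports (golayCode : Set (GolayPt → ZMod 2))

/-- Ten octads through the base triple. -/
def lineMasks : List ℕ :=
  [8398155, 8421811, 8505411, 8524371, 8536111, 8657159, 8983587, 9465987, 10496547, 12656663]

/-- An octad meeting the base triple in the extra point and `1`. -/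
def maskA : ℕ := 8394986

/-- An octad meeting the base triple in `0` and `1`. -/
def maskB : ℕ := 5279

/-- Expressions of the generators of the code. -/
def spanCoeffs : List ℕ :=
  [3633, 3652, 2725, 873, 2256, 2473, 2938, 245, 507, 983, 2460, 2827]

theorem gens_span : spanCoeffs.map (spanWord (lineMasks ++ [maskA, maskB])) = gens := by
  decide +kernel

theorem lineMasks_spec : ∀ n ∈ lineMasks,
    isCode n = true ∧ popc n = 8 ∧ n &&& encS T0 = encS T0 ∧ n < 2 ^ 24 := by decide +kernel

theorem maskA_spec : isCode maskA = true ∧ popc maskA = 8 ∧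
    maskA &&& encS T0 = encS (T0.erase (some 0)) ∧ maskA < 2 ^ 24 := by decide +kernel

theorem maskB_spec : isCode maskB = true ∧ popc maskB = 8 ∧
    maskB &&& encS T0 = encS (T0.erase none) ∧ maskB < 2 ^ 24 := by decide +kernel

theorem mask_octad {n : ℕ} (h1 : isCode n = true) (h2 : popc n = 8) (h4 : n < 2 ^ 24) :
    decS n ∈ octads := by
  rw [mem_octads, encS_decS h4]; exact ⟨h1, h2⟩

theorem decS_xor (a b : ℕ) : decS (a ^^^ b) = decS a ∆ decS b := by
  ext p
  simp only [decS, Finset.mem_filter, Finset.mem_univ, true_and, Finset.mem_symmDiff,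
    Nat.testBit_xor]
  cases a.testBit (idx p).val <;> cases b.testBit (idx p).val <;> simp

theorem decS_inter {n : ℕ} {u v : Finset GolayPt} (hn : n < 2 ^ 24)
    (h : n &&& encS u = encS v) : decS n ∩ u = v :=
  encS_injective (by rw [encS_inter, encS_decS hn, h])

theorem inter_symmDiff_mod {α : Type*} [DecidableEq α] (b u v : Finset α) :
    (b ∩ (u ∆ v)).card % 2 = ((b ∩ u).card + (b ∩ v).card) % 2 := by
  have h := card_symmDiff_add (b ∩ u) (b ∩ v)
  rw [show (b ∩ u) ∆ (b ∩ v) = b ∩ (u ∆ v) from (inf_symmDiff_distrib_left b u v).symm] at h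
  omega

theorem mem_codeSets_of_orth {c : Finset GolayPt}
    (h : ∀ u ∈ codeSets, (c ∩ u).card % 2 = 0) : c ∈ codeSets := by
  have hG : CfsgLib.Combin.AbstractGolay.IsGolay golayCode := by
    refine ⟨card_golayPt, finrank_golayCode, fun v hv w hw => self_orthogonal hv hw, fun w hw hne => ?_⟩
    rw [hammingNorm_eq_card_support₂]
    refine eight_le_card_support ⟨w, hw, rfl⟩ ?_
    by_contra hem
    apply hne
    funext p
    by_contra hp
    exact hem ⟨p, by simpa [support₂] using hp⟩
  refine ⟨fun p => if p ∈ c then 1 else 0, CfsgLib.Combin.AbstractGolay.mem_of_orth hG _ ?_, ?_⟩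
  · intro w hw
    rw [sum_mul_eq_card]
    have hs : support₂ (fun p => if p ∈ c then (1 : ZMod 2) else 0) = c := by
      ext p; simp [support₂]
    rw [hs, ZMod.natCast_eq_zero_iff, Nat.dvd_iff_mod_eq_zero]
    exact h _ ⟨w, hw, rfl⟩
  · ext p; simp [support₂]

theorem even_of_even_spanning {c : Finset GolayPt}
    (h : ∀ n ∈ lineMasks ++ [maskA, maskB], (c ∩ decS n).card % 2 = 0) : c ∈ codeSets := by
  let P : ℕ → Prop := fun n => (c ∩ decS n).card % 2 = 0
  have hx : ∀ a b, P a → P b → P (a ^^^ b) := by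
    intro a b ha hb
    show (c ∩ decS (a ^^^ b)).card % 2 = 0
    rw [decS_xor, inter_symmDiff_mod, Nat.add_mod, ha, hb]
  have h0 : P 0 := by
    show (c ∩ decS 0).card % 2 = 0
    simp [decS]
  have hgens : ∀ g ∈ gens, P g := by
    intro g hg
    rw [← gens_span, List.mem_map] at hg
    obtain ⟨k, -, rfl⟩ := hg
    exact spanWord_induction _ h0 hx h k
  apply mem_codeSets_of_orth
  intro u hu
  obtain ⟨k, -, hk⟩ := exists_codeWord (mem_supports.mp hu)
  have := spanWord_induction gens h0 hx hgens k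
  rw [show spanWord gens k = codeWord k from rfl, hk] at this
  simpa [P] using this

/-- The admissible corrections. -/
def IsEvenPart (E : Finset GolayPt) : Prop := E = ∅ ∨ ∃ p ∈ T0, E = T0.erase p

theorem IsEvenPart.subset {E : Finset GolayPt} (h : IsEvenPart E) : E ⊆ T0 := by
  rcases h with rfl | ⟨p, -, rfl⟩
  · exact Finset.empty_subset _
  · exact Finset.erase_subset _ _

/-- A set meeting all octads through the base triple evenly is in the code up to an even part
of the triple. -/
theorem exists_correction {b : Finset GolayPt}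
    (h : ∀ o ∈ octads, T0 ⊆ o → (b ∩ o).card % 2 = 0) :
    ∃ E, IsEvenPart E ∧ b ∆ E ∈ codeSets := by
  have key : ∀ E : Finset GolayPt, IsEvenPart E →
      (b ∩ decS maskA).card % 2 = (E ∩ decS maskA).card % 2 →
      (b ∩ decS maskB).card % 2 = (E ∩ decS maskB).card % 2 → b ∆ E ∈ codeSets := by
    intro E hE hA hB
    have hcomm : ∀ u, ((b ∆ E) ∩ u).card % 2 = ((b ∩ u).card + (E ∩ u).card) % 2 := fun u => by
      rw [Finset.inter_comm, inter_symmDiff_mod, Finset.inter_comm u, Finset.inter_comm u]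
    apply even_of_even_spanning
    intro n hn
    rw [List.mem_append] at hn
    rcases hn with hn | hn
    · obtain ⟨h1, h2, h3, h4⟩ := lineMasks_spec n hn
      have hT : T0 ⊆ decS n := by
        have := decS_inter h4 h3
        exact this ▸ Finset.inter_subset_left
      have hb := h _ (mask_octad h1 h2 h4) hT
      have hE2 : (E ∩ decS n).card % 2 = 0 := by
        rw [Finset.inter_eq_left.mpr (hE.subset.trans hT)]
        rcases hE with rfl | ⟨p, hp, rfl⟩
        · rfl
        · rw [Finset.card_erase_of_mem hp, card_T0]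
      rw [hcomm]; omega
    · simp only [List.mem_cons, List.not_mem_nil, or_false] at hn
      rw [hcomm]
      rcases hn with rfl | rfl <;> omega
  have val : ∀ E : Finset GolayPt, E ⊆ T0 →
      (E ∩ decS maskA).card = (E ∩ T0.erase (some 0)).card ∧
        (E ∩ decS maskB).card = (E ∩ T0.erase none).card := by
    intro E hE
    constructor
    · rw [← decS_inter maskA_spec.2.2.2 maskA_spec.2.2.1, ← Finset.inter_assoc]
      rw [Finset.inter_eq_left.mpr (Finset.inter_subset_left.trans hE)]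
    · rw [← decS_inter maskB_spec.2.2.2 maskB_spec.2.2.1, ← Finset.inter_assoc]
      rw [Finset.inter_eq_left.mpr (Finset.inter_subset_left.trans hE)]
  have fin : ∀ x y : ℕ, x < 2 → y < 2 → ∃ E : Finset GolayPt, IsEvenPart E ∧
      (E ∩ T0.erase (some 0)).card % 2 = x ∧ (E ∩ T0.erase none).card % 2 = y := by
    intro x y hx hy
    interval_cases x <;> interval_cases y
    · exact ⟨∅, Or.inl rfl, by decide, by decide⟩
    · exact ⟨T0.erase (some 0), Or.inr ⟨_, by decide, rfl⟩, by decide, by decide⟩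
    · exact ⟨T0.erase none, Or.inr ⟨_, by decide, rfl⟩, by decide, by decide⟩
    · exact ⟨T0.erase (some 1), Or.inr ⟨_, by decide, rfl⟩, by decide, by decide⟩
  obtain ⟨E, hE, hx, hy⟩ := fin _ _ (Nat.mod_lt (b ∩ decS maskA).card two_pos)
    (Nat.mod_lt (b ∩ decS maskB).card two_pos)
  obtain ⟨v1, v2⟩ := val E hE.subset
  exact ⟨E, hE, key E hE (by omega) (by omega)⟩

variable {W : Finset GolayPt} {B : Set (Finset GolayPt)}

/-- An 8-set with correction gives an octad unless two points are lost. -/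
theorem mem_octads_of_correction {b E : Finset GolayPt} (hb : b.card = 8) (hE : IsEvenPart E)
    (h : b ∆ E ∈ codeSets) : (b ∆ E).card = 8 → b ∆ E ∈ octads := fun h8 => ⟨h, h8⟩

theorem not_subset_correction {b E : Finset GolayPt} (hb : b.card = 8) (hE : E.card = 2)
    (hsub : E ⊆ b) : b ∆ E ∉ codeSets := by
  intro h
  have h6 : (b ∆ E).card = 6 := by
    have := card_symmDiff_add b E
    rw [Finset.inter_eq_right.mpr hsub] at this
    omega
  have := card_support h
  omega

theorem card_erase_T0 {p : GolayPt} (hp : p ∈ T0) : (T0.erase p).card = 2 := by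
  rw [Finset.card_erase_of_mem hp, card_T0]

theorem erase_inter_erase {p q : GolayPt} (hp : p ∈ T0) (hq : q ∈ T0) :
    ((T0.erase p) ∩ (T0.erase q)).card % 2 = if p = q then 0 else 1 := by
  revert p q
  decide

theorem erase_symmDiff_erase {p q : GolayPt} (hp : p ∈ T0) (hq : q ∈ T0) (hne : p ≠ q) :
    ∃ r ∈ T0, (T0.erase p) ∆ (T0.erase q) = T0.erase r := by
  revert p q
  decide

theorem exists_two_pairs_or_eq : ∀ U ∈ T0.powerset, U.card ≤ 2 →
    (∃ p ∈ T0, ∃ p' ∈ T0, p ≠ p' ∧ p ∉ U ∧ p' ∉ U) ∨ ∃ p ∈ T0, U = T0.erase p := by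
  intro U hU
  have key : T0.powerset.filter (fun U => U.card ≤ 2 →
      (∃ p ∈ T0, ∃ p' ∈ T0, p ≠ p' ∧ p ∉ U ∧ p' ∉ U) ∨ ∃ p ∈ T0, U = T0.erase p) = T0.powerset := by
    decide +kernel
  rw [← key, Finset.mem_filter] at hU
  exact hU.2

variable (hB : Completes W B) (hW : W.card ≤ 2) (hWT : W ⊆ T0)
  (hline : ∀ o, T0 ⊆ o → (o ∈ B ↔ o ∈ octads ∧ W ⊆ o))

include hB hW hWT hline

theorem even_lines {b : Finset GolayPt} (hb : b ∈ B) :
    ∃ E, IsEvenPart E ∧ b ∆ E ∈ codeSets :=
  exists_correction fun o ho hT => hB.even_inter card_golayPt hW hb ((hline o hT).mpr ⟨ho, hWT.trans hT⟩)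

/-- A member meeting the triple in a pair corresponds to an octad meeting it in some pair and
with the same part outside. -/
theorem exists_octad_of_pair {b : Finset GolayPt} (hb : b ∈ B) {p : GolayPt} (hp : p ∈ T0)
    (hbp : b ∩ T0 = T0.erase p) :
    ∃ q ∈ T0, ∃ o ∈ octads, o ∩ T0 = T0.erase q ∧ o \ T0 = b \ T0 := by
  obtain ⟨E, hE, hcode⟩ := even_lines hB hW hWT hline hb
  have hb8 := (hB.1 b hb).1
  have hout : (b ∆ E) \ T0 = b \ T0 := by
    ext x
    have hsubx : x ∈ E → x ∈ T0 := fun h => hE.subset h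
    simp only [Finset.mem_sdiff, Finset.mem_symmDiff]
    tauto
  have hin : (b ∆ E) ∩ T0 = (T0.erase p) ∆ E := by
    rw [← hbp]
    ext x
    have hsubx : x ∈ E → x ∈ T0 := fun h => hE.subset h
    simp only [Finset.mem_inter, Finset.mem_symmDiff]
    tauto
  obtain ⟨q, hq, hqeq⟩ : ∃ q ∈ T0, (T0.erase p) ∆ E = T0.erase q := by
    rcases hE with rfl | ⟨r, hr, rfl⟩
    · exact ⟨p, hp, symmDiff_bot _⟩
    · by_cases hpr : p = r
      · subst hpr
        exact absurd hcode
          (not_subset_correction hb8 (card_erase_T0 hp) (hbp ▸ Finset.inter_subset_left))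
      · exact erase_symmDiff_erase hp hr hpr
  refine ⟨q, hq, b ∆ E, ⟨hcode, ?_⟩, hin.trans hqeq, hout⟩
  have h1 := Finset.card_sdiff_add_card_inter (b ∆ E) T0
  have h2 := Finset.card_sdiff_add_card_inter b T0
  rw [hout, hin, hqeq, card_erase_T0 hq] at h1
  rw [hbp, card_erase_T0 hp] at h2
  omega

/-- Every admissible pair occurs. -/
theorem exists_pair_member {p : GolayPt} (hp : p ∈ T0) (hpW : p ∉ W) :
    ∃ b ∈ B, b ∩ T0 = T0.erase p := by
  -- an octad through the pair avoiding `p`
  have hS := isSteinerSystem_octads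
  obtain ⟨o, ho, hpair, hpo⟩ : ∃ o ∈ octads, T0.erase p ⊆ o ∧ p ∉ o := by
    apply CfsgLib.Combin.SteinerCount.exists_block_through_avoiding
    rw [CfsgLib.Combin.SteinerCount.card_blocksThrough_five_eight card_golayPt hS _
        (by rw [Finset.insert_erase hp, card_T0]; norm_num),
      CfsgLib.Combin.SteinerCount.card_blocksThrough_five_eight card_golayPt hS _
        (by rw [card_erase_T0 hp]; norm_num),
      Finset.insert_erase hp, card_T0, card_erase_T0 hp]
    decide
  obtain ⟨s, hsub, hso, hs⟩ := Finset.exists_subsuperset_card_eq hpair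
    (by rw [card_erase_T0 hp]; norm_num : (T0.erase p).card ≤ 5)
    (by rw [card_of_mem_octads ho]; norm_num)
  have hWs : W ⊆ s := fun x hx => hsub (Finset.mem_erase.mpr ⟨fun h => hpW (h ▸ hx), hWT hx⟩)
  obtain ⟨b, ⟨hb, hsb⟩, -⟩ := hB.2 s hs hWs
  refine ⟨b, hb, ?_⟩
  apply Finset.Subset.antisymm
  · intro x hx
    obtain ⟨hxb, hxT⟩ := Finset.mem_inter.mp hx
    refine Finset.mem_erase.mpr ⟨?_, hxT⟩
    rintro rfl
    have hT : T0 ⊆ b := by
      intro y hy
      by_cases hyp : y = x
      · exact hyp ▸ hxb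
      · exact hsb (hsub (Finset.mem_erase.mpr ⟨hyp, hy⟩))
    have hbO := ((hline b hT).mp hb).1
    have hbo : b = o := octad_eq_of_five_le hbO ho
      (hs ▸ Finset.card_le_card (Finset.subset_inter hsb hso))
    exact hpo (hbo ▸ hxb)
  · intro x hx
    exact Finset.mem_inter.mpr ⟨hsb (hsub hx), (Finset.mem_erase.mp hx).2⟩

/-- A family whose pair members are octads consists of octads. -/
theorem eq_through_of_pairs (hpairs : ∀ b ∈ B, ∀ p ∈ T0, b ∩ T0 = T0.erase p → b ∈ octads) :
    B = through W octads := by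
  refine hB.eq_of_le (completes_through isSteinerSystem_octads W) (by omega) fun b hb =>
    ⟨?_, (hB.1 b hb).2⟩
  obtain ⟨E, hE, hcode⟩ := even_lines hB hW hWT hline hb
  rcases hE with rfl | ⟨r, hr, rfl⟩
  · rw [← Finset.bot_eq_empty, symmDiff_bot] at hcode
    exact ⟨hcode, (hB.1 b hb).1⟩
  exfalso
  have key : ∀ p ∈ T0, p ∉ W → p = r := by
    intro p hp hpW
    obtain ⟨o, hoB, ho⟩ := exists_pair_member hB hW hWT hline hp hpW
    have hoO := hpairs o hoB p hp ho
    have h1 := hB.even_inter card_golayPt hW hb hoB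
    obtain ⟨k, hk⟩ := even_card_inter hcode (mem_supports_of_mem_octads hoO)
    rw [Finset.inter_comm] at hk
    have h2 := inter_symmDiff_mod o b (T0.erase r)
    rw [hk, Finset.inter_comm o b] at h2
    have h3 : o ∩ T0.erase r = T0.erase p ∩ T0.erase r := by
      rw [← ho, Finset.inter_assoc, Finset.inter_eq_right.mpr (Finset.erase_subset r T0)]
    have h4 := erase_inter_erase hp hr
    rw [h3] at h2
    by_contra hne
    rw [if_neg hne] at h4
    omega
  rcases exists_two_pairs_or_eq W (Finset.mem_powerset.mpr hWT) hW with ⟨p, hp, p', hp', hne, h1, h2⟩ | ⟨p, hp, hWp⟩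
  · exact hne ((key p hp h1).trans (key p' hp' h2).symm)
  · have hpW : p ∉ W := by rw [hWp]; simp
    obtain rfl := key p hp hpW
    exact not_subset_correction (hB.1 b hb).1 (card_erase_T0 hp) (hWp ▸ (hB.1 b hb).2) hcode

omit hB hW hWT hline in
/-- Extending a partial injection of the triple to a permutation fixing everything else. -/
theorem exists_perm_extend (S : Finset GolayPt) (hS : S ⊆ T0) (q : GolayPt → GolayPt)
    (hq : ∀ p ∈ S, q p ∈ T0) (hinj : Set.InjOn q S) :
    ∃ π : Equiv.Perm GolayPt, (∀ x, x ∉ T0 → π x = x) ∧ (∀ x ∈ T0, π x ∈ T0) ∧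
      ∀ p ∈ S, π p = q p := by
  let f : {x : T0 // (x : GolayPt) ∈ S} → T0 := fun x => ⟨q x.1.1, hq _ x.2⟩
  have hf : Function.Injective f := fun x y h =>
    Subtype.ext (Subtype.ext (hinj x.2 y.2 (congrArg Subtype.val h)))
  let e0 : {x : T0 // (x : GolayPt) ∈ S} ≃ {y : T0 // y ∈ Set.range f} := Equiv.ofInjective f hf
  let e : Equiv.Perm T0 := e0.extendSubtype
  refine ⟨Equiv.Perm.ofSubtype e, fun x hx => Equiv.Perm.ofSubtype_apply_of_not_mem e hx,
    fun x hx => ?_, fun p hp => ?_⟩
  · rw [Equiv.Perm.ofSubtype_apply_of_mem e hx]; exact (e ⟨x, hx⟩).2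
  · rw [Equiv.Perm.ofSubtype_apply_of_mem e (hS hp)]
    have := Equiv.extendSubtype_apply_of_mem e0 ⟨p, hS hp⟩ hp
    exact congrArg Subtype.val this

/-- Main rigidity statement. -/
theorem rigid :
    ∃ π : Equiv.Perm GolayPt, (∀ x, x ∉ T0 → π x = x) ∧ (∀ x ∈ T0, π x ∈ T0) ∧
      (fun b : Finset GolayPt => b.map π.toEmbedding) '' B = through (W.map π.toEmbedding) octads ∧
      ∀ p ∈ T0, p ∉ W → (∃ b ∈ B, b ∈ octads ∧ b ∩ T0 = T0.erase p) → π p = p := by
  classical
  have hex : ∀ p : GolayPt, ∃ q, p ∈ T0 \ W → q ∈ T0 ∧ ∃ b ∈ B, b ∩ T0 = T0.erase p ∧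
      ∃ o ∈ octads, o ∩ T0 = T0.erase q ∧ o \ T0 = b \ T0 := by
    intro p
    by_cases hp : p ∈ T0 \ W
    · obtain ⟨hpT, hpW⟩ := Finset.mem_sdiff.mp hp
      obtain ⟨b, hb, hbp⟩ := exists_pair_member hB hW hWT hline hpT hpW
      obtain ⟨q, hq, o, ho, h1, h2⟩ := exists_octad_of_pair hB hW hWT hline hb hpT hbp
      exact ⟨q, fun _ => ⟨hq, b, hb, hbp, o, ho, h1, h2⟩⟩
    · exact ⟨p, fun h => absurd h hp⟩
  choose q hq using hex
  -- the basic parity rule
  have parity : ∀ b ∈ B, ∀ b' ∈ B, ∀ p ∈ T0, ∀ p' ∈ T0, b ∩ T0 = T0.erase p →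
      b' ∩ T0 = T0.erase p' → ∀ o ∈ octads, ∀ o' ∈ octads, ∀ r ∈ T0, ∀ r' ∈ T0,
      o ∩ T0 = T0.erase r → o' ∩ T0 = T0.erase r' → o \ T0 = b \ T0 → o' \ T0 = b' \ T0 →
      (p = p' ↔ r = r') := by
    intro b hb b' hb' p hp p' hp' hbp hbp' o ho o' ho' r hr r' hr' hor hor' hs hs'
    have h1 := hB.even_inter card_golayPt hW hb hb'
    obtain ⟨k, hk⟩ := even_card_inter (mem_supports_of_mem_octads ho) (mem_supports_of_mem_octads ho')
    have split : ∀ u v : Finset GolayPt, (u ∩ v).card =
        ((u \ T0) ∩ (v \ T0)).card + ((u ∩ T0) ∩ (v ∩ T0)).card := by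
      intro u v
      rw [← Finset.card_sdiff_add_card_inter (u ∩ v) T0]
      congr 2 <;> (ext x; simp only [Finset.mem_sdiff, Finset.mem_inter]; tauto)
    rw [split, hbp, hbp'] at h1
    rw [split, hor, hor', hs, hs'] at hk
    have e1 := erase_inter_erase hp hp'
    have e2 := erase_inter_erase hr hr'
    constructor <;> intro h <;> by_contra hne
    · rw [if_pos h] at e1; rw [if_neg hne] at e2; omega
    · rw [if_neg hne] at e1; rw [if_pos h] at e2; omega
  have hsd : ∀ p ∈ T0 \ W, q p ∈ T0 := fun p hp => (hq p hp).1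
  obtain ⟨π, hπout, hπin, hπq⟩ := exists_perm_extend (T0 \ W) Finset.sdiff_subset q hsd (by
    intro p hp p' hp' hpp'
    obtain ⟨hqT, b, hb, hbp, o, ho, h1, h2⟩ := hq p hp
    obtain ⟨hqT', b', hb', hbp', o', ho', h1', h2'⟩ := hq p' hp'
    exact (parity b hb b' hb' p (Finset.mem_sdiff.mp hp).1 p' (Finset.mem_sdiff.mp hp').1 hbp hbp'
      o ho o' ho' _ hqT _ hqT' h1 h1' h2 h2').mpr hpp')
  refine ⟨π, hπout, hπin, ?_, ?_⟩
  · have hmapT : ∀ x, π x ∈ T0 ↔ x ∈ T0 :=
      fun x => ⟨fun h => by_contra fun hx => hx (hπout x hx ▸ h), hπin x⟩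
    have hmap : ∀ (u : Finset GolayPt) x, x ∈ u.map π.toEmbedding → x ∉ T0 → x ∈ u := by
      intro u x hx hxT
      obtain ⟨y, hy, rfl⟩ := Finset.mem_map.mp hx
      simp only [Equiv.toEmbedding_apply] at hxT ⊢
      rwa [hπout y fun h => hxT (hπin y h)]
    have hinT : ∀ u : Finset GolayPt, (u.map π.toEmbedding) ∩ T0 = (u ∩ T0).map π.toEmbedding := by
      intro u
      ext x
      simp only [Finset.mem_inter, Finset.mem_map, Equiv.toEmbedding_apply]
      constructor
      · rintro ⟨⟨y, hy, rfl⟩, hT⟩; exact ⟨y, ⟨hy, (hmapT y).mp hT⟩, rfl⟩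
      · rintro ⟨y, ⟨hy, hT⟩, rfl⟩; exact ⟨⟨y, hy, rfl⟩, (hmapT y).mpr hT⟩
    have hout' : ∀ u : Finset GolayPt, (u.map π.toEmbedding) \ T0 = u \ T0 := by
      intro u
      ext x
      simp only [Finset.mem_sdiff, Finset.mem_map, Equiv.toEmbedding_apply]
      constructor
      · rintro ⟨⟨y, hy, rfl⟩, hT⟩
        have hy' : y ∉ T0 := fun h => hT (hπin y h)
        rw [hπout y hy'] at hT ⊢
        exact ⟨hy, hT⟩
      · rintro ⟨hx, hT⟩; exact ⟨⟨x, hx, hπout x hT⟩, hT⟩
    have hfix : ∀ u : Finset GolayPt, T0 ⊆ u → u.map π.toEmbedding = u := by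
      intro u hu
      apply Finset.eq_of_subset_of_card_le ?_ (Finset.card_map _).ge
      intro x hx
      by_cases hxT : x ∈ T0
      · exact hu hxT
      · exact hmap u x hx hxT
    have hWT' : W.map π.toEmbedding ⊆ T0 := by
      intro x hx
      obtain ⟨y, hy, rfl⟩ := Finset.mem_map.mp hx
      exact hπin y (hWT hy)
    apply eq_through_of_pairs (hB.map π) (by rw [Finset.card_map]; exact hW) hWT'
    · intro o hT
      constructor
      · rintro ⟨b, hb, hbo⟩
        simp only at hbo
        have hbT : T0 ⊆ b := by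
          intro x hx
          have := hT ((hmapT x).mpr hx)
          rw [← hbo, Finset.mem_map_equiv, Equiv.symm_apply_apply] at this
          exact this
        rw [hfix b hbT] at hbo
        subst hbo
        exact ⟨((hline b hbT).mp hb).1, hWT'.trans hT⟩
      · rintro ⟨ho, -⟩
        exact ⟨o, (hline o hT).mpr ⟨ho, hWT.trans hT⟩, hfix o hT⟩
    · rintro _ ⟨b, hb, rfl⟩ r hr hbr
      rw [hinT] at hbr
      obtain ⟨p, hp, rfl⟩ : ∃ p ∈ T0, π p = r :=
        ⟨π.symm r, (hmapT _).mp (by simpa using hr), by simp⟩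
      have hbp : b ∩ T0 = T0.erase p := by
        apply Finset.map_injective π.toEmbedding
        rw [hbr, Finset.map_erase, hfix T0 (Finset.Subset.refl _)]
        rfl
      have hpW : p ∉ W := fun h => by
        have : p ∈ b ∩ T0 := Finset.mem_inter.mpr ⟨(hB.1 b hb).2 h, hp⟩
        rw [hbp] at this
        simp at this
      obtain ⟨hqT, b', hb', hbp', o', ho', h1', h2'⟩ := hq p (Finset.mem_sdiff.mpr ⟨hp, hpW⟩)
      obtain ⟨q2, hq2, o, ho, h1, h2⟩ := exists_octad_of_pair hB hW hWT hline hb hp hbp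
      have := (parity b hb b' hb' p hp p hp hbp hbp' o ho o' ho' q2 hq2 _ hqT h1 h1' h2 h2').mp rfl
      subst this
      have heq : b.map π.toEmbedding = o := by
        rw [← Finset.sdiff_union_inter (b.map π.toEmbedding) T0, hout', hinT, hbr,
          hπq p (Finset.mem_sdiff.mpr ⟨hp, hpW⟩), ← h1, ← h2, Finset.sdiff_union_inter]
      show b.map π.toEmbedding ∈ octads
      rw [heq]; exact ho
  · rintro p hp hpW ⟨b, hb, hbO, hbp⟩
    obtain ⟨hqT, b', hb', hbp', o', ho', h1', h2'⟩ := hq p (Finset.mem_sdiff.mpr ⟨hp, hpW⟩)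
    rw [hπq p (Finset.mem_sdiff.mpr ⟨hp, hpW⟩)]
    exact ((parity b hb b' hb' p hp p hp hbp hbp' b hbO o' ho' p hp _ hqT hbp h1' rfl h2').mp rfl).symm

end CfsgLib.Steiner.Rigidity
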