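import Mathlib
import Cfsg.Agent.Lib.Golay.M24Group
import Cfsg.Agent.Lib.Steiner.Iso
import Cfsg.Agent.Lib.Steiner.Rigidity

/-!
The large Witt designs: uniqueness (given uniqueness of the plane of order four) and
automorphism groups.
-/

set_option autoImplicit false

namespace CfsgLib.Steiner.Witt

open Cfsg CfsgLib.Golay CfsgLib.Steiner.Rigidity
open scoped Pointwise

/-- The standard system derived at `W`, on the points outside `W`. -/
def std (W : Finset GolayPt) : Set (Finset {x // x ∉ W}) := strip W (through W octads)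

/-- Uniqueness of the plane of order four, on the points outside the base triple. -/
def PlaneUnique : Prop :=
  ∀ L L' : Set (Finset {x : GolayPt // x ∉ T0}),
    IsSteinerSystem 2 5 L → IsSteinerSystem 2 5 L' → SetSystemIso L L'

theorem subtype_injOn {W b c : Finset GolayPt} (hb : W ⊆ b) (hc : W ⊆ c)
    (h : (b.subtype fun x => x ∉ W) = c.subtype fun x => x ∉ W) : b = c := by
  ext x
  by_cases hx : x ∈ W
  · exact ⟨fun _ => hc hx, fun _ => hb hx⟩
  · have := congrArg (fun u => (⟨x, hx⟩ : {x // x ∉ W}) ∈ u) h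
    simpa using this

theorem mem_strip_iff {W b : Finset GolayPt} {B : Set (Finset GolayPt)} (hB : ∀ c ∈ B, W ⊆ c)
    (hb : W ⊆ b) : (b.subtype fun x => x ∉ W) ∈ strip W B ↔ b ∈ B := by
  constructor
  · rintro ⟨c, hc, h⟩
    exact subtype_injOn (hB c hc) hb h ▸ hc
  · exact fun h => ⟨b, h, rfl⟩

/-- Extension of a permutation of the complement. -/
noncomputable def extend {W : Finset GolayPt} (g : Equiv.Perm {x // x ∉ W}) : Equiv.Perm GolayPt :=
  Equiv.Perm.ofSubtype g

theorem extend_fix {W : Finset GolayPt} (g : Equiv.Perm {x // x ∉ W}) {x : GolayPt} (hx : x ∈ W) :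
    extend g x = x := Equiv.Perm.ofSubtype_apply_of_not_mem g (not_not.mpr hx)

theorem extend_apply {W : Finset GolayPt} (g : Equiv.Perm {x // x ∉ W}) (x : {x // x ∉ W}) :
    extend g x = g x := Equiv.Perm.ofSubtype_apply_coe g x

theorem map_eq_self_of_fix {W : Finset GolayPt} {σ : Equiv.Perm GolayPt} (h : ∀ x ∈ W, σ x = x) :
    W.map σ.toEmbedding = W :=
  Finset.eq_of_subset_of_card_le (fun x hx => by
    obtain ⟨y, hy, rfl⟩ := Finset.mem_map.mp hx
    simpa [h y hy] using hy) (Finset.card_map _).ge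

theorem subtype_map {W b : Finset GolayPt} (σ : Equiv.Perm GolayPt)
    (g : Equiv.Perm {x // x ∉ W}) (h : ∀ x : {x // x ∉ W}, σ x = g x) :
    ((b.map σ.toEmbedding).subtype fun x => x ∉ W) =
      (b.subtype fun x => x ∉ W).image g := by
  ext ⟨x, hx⟩
  simp only [Finset.mem_subtype, Finset.mem_map, Finset.mem_image, Equiv.toEmbedding_apply]
  constructor
  · rintro ⟨y, hy, hxy⟩
    refine ⟨g.symm ⟨x, hx⟩, ?_, g.apply_symm_apply _⟩
    have := h (g.symm ⟨x, hx⟩)
    rw [g.apply_symm_apply] at this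
    rwa [σ.injective (this.trans hxy.symm)]
  · rintro ⟨y, hy, hgy⟩
    exact ⟨y, hy, by rw [h, hgy]⟩

theorem map_map_perm (σ τ : Equiv.Perm GolayPt) (b : Finset GolayPt) :
    (b.map σ.toEmbedding).map τ.toEmbedding = b.map (τ * σ).toEmbedding := by
  rw [Finset.map_map]; rfl

theorem smul_eq_map (σ : Equiv.Perm GolayPt) (b : Finset GolayPt) :
    σ • b = b.map σ.toEmbedding := by
  rw [Finset.map_eq_image]; rfl

theorem map_octads {σ : Equiv.Perm GolayPt} (hσ : σ ∈ M24) :
    (fun b : Finset GolayPt => b.map σ.toEmbedding) '' octads = octads := by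
  rw [M24_eq_setSystemAut_octads] at hσ
  have h : (fun b : Finset GolayPt => σ • b) '' octads = octads := hσ
  simpa only [smul_eq_map] using h

theorem map_through {σ : Equiv.Perm GolayPt} (hσ : σ ∈ M24) (W : Finset GolayPt) :
    (fun b : Finset GolayPt => b.map σ.toEmbedding) '' through W octads =
      through (W.map σ.toEmbedding) octads := by
  ext o
  constructor
  · rintro ⟨b, ⟨hb, hW⟩, rfl⟩
    exact ⟨(Set.ext_iff.mp (map_octads hσ) _).mp ⟨b, hb, rfl⟩, Finset.map_subset_map.mpr hW⟩
  · rintro ⟨ho, hW⟩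
    obtain ⟨b, hb, rfl⟩ := (Set.ext_iff.mp (map_octads hσ) o).mpr ho
    exact ⟨b, ⟨hb, Finset.map_subset_map.mp hW⟩, rfl⟩

/-- A completing family at `W` is equivalent to the standard one. -/
theorem exists_perm (hP : PlaneUnique) {W : Finset GolayPt} (hW : W.card ≤ 2) (hWT : W ⊆ T0)
    {B : Set (Finset GolayPt)} (hB : Completes W B) :
    ∃ h : Equiv.Perm GolayPt, W.map h.toEmbedding = W ∧
      (fun b : Finset GolayPt => b.map h.toEmbedding) '' B = through W octads := by
  have hc3 : T0.card = 3 := card_T0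
  have h1 := (hB.mono hWT).strip_isSteinerSystem (by omega)
  have h2 := (completes_through isSteinerSystem_octads T0).strip_isSteinerSystem (by omega)
  rw [hc3] at h1 h2
  obtain ⟨e, he⟩ := hP _ _ h1 h2
  set g := extend e with hg
  have hgT : ∀ x ∈ T0, g x = x := fun x hx => extend_fix e hx
  have hgW : W.map g.toEmbedding = W := map_eq_self_of_fix fun x hx => hgT x (hWT hx)
  have hB1 : Completes W ((fun b : Finset GolayPt => b.map g.toEmbedding) '' B) :=
    hgW ▸ hB.map g
  have hline : ∀ o, T0 ⊆ o →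
      (o ∈ (fun b : Finset GolayPt => b.map g.toEmbedding) '' B ↔ o ∈ octads ∧ W ⊆ o) := by
    intro o hT
    have hT' : ∀ b : Finset GolayPt, T0 ⊆ b.map g.toEmbedding ↔ T0 ⊆ b := by
      intro b
      conv_lhs => rw [← map_eq_self_of_fix hgT]
      exact Finset.map_subset_map
    have key : o ∈ (fun b : Finset GolayPt => b.map g.toEmbedding) '' B ↔
        (o.subtype fun x => x ∉ T0) ∈ (fun b => b.image e) '' strip T0 (through T0 B) := by
      constructor
      · rintro ⟨b, hb, rfl⟩
        exact ⟨_, ⟨b, ⟨hb, (hT' b).mp hT⟩, rfl⟩, (subtype_map g e (extend_apply e)).symm⟩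
      · rintro ⟨_, ⟨b, ⟨hb, hTb⟩, rfl⟩, hbe⟩
        refine ⟨b, hb, ?_⟩
        simp only at hbe
        rw [← subtype_map g e (extend_apply e)] at hbe
        exact subtype_injOn ((hT' b).mpr hTb) hT hbe
    rw [key, he, mem_strip_iff (fun c hc => hc.2) hT, mem_through]
    exact ⟨fun h => ⟨h.1, hWT.trans hT⟩, fun h => ⟨h.1, hT⟩⟩
  obtain ⟨π, -, hπT, hπ, -⟩ := rigid hB1 hW hWT hline
  obtain ⟨σ, hσ, hσW⟩ := exists_map_eq (L := (W.map π.toEmbedding).toList) (L' := W.toList)
    (Finset.nodup_toList _) (Finset.nodup_toList _) (by simp) (by simp; omega)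
  have hσW' : (W.map π.toEmbedding).map σ.toEmbedding = W := by
    ext x
    conv_rhs => rw [← Finset.mem_toList, ← hσW]
    simp [Finset.mem_toList]
    exact ⟨fun h => ⟨_, h, σ.apply_symm_apply x⟩, fun ⟨a, ha, hax⟩ => by rwa [← hax, σ.symm_apply_apply]⟩
  refine ⟨σ * π * g, ?_, ?_⟩
  · rw [← map_map_perm, hgW, ← map_map_perm, hσW']
  · rw [show (fun b : Finset GolayPt => b.map (σ * π * g).toEmbedding) =
        (fun b => b.map σ.toEmbedding) ∘ (fun b => b.map π.toEmbedding) ∘
          (fun b => b.map g.toEmbedding) from funext fun b => by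
        simp only [Function.comp, map_map_perm, mul_assoc],
      Set.image_comp, Set.image_comp, hπ, map_through hσ, hσW']

/-- Uniqueness: any derived system is isomorphic to the standard one. -/
theorem iso_std (hP : PlaneUnique) {W : Finset GolayPt} (hW : W.card ≤ 2) (hWT : W ⊆ T0)
    {α : Type*} [Fintype α] [DecidableEq α] (hα : Fintype.card α + W.card = 24)
    {t k : ℕ} (ht : t + W.card = 5) (hk : k + W.card = 8)
    {B : Set (Finset α)} (hB : IsSteinerSystem t k B) : SetSystemIso B (std W) := by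
  have hc : Fintype.card α = Fintype.card {x : GolayPt // x ∉ W} := by
    rw [Fintype.card_subtype_compl, card_golayPt, Fintype.card_coe]; omega
  let f0 : α ≃ {x : GolayPt // x ∉ W} := Fintype.equivOfCardEq hc
  let f : α ↪ GolayPt := f0.toEmbedding.trans (Function.Embedding.subtype _)
  have hB' := completes_of_isSteinerSystem hB f W (fun x => by
    constructor
    · exact fun hx => ⟨f0.symm ⟨x, hx⟩, by simp [f]⟩
    · rintro ⟨a, rfl⟩; exact (f0 a).2) ht hk
  obtain ⟨h, hhW, hh⟩ := exists_perm hP hW hWT hB'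
  have hpres : ∀ x, h x ∈ W ↔ x ∈ W := by
    intro x
    conv_lhs => rw [← hhW]
    rw [Finset.mem_map_equiv, Equiv.symm_apply_apply]
  let h0 : Equiv.Perm {x : GolayPt // x ∉ W} := h.subtypePerm fun x => not_congr (hpres x)
  refine ⟨f0.trans h0, ?_⟩
  show _ = strip W (through W octads)
  rw [← hh, strip, Set.image_image, Set.image_image]
  refine Set.image_congr fun b _ => ?_
  rw [subtype_map h h0 (fun x => rfl)]
  ext ⟨x, hx⟩
  simp only [Finset.mem_image, Finset.mem_subtype, Finset.mem_union, Finset.mem_map]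
  constructor
  · rintro ⟨a, ha, hax⟩
    exact ⟨f0 a, Or.inr ⟨a, ha, rfl⟩, hax⟩
  · rintro ⟨⟨y, hy⟩, hy', hhy⟩
    rcases hy' with hy' | ⟨a, ha, hfa⟩
    · exact absurd hy' hy
    · refine ⟨a, ha, ?_⟩
      rw [← hhy, Equiv.trans_apply]
      exact congrArg h0 (Subtype.ext hfa)

/-- Automorphisms of a standard derived system extend to the code's group. -/
theorem exists_extension {W : Finset GolayPt} (hW : W.card ≤ 2) (hWT : W ⊆ T0)
    (a : Equiv.Perm {x // x ∉ W}) (ha : a ∈ setSystemAut (std W)) :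
    ∃ σ ∈ M24, W.map σ.toEmbedding = W ∧ ∀ x : {x // x ∉ W}, σ x = a x := by
  set g := extend a with hg
  have hgW : W.map g.toEmbedding = W := map_eq_self_of_fix fun x hx => extend_fix a hx
  have hthrough : (fun b : Finset GolayPt => b.map g.toEmbedding) '' through W octads =
      through W octads := by
    rw [mem_setSystemAut_iff] at ha
    have hW' : ∀ b : Finset GolayPt, W ⊆ b → W ⊆ b.map g.toEmbedding := fun b hb => by
      rw [← hgW]; exact Finset.map_subset_map.mpr hb
    ext o
    constructor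
    · rintro ⟨b, hb, rfl⟩
      refine (mem_strip_iff (fun c hc => hc.2) (hW' b hb.2)).mp ?_
      rw [subtype_map g a (extend_apply a)]
      exact (Set.ext_iff.mp ha _).mp ⟨_, ⟨b, hb, rfl⟩, rfl⟩
    · intro ho
      obtain ⟨_, ⟨b, hb, rfl⟩, hba⟩ :=
        (Set.ext_iff.mp ha (o.subtype fun x => x ∉ W)).mpr ⟨o, ho, rfl⟩
      refine ⟨b, hb, subtype_injOn (hW' b hb.2) ho.2 ?_⟩
      rw [subtype_map g a (extend_apply a)]
      exact hba
  have hB' : Completes ∅ ((fun b : Finset GolayPt => b.map g.toEmbedding) '' octads) := by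
    simpa using (completes_empty_iff.mpr isSteinerSystem_octads).map g
  have hmem : ∀ o, W ⊆ o →
      (o ∈ (fun b : Finset GolayPt => b.map g.toEmbedding) '' octads ↔ o ∈ octads) := by
    intro o hWo
    constructor
    · rintro ⟨b, hb, rfl⟩
      have hWb : W ⊆ b := by rwa [← hgW, Finset.map_subset_map] at hWo
      exact ((Set.ext_iff.mp hthrough _).mp ⟨b, ⟨hb, hWb⟩, rfl⟩).1
    · intro ho
      obtain ⟨b, hb, hbo⟩ := (Set.ext_iff.mp hthrough o).mpr ⟨ho, hWo⟩
      exact ⟨b, hb.1, hbo⟩
  obtain ⟨π, hπout, hπT, hπ, hπfix⟩ := rigid hB' (by simp) (Finset.empty_subset _) (fun o hT => by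
    rw [hmem o (hWT.trans hT)]; simp)
  have hthrough0 : through ∅ octads = octads := by
    ext o; simp [mem_through]
  rw [Finset.map_empty, hthrough0] at hπ
  have hfix : ∀ p ∈ T0, p ∉ W → π p = p := by
    intro p hp hpW
    apply hπfix p hp (Finset.notMem_empty p)
    obtain ⟨o, ⟨ho, -⟩, hoT⟩ := exists_pair_member
      (completes_through isSteinerSystem_octads ∅) (by simp) (Finset.empty_subset T0)
      (fun o _ => Iff.rfl) hp (Finset.notMem_empty p)
    refine ⟨o, (hmem o ?_).mpr ho, ho, hoT⟩
    intro x hx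
    have : x ∈ o ∩ T0 := by rw [hoT]; exact Finset.mem_erase.mpr ⟨fun h => hpW (h ▸ hx), hWT hx⟩
    exact (Finset.mem_inter.mp this).1
  have hπW : ∀ x, x ∉ W → π x = x := fun x hx =>
    if h : x ∈ T0 then hfix x h hx else hπout x h
  refine ⟨π * g, ?_, ?_, fun x => ?_⟩
  · rw [M24_eq_setSystemAut_octads]
    show (fun b : Finset GolayPt => (π * g) • b) '' octads = octads
    conv_rhs => rw [← hπ]
    rw [Set.image_image]
    exact Set.image_congr fun b _ => by rw [smul_eq_map, map_map_perm]
  · rw [← map_map_perm, hgW]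
    refine Finset.eq_of_subset_of_card_le (fun x hx => ?_) (Finset.card_map _).ge
    obtain ⟨y, hy, rfl⟩ := Finset.mem_map.mp hx
    simp only [Equiv.toEmbedding_apply]
    by_contra hne
    have h := π.injective (hπW _ hne)
    exact hne (by rw [h]; exact hy)
  · show π (g x) = a x
    rw [hg, extend_apply, hπW _ (a x).2]

/-- The subgroup of the code's group fixing `W` setwise. -/
def setStab (W : Finset GolayPt) : Subgroup (Equiv.Perm GolayPt) :=
  M24 ⊓ MulAction.stabilizer (Equiv.Perm GolayPt) W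

theorem mem_setStab {W : Finset GolayPt} {σ : Equiv.Perm GolayPt} :
    σ ∈ setStab W ↔ σ ∈ M24 ∧ W.map σ.toEmbedding = W := by
  rw [setStab, Subgroup.mem_inf]
  refine and_congr Iff.rfl ?_
  rw [MulAction.mem_stabilizer_iff, smul_eq_map]

theorem setStab_preserves {W : Finset GolayPt} (σ : setStab W) (x : GolayPt) :
    (σ : Equiv.Perm GolayPt) x ∈ W ↔ x ∈ W := by
  have h := Finset.mem_map_equiv (s := W) (f := (σ : Equiv.Perm GolayPt))
    (b := (σ : Equiv.Perm GolayPt) x)
  rw [(mem_setStab.mp σ.2).2, Equiv.symm_apply_apply] at h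
  exact h

/-- Restriction to the complement. -/
def restrict (W : Finset GolayPt) : setStab W →* Equiv.Perm {x // x ∉ W} where
  toFun σ := (σ : Equiv.Perm GolayPt).subtypePerm fun x => not_congr (setStab_preserves σ x)
  map_one' := by ext x; rfl
  map_mul' σ τ := by ext x; rfl

theorem restrict_mem {W : Finset GolayPt} (σ : setStab W) :
    restrict W σ ∈ setSystemAut (std W) := by
  obtain ⟨hσ, hσW⟩ := mem_setStab.mp σ.2
  rw [mem_setSystemAut_iff, std, strip, Set.image_image]
  have h := map_through hσ W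
  rw [hσW] at h
  conv_rhs => rw [← h, Set.image_image]
  exact Set.image_congr fun b _ => (subtype_map _ _ fun x => rfl).symm

theorem restrict_injective {W : Finset GolayPt} (hW : W = ∅ ∨ W = {none} ∨ W = {none, some 0}) :
    Function.Injective (restrict W) := by
  rw [injective_iff_map_eq_one]
  intro σ hσ
  have hfix : ∀ x, x ∉ W → (σ : Equiv.Perm GolayPt) x = x := fun x hx =>
    congrArg Subtype.val (congrArg (fun π : Equiv.Perm {x // x ∉ W} => π ⟨x, hx⟩) hσ)
  apply Subtype.ext
  refine Equiv.ext fun x => ?_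
  show (σ : Equiv.Perm GolayPt) x = x
  by_cases hx : x ∈ W
  swap
  · exact hfix x hx
  have hσx : (σ : Equiv.Perm GolayPt) x ∈ W := (setStab_preserves σ x).mpr hx
  rcases hW with rfl | rfl | rfl
  · simp at hx
  · simp only [Finset.mem_singleton] at hx hσx; rw [hσx, hx]
  · obtain ⟨h1, h2, h3, h4⟩ := maskB_spec
    have ho := mask_octad h1 h2 h4
    have hoT := decS_inter h4 h3
    have hinter : decS maskB ∩ ({none, some 0} : Finset GolayPt) = {some 0} := by
      have hs : ({none, some 0} : Finset GolayPt) = T0 ∩ {none, some 0} := by decide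
      rw [hs, ← Finset.inter_assoc, hoT]; decide
    set τ := (σ : Equiv.Perm GolayPt) with hτ
    have hτo : (decS maskB).map τ.toEmbedding ∈ octads :=
      (Set.ext_iff.mp (map_octads (mem_setStab.mp σ.2).1) _).mp ⟨_, ho, rfl⟩
    have heq : (decS maskB).map τ.toEmbedding = decS maskB := by
      apply octad_eq_of_five_le hτo ho
      have hsub : decS maskB \ {none, some 0} ⊆ (decS maskB).map τ.toEmbedding ∩ decS maskB := by
        intro y hy
        obtain ⟨hy1, hy2⟩ := Finset.mem_sdiff.mp hy
        exact Finset.mem_inter.mpr ⟨Finset.mem_map.mpr ⟨y, hy1, hfix y hy2⟩, hy1⟩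
      refine le_trans ?_ (Finset.card_le_card hsub)
      have hc := Finset.card_sdiff_add_card_inter (decS maskB) ({none, some 0} : Finset GolayPt)
      rw [hinter, card_of_mem_octads ho, Finset.card_singleton] at hc
      omega
    have h0 : some 0 ∈ decS maskB := (Finset.mem_inter.mp (hinter ▸ Finset.mem_singleton_self _)).1
    have hτ0 : τ (some 0) = some 0 := by
      have hmem : τ (some 0) ∈ decS maskB ∩ ({none, some 0} : Finset GolayPt) :=
        Finset.mem_inter.mpr ⟨heq ▸ Finset.mem_map_of_mem _ h0,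
          (setStab_preserves σ _).mpr (by simp)⟩
      rw [hinter] at hmem
      exact Finset.mem_singleton.mp hmem
    simp only [Finset.mem_insert, Finset.mem_singleton] at hx hσx
    rcases hx with rfl | rfl
    · rcases hσx with h | h
      · exact h
      · exact absurd (τ.injective (h.trans hτ0.symm)) (by simp)
    · exact hτ0

/-- The automorphism group of a standard derived system is the setwise stabiliser. -/
noncomputable def autEquiv {W : Finset GolayPt}
    (hW : W = ∅ ∨ W = {none} ∨ W = {none, some 0}) : setStab W ≃* setSystemAut (std W) :=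
  MulEquiv.ofBijective ((restrict W).codRestrict _ restrict_mem) ⟨fun σ τ h =>
    restrict_injective hW (congrArg Subtype.val h), fun a => by
    have hW2 : W.card ≤ 2 ∧ W ⊆ T0 := by
      rcases hW with rfl | rfl | rfl <;> constructor <;> decide
    obtain ⟨σ, hσ, hσW, hσa⟩ := exists_extension hW2.1 hW2.2 a.1 a.2
    exact ⟨⟨σ, mem_setStab.mpr ⟨hσ, hσW⟩⟩, Subtype.ext (Equiv.ext fun x =>
      Subtype.ext (hσa x))⟩⟩

theorem autEquiv_apply {W : Finset GolayPt} (hW : W = ∅ ∨ W = {none} ∨ W = {none, some 0})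
    (σ : setStab W) (x : {x // x ∉ W}) :
    ((autEquiv hW σ : Equiv.Perm {x // x ∉ W}) x : GolayPt) = (σ : Equiv.Perm GolayPt) x := rfl

/-- High transitivity of the standard derived systems. -/
theorem isMultiplyPretransitive_std {W : Finset GolayPt}
    (hW : W = ∅ ∨ W = {none} ∨ W = {none, some 0}) {n : ℕ} (hn : n + W.card ≤ 5) :
    MulAction.IsMultiplyPretransitive (setSystemAut (std W)) {x // x ∉ W} n := by
  rw [MulAction.isMultiplyPretransitive_iff]
  intro x y
  have nod : ∀ z : Fin n ↪ {x // x ∉ W}, (W.toList ++ List.ofFn fun i => (z i : GolayPt)).Nodup := by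
    intro z
    refine List.nodup_append.mpr ⟨Finset.nodup_toList W,
      List.nodup_ofFn.mpr (Subtype.val_injective.comp z.injective), ?_⟩
    intro a ha b hb hab
    obtain ⟨i, rfl⟩ := List.mem_ofFn.mp hb
    exact (z i).2 (hab ▸ Finset.mem_toList.mp ha)
  obtain ⟨g, hg, hgL⟩ := exists_map_eq (nod x) (nod y) (by simp) (by simp; omega)
  rw [List.map_append] at hgL
  obtain ⟨hgW, hgx⟩ := List.append_inj hgL (by simp)
  have hfix : ∀ z ∈ W, g z = z := fun z hz => by
    have := List.map_eq_iff.mp hgW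
    exact (List.map_inj_left.mp (hgW.trans (List.map_id _).symm) z (Finset.mem_toList.mpr hz))
  let σ : setStab W := ⟨g, mem_setStab.mpr ⟨hg, map_eq_self_of_fix hfix⟩⟩
  refine ⟨autEquiv hW σ, DFunLike.ext _ _ fun i => ?_⟩
  apply Subtype.ext
  show ((autEquiv hW σ : Equiv.Perm {x // x ∉ W}) (x i) : GolayPt) = y i
  rw [autEquiv_apply]
  rw [List.map_ofFn, List.ofFn_inj] at hgx
  exact congrFun hgx i

end CfsgLib.Steiner.Witt
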