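import Mathlib
import Cfsg.Agent.S5626
import Cfsg.Agent.Lib.Steiner.Witt

/-!
Uniqueness of the large Witt designs.
-/

set_option autoImplicit false

namespace CfsgLib.Steiner.Witt

open Cfsg CfsgLib.Steiner.Rigidity

theorem planeUnique : PlaneUnique := fun L L' hL hL' => by
  have hc : Fintype.card {x : GolayPt // x ∉ T0} = 21 := by
    rw [Fintype.card_subtype_compl, CfsgLib.Golay.card_golayPt, Fintype.card_coe, card_T0]
  exact Cfsg.Agent.S5626.result hc hc hL hL'

universe u v

variable {α : Type u} [Fintype α] [DecidableEq α] {β : Type v} [Fintype β] [DecidableEq β]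
  {B : Set (Finset α)} {B' : Set (Finset β)}

theorem iso_std24 (hα : Fintype.card α = 24) (hB : IsSteinerSystem 5 8 B) :
    SetSystemIso B (std ∅) :=
  iso_std planeUnique (by decide) (by decide) (by simp [hα]) (by rfl) (by rfl) hB

theorem iso_std23 (hα : Fintype.card α = 23) (hB : IsSteinerSystem 4 7 B) :
    SetSystemIso B (std {none}) :=
  iso_std planeUnique (by decide) (by decide) (by simp [hα]) (by rfl) (by rfl) hB

theorem iso_std22 (hα : Fintype.card α = 22) (hB : IsSteinerSystem 3 6 B) :
    SetSystemIso B (std {none, some 0}) :=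
  iso_std planeUnique (by decide) (by decide) (by simp [hα]) (by rfl) (by rfl) hB

/-- Every S(5,8,24) is isomorphic to the octads. -/
theorem iso_octads (hα : Fintype.card α = 24) (hB : IsSteinerSystem 5 8 B) :
    SetSystemIso B octads := by
  refine setSystemIso_trans (iso_std24 hα hB) ⟨Equiv.subtypeUnivEquiv fun x => by simp, ?_⟩
  rw [std, strip, Set.image_image]
  have h : ∀ b : Finset GolayPt, (b.subtype fun x => x ∉ (∅ : Finset GolayPt)).image
      (Equiv.subtypeUnivEquiv fun x => Finset.notMem_empty x) = b := by
    intro b; ext x; simp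
  simp only [h, Set.image_id']
  ext o; simp [mem_through]

end CfsgLib.Steiner.Witt
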