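import Cfsg.Agent.Lib.Steiner.RankThreeHundred
import Cfsg.Agent.Lib.Sporadic.HsOutApp
import Cfsg.Agent.Lib.Sporadic.ConwayPairOrders
import Cfsg.Agent.Lib.Golay.LeechOrbit.Normal
import Cfsg.Agent.Lib.Golay.LeechOrbit.CertHS

/-!
The Higman–Sims group on its hundred minimal vectors, and the recognition theorem.
-/

set_option autoImplicit false

namespace CfsgLib.Steiner.RankThreeHS

open Cfsg CfsgLib.Golay CfsgLib.Golay.LeechOrbit CfsgLib.MonsterType CfsgLib.Sporadic
open CfsgLib.Sporadic.ConwayPairs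

theorem mem_pairStab_iff {γ : Co0} :
    γ ∈ pairStab Spor.leechU' ↔ γ • Spor.leechV = Spor.leechV ∧ γ • vecWL = vecWL := by
  rw [Subgroup.mem_inf, MulAction.mem_stabilizer_iff, MulAction.mem_stabilizer_iff]
  refine and_congr_right fun h => ?_
  rw [vecWL, smul_neg', smul_add', h, neg_inj, add_right_inj]

theorem consStab_eq : consStab cs100 = pairStab Spor.leechU' := by
  ext γ
  rw [mem_pairStab_iff]
  exact consStab2

/-- The hundred vectors. -/
abbrev Pts : Type := {x : leechLattice // x ∈ consSet cs100}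

noncomputable instance : MulAction (pairStab Spor.leechU') Pts where
  smul γ x := ⟨(γ : Co0) • x.1, smul_mem_consSet (by rw [consStab_eq]; exact γ.2) x.2⟩
  one_smul x := Subtype.ext (one_smul Co0 x.1)
  mul_smul γ δ x := Subtype.ext (mul_smul (γ : Co0) δ x.1)

theorem coe_smul (γ : pairStab Spor.leechU') (x : Pts) :
    ((γ • x : Pts) : leechLattice) = (γ : Co0) • x.1 := rfl

instance : MulAction.IsPretransitive (pairStab Spor.leechU') Pts :=
  MulAction.IsPretransitive.mk fun x y => by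
    obtain ⟨γ, hγ, e⟩ := spec100.exists_smul x.2 y.2
    exact ⟨⟨γ, consStab_eq ▸ hγ⟩, Subtype.ext e⟩

theorem finite_pts : Finite Pts :=
  (Set.finite_of_ncard_pos (s := consSet cs100) (by rw [spec100.ncard]; norm_num)).to_subtype

/-- The suborbit cut out by one more inner product. -/
theorem orbit_ncard {r : leechLattice} {k : ℤ} {n : ℕ}
    (h : OrbitSpec [(Spor.leechV, 24), (vecWL, -24), (negU, k)] r n) :
    ∃ b : Pts, (MulAction.orbit (MulAction.stabilizer (pairStab Spor.leechU')
      (⟨root100, spec100.root_mem⟩ : Pts)) b).ncard = n := by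
  have hsub : consSet [(Spor.leechV, 24), (vecWL, -24), (negU, k)] ⊆ consSet cs100 :=
    consSet_mono (by simp [cs100])
  refine ⟨⟨r, hsub h.root_mem⟩, ?_⟩
  refine Eq.trans ?_ h.ncard
  rw [← Set.ncard_image_of_injective _ Subtype.val_injective]
  congr 1
  ext x
  constructor
  · rintro ⟨_, ⟨g, rfl⟩, rfl⟩
    refine smul_mem_consSet (consStab3.mpr ⟨(mem_pairStab_iff.mp g.1.2).1,
      (mem_pairStab_iff.mp g.1.2).2, ?_⟩) h.root_mem
    exact congrArg Subtype.val g.2
  · intro hx
    obtain ⟨γ, hγ, e⟩ := h.trans x hx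
    obtain ⟨h1, h2, h3⟩ := consStab3.mp hγ
    refine ⟨⟨x, hsub hx⟩, ⟨⟨⟨γ, mem_pairStab_iff.mpr ⟨h1, h2⟩⟩, Subtype.ext h3⟩, Subtype.ext e⟩, rfl⟩

theorem isHS_pairStab : Cfsg.IsHS (pairStab Spor.leechU') :=
  isHS_of_card (PairOutApps.card_hs.trans (by norm_num))

instance : FaithfulSMul (pairStab Spor.leechU') Pts := by
  refine ⟨fun {g h} e => ?_⟩
  haveI := isHS_pairStab.1
  rcases IsSimpleGroup.eq_bot_or_eq_top_of_normal
    (MulAction.toPermHom (pairStab Spor.leechU') Pts).ker inferInstance with hk | hk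
  · exact (MonoidHom.ker_eq_bot_iff _).mp hk (Equiv.ext e)
  · exfalso
    have h1 : ∀ (γ : pairStab Spor.leechU') (x : Pts), γ • x = x := fun γ x =>
      congrFun (congrArg DFunLike.coe (MonoidHom.mem_ker.mp (hk ▸ Subgroup.mem_top γ))) x
    haveI := finite_pts
    obtain ⟨x, y, hxy⟩ := (Set.one_lt_ncard_iff (Set.toFinite _)).mp
      (show 1 < (consSet cs100).ncard by rw [spec100.ncard]; norm_num)
    obtain ⟨γ, hγ⟩ := MulAction.exists_smul_eq (pairStab Spor.leechU')
      (⟨x, hxy.1⟩ : Pts) (⟨y, hxy.2.1⟩ : Pts)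
    exact hxy.2.2 (congrArg Subtype.val ((h1 γ _).symm.trans hγ))

/-- `Spor.HS` is the pair stabiliser. -/
theorem nonempty_equiv : Nonempty (pairStab Spor.leechU' ≃* Spor.HS) :=
  ⟨((pairStab Spor.leechU').equivMapOfInjective Co0.subtype Co0.subtype_injective).trans
    (MulEquiv.subgroupCongr (PairOutApps.map_pairStab Spor.leechU'))⟩

/-- Recognition of HS from its rank three action. -/
theorem isoHS_of_rank_three {G Ω : Type*} [Group G] [Finite G] [MulAction G Ω] [FaithfulSMul G Ω]
    [Fintype Ω] [DecidableEq Ω] [MulAction.IsPretransitive G Ω] (hΩ : Fintype.card Ω = 100) (a b c : Ω)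
    (hb : (MulAction.orbit (MulAction.stabilizer G a) b).ncard = 22)
    (hc : (MulAction.orbit (MulAction.stabilizer G a) c).ncard = 77)
    (hst : Nat.card (MulAction.stabilizer G a) = 443520) : Spor.IsoHS G := by
  classical
  haveI := co0_finite
  haveI := isHS_pairStab.1
  haveI := finite_pts
  haveI := Fintype.ofFinite Pts
  have h100 : Fintype.card Pts = 100 := by
    rw [← Nat.card_eq_fintype_card, Nat.card_coe_set_eq]
    exact spec100.ncard
  have hG : Nat.card G = 44352000 := by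
    rw [← (MulAction.stabilizer G a).card_mul_index, MulAction.index_stabilizer_of_transitive, hst,
      Nat.card_eq_fintype_card, hΩ]
  obtain ⟨b', hb'⟩ := orbit_ncard spec22
  obtain ⟨c', hc'⟩ := orbit_ncard spec77
  obtain ⟨f⟩ := RankThreeHundred.nonempty_mulEquiv hΩ h100 a b c _ b' c' hb hc hb' hc' hG isHS_pairStab.2
  obtain ⟨e⟩ := nonempty_equiv
  exact ⟨f.trans e⟩

end CfsgLib.Steiner.RankThreeHS
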