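import Mathlib
import Cfsg.Prelude.Def_Sporadic
import Cfsg.Agent.Lib.Golay.Mathieu
import Cfsg.Agent.Lib.Steiner.WittUnique

/-!
Automorphism groups of the large Witt designs.
-/

set_option autoImplicit false

namespace CfsgLib.Steiner.Witt

open Cfsg CfsgLib.Golay CfsgLib.Steiner.Rigidity
open scoped Pointwise

theorem setStab_singleton : setStab {none} = fixPts [none] := by
  ext σ
  rw [mem_setStab, mem_fixPts]
  simp

theorem isSimpleGroup_setStab_singleton : IsSimpleGroup (setStab {none}) := by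
  rw [setStab_singleton, ← sporM23_eq]; exact isSimpleGroup_sporM23

theorem natCard_setStab_singleton : Nat.card (setStab {none}) = 10200960 := by
  rw [setStab_singleton, ← sporM23_eq]; exact natCard_sporM23

theorem sporM22_le : Spor.M22 ≤ setStab {none, some 0} := by
  rw [sporM22_eq]
  intro σ hσ
  rw [mem_fixPts] at hσ
  rw [mem_setStab]
  refine ⟨hσ.1, map_eq_self_of_fix ?_⟩
  intro x hx
  exact hσ.2 x (by simpa [List.mem_cons, Finset.mem_insert, Finset.mem_singleton] using hx)

theorem index_sporM22 : (Spor.M22.subgroupOf (setStab {none, some 0})).index = 2 := by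
  obtain ⟨g, hg, hgL⟩ := exists_map_eq (L := [none, some 0]) (L' := [some 0, none])
    (by decide) (by decide) rfl (by simp)
  simp only [List.map_cons, List.map_nil, List.cons.injEq, and_true] at hgL
  have hgW : g ∈ setStab {none, some 0} := by
    rw [mem_setStab]
    refine ⟨hg, ?_⟩
    simp [Finset.map_insert, hgL.1, hgL.2, Finset.pair_comm]
  rw [Subgroup.index_eq_two_iff]
  refine ⟨⟨g, hgW⟩, fun b => ?_⟩
  have hb := mem_setStab.mp b.2
  have hb0 : (b : Equiv.Perm GolayPt) none = none ∧ (b : Equiv.Perm GolayPt) (some 0) = some 0 ∨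
      (b : Equiv.Perm GolayPt) none = some 0 ∧ (b : Equiv.Perm GolayPt) (some 0) = none := by
    have h1 := (setStab_preserves b none).mpr (by simp)
    have h2 := (setStab_preserves b (some 0)).mpr (by simp)
    simp only [Finset.mem_insert, Finset.mem_singleton] at h1 h2
    have hne : (b : Equiv.Perm GolayPt) none ≠ (b : Equiv.Perm GolayPt) (some 0) := fun h =>
      absurd ((b : Equiv.Perm GolayPt).injective h) (by simp)
    rcases h1 with h1 | h1 <;> rcases h2 with h2 | h2
    · exact absurd (h1.trans h2.symm) hne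
    · exact Or.inl ⟨h1, h2⟩
    · exact Or.inr ⟨h1, h2⟩
    · exact absurd (h1.trans h2.symm) hne
  rw [Subgroup.mem_subgroupOf, Subgroup.mem_subgroupOf, sporM22_eq, mem_fixPts, mem_fixPts,
    Subgroup.coe_mul]
  simp only [hb.1, mul_mem hb.1 hg, true_and, List.mem_cons, List.not_mem_nil, or_false,
    forall_eq_or_imp, forall_eq, Equiv.Perm.mul_apply, hgL.1, hgL.2]
  rcases hb0 with ⟨h1, h2⟩ | ⟨h1, h2⟩ <;> simp [h1, h2, Xor]

theorem natCard_setStab_pair : Nat.card (setStab {none, some 0}) = 887040 := by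
  rw [← Subgroup.card_mul_index (Spor.M22.subgroupOf (setStab {none, some 0})), index_sporM22,
    Nat.card_congr (Subgroup.subgroupOfEquivOfLe sporM22_le).toEquiv, natCard_sporM22]

universe u

variable {α : Type u} [Fintype α] [DecidableEq α] {B : Set (Finset α)}

theorem exists_aut_equiv {W : Finset GolayPt} (hW : W = ∅ ∨ W = {none} ∨ W = {none, some 0})
    (h : SetSystemIso B (std W)) :
    ∃ (e : α ≃ {x // x ∉ W}) (φ : setSystemAut B ≃* setSystemAut (std W)),
      (∀ (g : setSystemAut B) (x : α),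
        (φ g : Equiv.Perm {x // x ∉ W}) (e x) = e ((g : Equiv.Perm α) x)) ∧
      Nonempty (setSystemAut B ≃* setStab W) := by
  obtain ⟨e, φ, hφ⟩ := exists_setSystemAut_equiv h
  exact ⟨e, φ, hφ, ⟨φ.trans (autEquiv hW).symm⟩⟩

theorem aut_five_eight (hα : Fintype.card α = 24) (hB : IsSteinerSystem 5 8 B) :
    IsM24 (setSystemAut B) ∧ MulAction.IsMultiplyPretransitive (setSystemAut B) α 5 := by
  obtain ⟨e, φ, hφ, ⟨ψ⟩⟩ := exists_aut_equiv (Or.inl rfl) (iso_std24 hα hB)
  have h : setStab ∅ = M24 := by ext σ; simp [mem_setStab]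
  refine ⟨⟨?_, ?_⟩, isMultiplyPretransitive_of_equiv e φ hφ
    (isMultiplyPretransitive_std (Or.inl rfl) (by simp))⟩
  · haveI : IsSimpleGroup (setStab ∅) := by rw [h]; exact isSimpleGroup_M24
    exact isSimpleGroup_of_mulEquiv ψ
  · rw [Nat.card_congr ψ.toEquiv, h]; exact natCard_M24

theorem aut_four_seven (hα : Fintype.card α = 23) (hB : IsSteinerSystem 4 7 B) :
    IsM23 (setSystemAut B) ∧ MulAction.IsMultiplyPretransitive (setSystemAut B) α 4 := by
  obtain ⟨e, φ, hφ, ⟨ψ⟩⟩ := exists_aut_equiv (Or.inr (Or.inl rfl)) (iso_std23 hα hB)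
  refine ⟨⟨?_, ?_⟩, isMultiplyPretransitive_of_equiv e φ hφ
    (isMultiplyPretransitive_std (Or.inr (Or.inl rfl)) (by simp))⟩
  · haveI := isSimpleGroup_setStab_singleton
    exact isSimpleGroup_of_mulEquiv ψ
  · rw [Nat.card_congr ψ.toEquiv]; exact natCard_setStab_singleton

theorem aut_three_six (hα : Fintype.card α = 22) (hB : IsSteinerSystem 3 6 B) :
    Nat.card (setSystemAut B) = 887040 ∧ MulAction.IsMultiplyPretransitive (setSystemAut B) α 3 ∧
      ∃ H : Subgroup (setSystemAut B), H.index = 2 ∧ IsM22 H := by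
  obtain ⟨e, φ, hφ, ⟨ψ⟩⟩ := exists_aut_equiv (Or.inr (Or.inr rfl)) (iso_std22 hα hB)
  refine ⟨by rw [Nat.card_congr ψ.toEquiv]; exact natCard_setStab_pair,
    isMultiplyPretransitive_of_equiv e φ hφ
      (isMultiplyPretransitive_std (Or.inr (Or.inr rfl)) (by simp)),
    (Spor.M22.subgroupOf (setStab {none, some 0})).comap ψ.toMonoidHom, ?_, ?_, ?_⟩
  · rw [Subgroup.index_comap_of_surjective _ ψ.surjective, index_sporM22]
  · haveI := isSimpleGroup_sporM22
    exact isSimpleGroup_of_mulEquiv
      ((MulEquiv.subgroupMap ψ _).trans <| (MulEquiv.subgroupCongr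
        (Subgroup.map_comap_eq_self_of_surjective ψ.surjective _)).trans
        (Subgroup.subgroupOfEquivOfLe sporM22_le))
  · refine (Nat.card_congr ((MulEquiv.subgroupMap ψ _).trans <| (MulEquiv.subgroupCongr
        (Subgroup.map_comap_eq_self_of_surjective ψ.surjective _)).trans
        (Subgroup.subgroupOfEquivOfLe sporM22_le)).toEquiv).trans natCard_sporM22

end CfsgLib.Steiner.Witt
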