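import Mathlib
import Cfsg.Prelude.Def_Sporadic_a

/-!
A verified exhaustive search for Steiner systems with `k = t + 1` on at most twelve points,
with sets encoded as bit masks.
-/

set_option autoImplicit false

namespace CfsgLib.Steiner.Small

variable {n : ℕ}

/-- Mask of a set. -/
def enc (b : Finset (Fin n)) : ℕ := Nat.ofBits fun i : Fin n => decide (i ∈ b)

/-- Set of a mask. -/
def dec (n m : ℕ) : Finset (Fin n) := Finset.univ.filter fun i => m.testBit i.val

theorem testBit_enc (b : Finset (Fin n)) (i : Fin n) : (enc b).testBit i.val = decide (i ∈ b) := by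
  unfold enc; rw [Nat.testBit_ofBits_lt _ _ i.isLt]

theorem testBit_enc_ge (b : Finset (Fin n)) {i : ℕ} (h : n ≤ i) : (enc b).testBit i = false := by
  unfold enc; exact Nat.testBit_ofBits_ge _ _ h

theorem dec_enc (b : Finset (Fin n)) : dec n (enc b) = b := by
  ext i; simp [dec, testBit_enc]

theorem enc_injective : Function.Injective (enc : Finset (Fin n) → ℕ) := fun a b h => by
  rw [← dec_enc a, ← dec_enc b, h]

theorem enc_lt (b : Finset (Fin n)) : enc b < 2 ^ n := Nat.ofBits_lt_two_pow _

theorem enc_ext {b : Finset (Fin n)} {m : ℕ} (h : ∀ i : Fin n, m.testBit i.val = decide (i ∈ b))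
    (h' : ∀ i, n ≤ i → m.testBit i = false) : enc b = m := by
  apply Nat.eq_of_testBit_eq
  intro i
  by_cases hi : i < n
  · rw [testBit_enc b ⟨i, hi⟩, h ⟨i, hi⟩]
  · rw [testBit_enc_ge b (not_lt.mp hi), h' i (not_lt.mp hi)]

theorem dec_xor (a b : ℕ) : dec n (a ^^^ b) = symmDiff (dec n a) (dec n b) := by
  ext i
  simp only [dec, Finset.mem_filter, Finset.mem_univ, true_and, Finset.mem_symmDiff,
    Nat.testBit_xor]
  cases a.testBit i.val <;> cases b.testBit i.val <;> simp

theorem and_eq_iff_subset {a b : Finset (Fin n)} : enc a &&& enc b = enc a ↔ a ⊆ b := by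
  constructor
  · intro h i hi
    have := congrArg (fun m => m.testBit i.val) h
    simpa [Nat.testBit_and, testBit_enc, hi] using this
  · intro h
    symm
    apply enc_ext
    · intro i
      rw [Nat.testBit_and, testBit_enc, testBit_enc, ← Bool.decide_and]
      exact decide_eq_decide.mpr ⟨fun hh => hh.1, fun hh => ⟨hh, h hh⟩⟩
    · intro i hi
      rw [Nat.testBit_and, testBit_enc_ge a hi, Bool.false_and]

theorem enc_insert (j : Fin n) (s : Finset (Fin n)) : enc (insert j s) = enc s ||| 2 ^ j.val := by
  apply enc_ext
  · intro i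
    rw [Nat.testBit_or, testBit_enc, Nat.testBit_two_pow, ← Bool.decide_or]
    exact decide_eq_decide.mpr (by rw [Finset.mem_insert, ← Fin.ext_iff]; tauto)
  · intro i hi
    rw [Nat.testBit_or, testBit_enc_ge s hi, Nat.testBit_two_pow_of_ne (by omega), Bool.or_false]

/-- At most two bits are set. -/
def few (x : ℕ) : Bool :=
  Nat.beq (Nat.land (Nat.land x (x - 1)) ((Nat.land x (x - 1)) - 1)) 0

/-- Already covered. -/
def covered (s : ℕ) (chosen : List ℕ) : Bool := chosen.any fun c => Nat.beq (Nat.land s c) s

/-- The search. -/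
def search (n N : ℕ) (ref : List ℕ) (pm : List ℕ → ℕ → ℕ) (perms : List (List ℕ)) :
    List ℕ → List ℕ → Bool
  | [], chosen =>
    Nat.beq chosen.length N && perms.any fun p => chosen.all fun m => ref.contains (pm p m)
  | s :: rest, chosen =>
    bif covered s chosen then search n N ref pm perms rest chosen
    else (List.range n).all fun j => s.testBit j ||
      (chosen.any (fun c => few (Nat.xor c (Nat.lor s (2 ^ j)))) ||
        search n N ref pm perms rest (Nat.lor s (2 ^ j) :: chosen))

/-- The images of the points under a listed map. -/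
def listFun (n : ℕ) [NeZero n] (p : List ℕ) (j : Fin n) : Fin n := Fin.ofNat n (p.getD j.val 0)

/-- The mask of the preimage under a listed map. -/
def pmap (n : ℕ) (p : List ℕ) (m : ℕ) : ℕ := Nat.ofBits fun j : Fin n => m.testBit (p.getD j.val 0)

theorem enc_map_eq_pmap [NeZero n] (p : List ℕ) (hp : ∀ j : Fin n, p.getD j.val 0 < n)
    (hinj : Function.Injective (listFun n p)) (b : Finset (Fin n)) :
    enc (b.map (Equiv.ofBijective _ ((Finite.injective_iff_bijective).mp hinj)).symm.toEmbedding) =
      pmap n p (enc b) := by
  apply enc_ext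
  · intro j
    unfold pmap
    rw [Nat.testBit_ofBits_lt _ _ j.isLt, testBit_enc b ⟨_, hp j⟩]
    apply decide_eq_decide.mpr
    rw [Finset.mem_map_equiv, Equiv.symm_symm, Equiv.ofBijective_apply]
    have : listFun n p j = ⟨p.getD j.val 0, hp j⟩ := Fin.ext (Nat.mod_eq_of_lt (hp j))
    rw [this]
  · intro i hi
    unfold pmap
    exact Nat.testBit_ofBits_ge _ _ hi

theorem search_sound [NeZero n] {t N : ℕ} {B : Set (Finset (Fin n))}
    (hB : Cfsg.IsSteinerSystem t (t + 1) B) (hcard : B.ncard = N)
    (hfew : ∀ x < 2 ^ n, few x = true → (dec n x).card ≤ 2)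
    {ref : List ℕ} {perms : List (List ℕ)}
    (hperms : ∀ p ∈ perms, (∀ j : Fin n, p.getD j.val 0 < n) ∧ Function.Injective (listFun n p)) :
    ∀ (steps chosen : List ℕ), (∀ s ∈ steps, ∃ S : Finset (Fin n), S.card = t ∧ enc S = s) →
      (∀ m ∈ chosen, ∃ b ∈ B, enc b = m) → chosen.Nodup →
      search n N ref (pmap n) perms steps chosen = true →
      ∃ σ : Equiv.Perm (Fin n), ∀ b ∈ B, enc (b.map σ.toEmbedding) ∈ ref := by
  intro steps
  induction steps with
  | nil =>
    intro chosen _ hch hnd h
    simp only [search, Bool.and_eq_true, List.any_eq_true] at h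
    obtain ⟨hlen, p, hp, hall⟩ := h
    have hlen' := Nat.eq_of_beq_eq_true hlen
    refine ⟨(Equiv.ofBijective _ ((Finite.injective_iff_bijective).mp (hperms p hp).2)).symm,
      fun b hb => ?_⟩
    rw [enc_map_eq_pmap p (hperms p hp).1 (hperms p hp).2]
    have hmem : enc b ∈ chosen := by
      have hsub : chosen.toFinset ⊆ (Set.toFinite B).toFinset.image enc := by
        intro m hm
        obtain ⟨c, hc, rfl⟩ := hch m (List.mem_toFinset.mp hm)
        exact Finset.mem_image_of_mem _ ((Set.toFinite B).mem_toFinset.mpr hc)
      have heq := Finset.eq_of_subset_of_card_le hsub (by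
        rw [Finset.card_image_of_injective _ enc_injective, List.toFinset_card_of_nodup hnd,
          ← Set.ncard_eq_toFinset_card B, hcard, hlen'])
      have : enc b ∈ chosen.toFinset := by
        rw [heq]; exact Finset.mem_image_of_mem _ ((Set.toFinite B).mem_toFinset.mpr hb)
      exact List.mem_toFinset.mp this
    exact List.contains_iff_mem.mp (List.all_eq_true.mp hall _ hmem)
  | cons s rest ih =>
    intro chosen hs hch hnd h
    have hrest : ∀ u ∈ rest, ∃ S : Finset (Fin n), S.card = t ∧ enc S = u :=
      fun u hu => hs u (List.mem_cons_of_mem _ hu)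
    simp only [search] at h
    cases hcov : covered s chosen with
    | true => rw [hcov] at h; exact ih chosen hrest hch hnd h
    | false =>
      rw [hcov, cond_false, List.all_eq_true] at h
      obtain ⟨S, hS, rfl⟩ := hs s List.mem_cons_self
      obtain ⟨b, ⟨hb, hSb⟩, -⟩ := hB.2 S hS
      obtain ⟨j, hj⟩ : ∃ j, b \ S = {j} := Finset.card_eq_one.mp (by
        rw [Finset.card_sdiff_of_subset hSb, hB.1 b hb, hS]; omega)
      have hjS : j ∉ S := (Finset.mem_sdiff.mp (hj ▸ Finset.mem_singleton_self j)).2
      have hbins : b = insert j S := by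
        rw [← Finset.sdiff_union_of_subset hSb, hj, Finset.singleton_union]
      have hnot : ∀ c ∈ chosen, ¬ (enc S &&& c = enc S) := by
        intro c hc hh
        have : covered (enc S) chosen = true :=
          List.any_eq_true.mpr ⟨c, hc, by rw [show Nat.land (enc S) c = enc S from hh]; exact Nat.beq_refl _⟩
        rw [hcov] at this
        exact absurd this (by simp)
      have hj' := h j.val (List.mem_range.mpr j.isLt)
      rw [testBit_enc, decide_eq_false hjS, Bool.false_or, Bool.or_eq_true] at hj'
      have hm : Nat.lor (enc S) (2 ^ j.val) = enc b := by rw [hbins]; exact (enc_insert j S).symm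
      rw [hm] at hj'
      rcases hj' with hj' | hj'
      · exfalso
        obtain ⟨c, hc, hcf⟩ := List.any_eq_true.mp hj'
        obtain ⟨b', hb', rfl⟩ := hch c hc
        have hne : b' ≠ b := by
          intro e
          exact hnot _ hc (and_eq_iff_subset.mpr (e ▸ hSb))
        have hlt : enc b' ^^^ enc b < 2 ^ n := Nat.xor_lt_two_pow (enc_lt b') (enc_lt b)
        have h2 := hfew _ hlt hcf
        rw [dec_xor, dec_enc, dec_enc] at h2
        have hint : (b' ∩ b).card < t := by
          by_contra hle
          obtain ⟨u, hu, hu'⟩ := Finset.exists_subset_card_eq (not_lt.mp hle)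
          exact hne ((hB.2 u hu').unique ⟨hb', hu.trans Finset.inter_subset_left⟩
            ⟨hb, hu.trans Finset.inter_subset_right⟩)
        have e1 : (symmDiff b' b).card = (b' \ b).card + (b \ b').card :=
          Finset.card_union_of_disjoint disjoint_sdiff_sdiff
        have e2 := Finset.card_sdiff_add_card_inter b' b
        have e3 := Finset.card_sdiff_add_card_inter b b'
        rw [Finset.inter_comm b b'] at e3
        rw [hB.1 b' hb'] at e2
        rw [hB.1 b hb] at e3
        omega
      · refine ih _ hrest ?_ ?_ hj'
        · intro m hm'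
          rcases List.mem_cons.mp hm' with rfl | hm'
          · exact ⟨b, hb, rfl⟩
          · exact hch m hm'
        · refine List.nodup_cons.mpr ⟨fun hmem => ?_, hnd⟩
          exact hnot _ hmem (and_eq_iff_subset.mpr hSb)

/-- Backtracking check that the identity is the only map preserving the blocks and extending
the given images. -/
def rigidCheck (n : ℕ) (ref : List ℕ) (byMax : List (List ℕ)) : ℕ → List ℕ → Bool
  | 0, L => L == List.range n
  | fuel + 1, L => (List.range n).all fun v => L.contains v ||
      ((byMax.getD L.length []).any (fun m =>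
          !(ref.contains (Nat.ofBits fun u : Fin n =>
            (List.range (L.length + 1)).any fun a => m.testBit a && Nat.beq ((L ++ [v]).getD a n) u.val))) ||
        rigidCheck n ref byMax fuel (L ++ [v]))

theorem rigidCheck_sound {ref : List ℕ} {byMax : List (List ℕ)} (σ : Equiv.Perm (Fin n))
    (hσ : ∀ b : Finset (Fin n), enc b ∈ ref → enc (b.map σ.toEmbedding) ∈ ref)
    (hby : ∀ (i : ℕ) (m : ℕ), m ∈ byMax.getD i [] → m < 2 ^ (i + 1) ∧ m ∈ ref) :
    ∀ (fuel : ℕ) (L : List ℕ), L.length + fuel = n →
      (∀ a : Fin n, a.val < L.length → L.getD a.val n = (σ a).val) →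
      rigidCheck n ref byMax fuel L = true → σ = 1 := by
  intro fuel
  induction fuel with
  | zero =>
    intro L hlen hL h
    have hL' : L = List.range n := by simpa [rigidCheck] using h
    refine Equiv.ext fun a => Fin.ext ?_
    rw [← hL a (by omega), hL']
    simp
  | succ fuel ih =>
    intro L hlen hL h
    have hi : L.length < n := by omega
    set a0 : Fin n := ⟨L.length, hi⟩ with ha0
    simp only [rigidCheck, List.all_eq_true, List.mem_range] at h
    have h' := h (σ a0).val (σ a0).isLt
    rw [Bool.or_eq_true, Bool.or_eq_true] at h'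
    have hL2 : ∀ a : Fin n, a.val < L.length + 1 → (L ++ [(σ a0).val]).getD a.val n = (σ a).val := by
      intro a ha
      rcases Nat.lt_or_eq_of_le (Nat.le_of_lt_succ ha) with ha' | ha'
      · rw [List.getD_append _ _ _ _ ha']; exact hL a ha'
      · rw [List.getD_append_right _ _ _ _ ha'.ge, ha', Nat.sub_self]
        rw [show a = a0 from Fin.ext ha']
        rfl
    rcases h' with h' | h' | h'
    · exfalso
      rw [List.contains_iff_mem] at h'
      obtain ⟨a, ha, hget⟩ := List.getElem_of_mem h'
      have h1 := hL ⟨a, by omega⟩ ha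
      rw [List.getD_eq_getElem _ _ ha, hget] at h1
      have := σ.injective (Fin.ext h1)
      simp [ha0, Fin.ext_iff] at this
      omega
    · exfalso
      obtain ⟨m, hm, hbad⟩ := List.any_eq_true.mp h'
      obtain ⟨hlt, href⟩ := hby _ m hm
      have henc : enc (dec n m) = m := by
        refine enc_ext (fun i => ?_) (fun i hi' => ?_)
        · simp [dec]
        · exact Nat.testBit_lt_two_pow (hlt.trans_le (Nat.pow_le_pow_right (by norm_num) (by omega)))
      have himg := hσ (dec n m) (henc.symm ▸ href)
      have hsupp : ∀ a : Fin n, a ∈ dec n m → a.val < L.length + 1 := by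
        intro a ha
        by_contra hge
        have hf := Nat.testBit_lt_two_pow
          (hlt.trans_le (Nat.pow_le_pow_right (by norm_num : 0 < 2) (not_lt.mp hge)))
        simp [dec, hf] at ha
      have key : enc ((dec n m).map σ.toEmbedding) = Nat.ofBits fun u : Fin n =>
          (List.range (L.length + 1)).any fun a =>
            m.testBit a && Nat.beq ((L ++ [(σ a0).val]).getD a n) u.val := by
        refine enc_ext (fun u => ?_) (fun i hi' => Nat.testBit_ofBits_ge _ _ hi')
        rw [Nat.testBit_ofBits_lt _ _ u.isLt, Bool.eq_iff_iff, List.any_eq_true, decide_eq_true_eq]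
        constructor
        · rintro ⟨a, ha, hau⟩
          rw [Bool.and_eq_true] at hau
          have ha' : a < L.length + 1 := List.mem_range.mp ha
          refine Finset.mem_map.mpr ⟨⟨a, by omega⟩, by simp [dec, hau.1], ?_⟩
          refine Fin.ext ?_
          rw [Equiv.toEmbedding_apply, ← hL2 _ ha']
          exact Nat.eq_of_beq_eq_true hau.2
        · intro hu
          obtain ⟨a, ha, rfl⟩ := Finset.mem_map.mp hu
          refine ⟨a.val, List.mem_range.mpr (hsupp a ha), ?_⟩
          rw [Bool.and_eq_true]
          refine ⟨by simpa [dec] using ha, ?_⟩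
          rw [hL2 a (hsupp a ha)]
          exact Nat.beq_refl _
      rw [Bool.not_eq_true', ← Bool.not_eq_true, List.contains_iff_mem] at hbad
      exact hbad (key ▸ himg)
    · exact ih _ (by simp; omega) (fun a ha => hL2 a (by simpa using ha)) h'

end CfsgLib.Steiner.Small
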