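import Mathlib
import Cfsg.Prelude.Def_Sporadic_a
import Cfsg.Agent.Lib.Combin.SteinerCount
import Cfsg.Agent.Lib.Steiner.Iso
import Cfsg.Agent.Lib.Steiner.SmallSearch
import Cfsg.Agent.Lib.Steiner.SmallData

/-!
Uniqueness of the Steiner systems S(5,6,12) and S(4,5,11): every system is moved into a normal
form containing five given blocks, and the search shows that there is then only one isomorphism
type.
-/

set_option autoImplicit false

namespace CfsgLib.Steiner.Small

open Cfsg

section Normal

variable {α : Type*} [Fintype α] [DecidableEq α] {t : ℕ} {B : Set (Finset α)}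

theorem pair_subset {a b : α} {p : Finset α} (ha : a ∈ p) (hb : b ∈ p) : ({a, b} : Finset α) ⊆ p :=
  Finset.insert_subset_iff.mpr ⟨ha, Finset.singleton_subset_iff.mpr hb⟩

theorem triple_subset {a b c : α} {p : Finset α} (ha : a ∈ p) (hb : b ∈ p) (hc : c ∈ p) :
    ({a, b, c} : Finset α) ⊆ p :=
  Finset.insert_subset_iff.mpr ⟨ha, pair_subset hb hc⟩

theorem union_pair_insert (T : Finset α) (p q x : α) :
    insert x (T ∪ {p, q}) = T ∪ {p, q, x} := by
  ext z; simp only [Finset.mem_union, Finset.mem_insert, Finset.mem_singleton]; tauto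

theorem union_triple_insert (T : Finset α) (p q r x : α) :
    insert x (T ∪ {p, q, r}) = T ∪ {p, q, r, x} := by
  ext z; simp only [Finset.mem_union, Finset.mem_insert, Finset.mem_singleton]; tauto

theorem insert_mem_left (T : Finset α) (p q x : α) : T ⊆ insert x (T ∪ {p, q}) :=
  Finset.subset_union_left.trans (Finset.subset_insert _ _)

omit [Fintype α] in
theorem mem_three (T : Finset α) (p q x : α) :
    p ∈ insert x (T ∪ {p, q}) ∧ q ∈ insert x (T ∪ {p, q}) ∧ x ∈ insert x (T ∪ {p, q}) := by simp

/-- The five blocks of a normal form. -/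
theorem exists_normal_points (hB : IsSteinerSystem t (t + 1) B) (T : Finset α) (hT : T.card + 2 = t)
    (hn : t + 2 ≤ Fintype.card α) {u1 u2 : α} (hu1 : u1 ∈ T) (hu2 : u2 ∈ T) (hu : u1 ≠ u2) :
    ∃ a b c d e f x1 x2 : α,
      [a, b, c, d, e, f, x1, x2].Nodup ∧ (∀ z ∈ [a, b, c, d, e, f, x1, x2], z ∉ T) ∧
      T ∪ {a, b, d} ∈ B ∧ T ∪ {a, c, e} ∈ B ∧ T ∪ {b, c, f} ∈ B ∧
      T.erase u1 ∪ {a, b, c, x1} ∈ B ∧ T.erase u2 ∪ {a, b, c, x2} ∈ B := by
  classical
  have uniq : ∀ {p q s : Finset α}, p ∈ B → q ∈ B → s.card = t → s ⊆ p → s ⊆ q → p = q :=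
    fun hp hq hs hsp hsq => (hB.2 _ hs).unique ⟨hp, hsp⟩ ⟨hq, hsq⟩
  -- the block through a `t`-set has one further point
  have extra : ∀ s : Finset α, s.card = t → ∃ x, x ∉ s ∧ insert x s ∈ B := by
    intro s hs
    obtain ⟨p, ⟨hp, hsp⟩, -⟩ := hB.2 s hs
    obtain ⟨x, hx⟩ : ∃ x, p \ s = {x} := Finset.card_eq_one.mp (by
      rw [Finset.card_sdiff_of_subset hsp, hB.1 p hp, hs]; omega)
    refine ⟨x, (Finset.mem_sdiff.mp (hx ▸ Finset.mem_singleton_self x)).2, ?_⟩
    rwa [← Finset.singleton_union, ← hx, Finset.sdiff_union_of_subset hsp]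
  obtain ⟨a, -, ha⟩ := Finset.exists_mem_notMem_of_card_lt_card
    (s := T) (t := Finset.univ) (by rw [Finset.card_univ]; omega)
  obtain ⟨b, -, hb⟩ := Finset.exists_mem_notMem_of_card_lt_card
    (s := insert a T) (t := Finset.univ) (by rw [Finset.card_univ, Finset.card_insert_of_notMem ha]; omega)
  simp only [Finset.mem_insert, not_or] at hb
  have cardT : ∀ {p q : α}, p ∉ T → q ∉ T → p ≠ q → (T ∪ {p, q}).card = t := by
    intro p q hp hq hpq
    rw [Finset.card_union_of_disjoint (by simp [hp, hq]), Finset.card_pair hpq, hT]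
  obtain ⟨d, hd, hbd⟩ := extra _ (cardT ha hb.2 (Ne.symm hb.1))
  obtain ⟨c, -, hc⟩ := Finset.exists_mem_notMem_of_card_lt_card
    (s := insert d (T ∪ {a, b})) (t := Finset.univ)
    (by rw [Finset.card_univ, hB.1 _ hbd]; omega)
  simp only [Finset.mem_insert, Finset.mem_union, Finset.mem_singleton, not_or] at hd hc
  obtain ⟨e, he, hbe⟩ := extra _ (cardT ha hc.2.1 (Ne.symm hc.2.2.1))
  obtain ⟨f, hf, hbf⟩ := extra _ (cardT hb.2 hc.2.1 (Ne.symm hc.2.2.2))
  simp only [Finset.mem_insert, Finset.mem_union, Finset.mem_singleton, not_or] at he hf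
  obtain ⟨hcd, hcT, hca, hcb⟩ := hc
  obtain ⟨hdT, hda, hdb⟩ := hd
  obtain ⟨heT, hea, hec⟩ := he
  obtain ⟨hfT, hfb, hfc⟩ := hf
  obtain ⟨hba, hbT⟩ := hb
  have hab' : a ≠ b := Ne.symm hba
  -- the block through `T`, `a`, `b` misses `c`
  have hmiss : c ∉ insert d (T ∪ {a, b}) := by simp [hcd, hcT, hca, hcb]
  have only : ∀ p ∈ B, T ⊆ p → a ∈ p → b ∈ p → c ∉ p := by
    intro p hp hTp hap hbp
    rw [uniq hp hbd (cardT ha hbT hab') (Finset.union_subset hTp (by simp [Finset.insert_subset_iff, hap, hbp]))
      (Finset.subset_insert _ _)]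
    exact hmiss
  have mab := mem_three T a b d
  have mac := mem_three T a c e
  have mbc := mem_three T b c f
  have hed : e ≠ d := by
    intro h
    have := uniq hbe hbd (cardT ha hdT (Ne.symm hda))
      (Finset.union_subset (insert_mem_left T a c e) (pair_subset mac.1 (h ▸ mac.2.2)))
      (Finset.union_subset (insert_mem_left T a b d) (pair_subset mab.1 mab.2.2))
    exact hmiss (this ▸ mac.2.1)
  have hfd : f ≠ d := by
    intro h
    have := uniq hbf hbd (cardT hbT hdT (Ne.symm hdb))
      (Finset.union_subset (insert_mem_left T b c f) (pair_subset mbc.1 (h ▸ mbc.2.2)))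
      (Finset.union_subset (insert_mem_left T a b d) (pair_subset mab.2.1 mab.2.2))
    exact hmiss (this ▸ mbc.2.1)
  have hfe : f ≠ e := by
    intro h
    have := uniq hbf hbe (cardT hcT heT (Ne.symm hec))
      (Finset.union_subset (insert_mem_left T b c f) (pair_subset mbc.2.1 (h ▸ mbc.2.2)))
      (Finset.union_subset (insert_mem_left T a c e) (pair_subset mac.2.1 mac.2.2))
    exact only _ hbf (insert_mem_left T b c f) (this ▸ mac.1) mbc.1 mbc.2.1
  have heb : e ≠ b := fun h =>
    only _ hbe (insert_mem_left T a c e) mac.1 (h ▸ mac.2.2) mac.2.1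
  have hfa : f ≠ a := fun h =>
    only _ hbf (insert_mem_left T b c f) (h ▸ mbc.2.2) mbc.1 mbc.2.1
  -- the blocks meeting `T` in all but one point
  have exact_block : ∀ u ∈ T, ∃ x, x ∉ T ∧ x ≠ a ∧ x ≠ b ∧ x ≠ c ∧ x ≠ d ∧ x ≠ e ∧ x ≠ f ∧
      T.erase u ∪ {a, b, c, x} ∈ B := by
    intro u hu'
    have hcard : (T.erase u ∪ {a, b, c}).card = t := by
      rw [Finset.card_union_of_disjoint (by simp [ha, hbT, hcT]), Finset.card_erase_of_mem hu']
      rw [Finset.card_insert_of_notMem (by simp [hab', Ne.symm hca]), Finset.card_pair (Ne.symm hcb)]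
      have := Finset.card_pos.mpr ⟨u, hu'⟩
      omega
    obtain ⟨x, hx, hbx⟩ := extra _ hcard
    simp only [Finset.mem_union, Finset.mem_erase, Finset.mem_insert, Finset.mem_singleton,
      not_or, not_and] at hx
    obtain ⟨hxT, hxa, hxb, hxc⟩ := hx
    have full : ∀ p ∈ B, T ⊆ p → a ∈ p ∧ b ∈ p ∧ c ∈ p → False :=
      fun p hp hTp h => only p hp hTp h.1 h.2.1 h.2.2
    have hxu : x ≠ u := by
      intro h
      refine full _ hbx (fun z hz => ?_) (by simp)
      by_cases hzu : z = u
      · simp [hzu, h]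
      · simp [hz, hzu]
    have hxT' : x ∉ T := hxT hxu
    have clash : ∀ {p q : α}, p ∈ ({a, b, c} : Finset α) → q ∈ ({a, b, c} : Finset α) → p ≠ q →
        p ∉ T → q ∉ T → insert x (T ∪ {p, q}) ∈ B → False := by
      intro p q hp hq hpq hpT hqT hblock
      have mem : ∀ {r : α}, r ∈ ({a, b, c} : Finset α) → r ∈ insert x (T.erase u ∪ {a, b, c}) :=
        fun hr => Finset.mem_insert_of_mem (Finset.mem_union_right _ hr)
      have ne_x : ∀ {r : α}, r ∈ ({a, b, c} : Finset α) → x ≠ r := by
        intro r hr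
        simp only [Finset.mem_insert, Finset.mem_singleton] at hr
        rcases hr with rfl | rfl | rfl <;> assumption
      have hs : (T.erase u ∪ {p, q, x}).card = t := by
        rw [Finset.card_union_of_disjoint (by simp [hpT, hqT, hxT']), Finset.card_erase_of_mem hu',
          Finset.card_insert_of_notMem (by simp [hpq, (ne_x hp).symm]),
          Finset.card_pair (ne_x hq).symm]
        have := Finset.card_pos.mpr ⟨u, hu'⟩
        omega
      have m3 := mem_three T p q x
      have heq := uniq hblock hbx hs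
        (Finset.union_subset ((Finset.erase_subset u T).trans (insert_mem_left T p q x))
          (triple_subset m3.1 m3.2.1 m3.2.2))
        (Finset.union_subset (Finset.subset_union_left.trans (Finset.subset_insert _ _))
          (triple_subset (mem hp) (mem hq) (Finset.mem_insert_self _ _)))
      exact full _ hblock (insert_mem_left T p q x)
        ⟨heq ▸ mem (by simp), heq ▸ mem (by simp), heq ▸ mem (by simp)⟩
    refine ⟨x, hxT', hxa, hxb, hxc, ?_, ?_, ?_, ?_⟩
    · rintro rfl; exact clash (p := a) (q := b) (by simp) (by simp) hab' ha hbT hbd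
    · rintro rfl; exact clash (p := a) (q := c) (by simp) (by simp) (Ne.symm hca) ha hcT hbe
    · rintro rfl; exact clash (p := b) (q := c) (by simp) (by simp) (Ne.symm hcb) hbT hcT hbf
    · rw [← union_triple_insert]; exact hbx
  obtain ⟨x1, hx1T, hx1a, hx1b, hx1c, hx1d, hx1e, hx1f, hB1⟩ := exact_block u1 hu1
  obtain ⟨x2, hx2T, hx2a, hx2b, hx2c, hx2d, hx2e, hx2f, hB2⟩ := exact_block u2 hu2
  have hx12 : x1 ≠ x2 := by
    rintro rfl
    have hs : (((T.erase u1).erase u2) ∪ {a, b, c, x1}).card = t := by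
      have hu2' : u2 ∈ T.erase u1 := Finset.mem_erase.mpr ⟨hu.symm, hu2⟩
      rw [Finset.card_union_of_disjoint (by simp [ha, hbT, hcT, hx1T]),
        Finset.card_erase_of_mem hu2', Finset.card_erase_of_mem hu1]
      rw [Finset.card_insert_of_notMem (by simp [hab', Ne.symm hca, Ne.symm hx1a]),
        Finset.card_insert_of_notMem (by simp [Ne.symm hcb, Ne.symm hx1b]),
        Finset.card_pair (Ne.symm hx1c)]
      have h2 : 2 ≤ T.card := by
        rw [← Finset.card_pair hu]
        exact Finset.card_le_card (by simp [Finset.insert_subset_iff, hu1, hu2])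
      omega
    have heq := uniq hB1 hB2 hs
      (Finset.union_subset_union (Finset.erase_subset _ _) (Finset.Subset.refl _))
      (Finset.union_subset_union (by rw [Finset.erase_right_comm]; exact Finset.erase_subset _ _)
        (Finset.Subset.refl _))
    refine only _ hB1 (fun z hz => ?_) (by simp) (by simp) (by simp)
    by_cases hz1 : z = u1
    · rw [heq]; subst hz1; simp [hu, hu1]
    · simp [hz1, hz]
  refine ⟨a, b, c, d, e, f, x1, x2, ?_, ?_, ?_, ?_, ?_, hB1, hB2⟩
  · simp [hab', Ne.symm hca, Ne.symm hcb, Ne.symm hda, Ne.symm hdb, Ne.symm hea, Ne.symm heb,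
      Ne.symm hec, Ne.symm hfa, Ne.symm hfb, Ne.symm hfc, hcd, Ne.symm hed, Ne.symm hfd, Ne.symm hfe,
      Ne.symm hx1a, Ne.symm hx1b, Ne.symm hx1c, Ne.symm hx1d, Ne.symm hx1e, Ne.symm hx1f,
      Ne.symm hx2a, Ne.symm hx2b, Ne.symm hx2c, Ne.symm hx2d, Ne.symm hx2e, Ne.symm hx2f, hx12]
  · simp [ha, hbT, hcT, hdT, heT, hfT, hx1T, hx2T]
  · rw [← union_pair_insert]; exact hbd
  · rw [← union_pair_insert]; exact hbe
  · rw [← union_pair_insert]; exact hbf

end Normal

/-! ### The reference systems -/

/-- The reference S(5,6,12). -/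
def std12 : Set (Finset (Fin 12)) := {b | enc b ∈ refTwelve}

/-- The reference S(4,5,11). -/
def std11 : Set (Finset (Fin 11)) := {b | enc b ∈ refEleven}

theorem few_spec {n : ℕ} (hn : n ≤ 12) : ∀ x < 2 ^ n, few x = true → (dec n x).card ≤ 2 := by
  have key : ((List.range 4096).all fun x => !(few x) ||
      Nat.ble ((List.range 12).countP fun i => x.testBit i) 2) = true := by decide +kernel
  intro x hx hf
  have h12 : x < 4096 := hx.trans_le (Nat.pow_le_pow_right (by norm_num : 0 < 2) hn)
  have := List.all_eq_true.mp key x (List.mem_range.mpr h12)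
  rw [hf, Bool.not_true, Bool.false_or, Nat.ble_eq] at this
  refine le_trans ?_ this
  rw [List.countP_eq_length_filter, ← List.toFinset_card_of_nodup (List.nodup_range.filter _),
    ← Finset.card_map Fin.valEmbedding]
  refine Finset.card_le_card fun i hi => ?_
  obtain ⟨j, hj, rfl⟩ := Finset.mem_map.mp hi
  simp only [dec, Finset.mem_filter, Finset.mem_univ, true_and] at hj
  rw [List.mem_toFinset, List.mem_filter]
  exact ⟨List.mem_range.mpr (j.isLt.trans_le hn), hj⟩

theorem ncard_twelve {α : Type*} [Fintype α] [DecidableEq α] (hα : Fintype.card α = 12)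
    {B : Set (Finset α)} (hB : IsSteinerSystem 5 6 B) : B.ncard = 132 := by
  have h := CfsgLib.Combin.SteinerCount.card_blocksThrough_mul hB ∅ (by simp)
  have e : CfsgLib.Combin.SteinerCount.blocksThrough B ∅ = (Set.toFinite B).toFinset := by
    ext b; simp [CfsgLib.Combin.SteinerCount.mem_blocksThrough]
  rw [e, ← Set.ncard_eq_toFinset_card B, hα] at h
  norm_num [Nat.choose] at h
  omega

theorem ncard_eleven {α : Type*} [Fintype α] [DecidableEq α] (hα : Fintype.card α = 11)
    {B : Set (Finset α)} (hB : IsSteinerSystem 4 5 B) : B.ncard = 66 := by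
  have h := CfsgLib.Combin.SteinerCount.card_blocksThrough_mul hB ∅ (by simp)
  have e : CfsgLib.Combin.SteinerCount.blocksThrough B ∅ = (Set.toFinite B).toFinset := by
    ext b; simp [CfsgLib.Combin.SteinerCount.mem_blocksThrough]
  rw [e, ← Set.ncard_eq_toFinset_card B, hα] at h
  norm_num [Nat.choose] at h
  omega

theorem map_isSteinerSystem {α β : Type*} {t k : ℕ} {B : Set (Finset α)}
    (hB : IsSteinerSystem t k B) (e : α ≃ β) :
    IsSteinerSystem t k ((fun b => b.map e.toEmbedding) '' B) := by
  refine ⟨?_, fun s hs => ?_⟩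
  · rintro _ ⟨b, hb, rfl⟩; rw [Finset.card_map]; exact hB.1 b hb
  · have back : ∀ c : Finset α, s ⊆ c.map e.toEmbedding ↔ s.map e.symm.toEmbedding ⊆ c := by
      intro c
      simp only [Finset.subset_iff, Finset.mem_map_equiv, Equiv.symm_symm]
      exact ⟨fun h x hx => by simpa using h hx, fun h x hx => h (by simpa using hx)⟩
    obtain ⟨b, ⟨hb, hsb⟩, hu⟩ := hB.2 (s.map e.symm.toEmbedding) (by rw [Finset.card_map, hs])
    refine ⟨_, ⟨⟨b, hb, rfl⟩, (back b).mpr hsb⟩, ?_⟩
    rintro _ ⟨⟨c, hc, rfl⟩, hsc⟩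
    rw [hu c ⟨hc, (back c).mp hsc⟩]

theorem set_line_three {α : Type*} [DecidableEq α] (u v w a b d : α) :
    ({u, v, w, a, b, d} : Finset α) = {u, v, w} ∪ {a, b, d} := by
  ext z; simp only [Finset.mem_union, Finset.mem_insert, Finset.mem_singleton]; tauto

theorem set_line_two {α : Type*} [DecidableEq α] (u v a b d : α) :
    ({u, v, a, b, d} : Finset α) = {u, v} ∪ {a, b, d} := by
  ext z; simp only [Finset.mem_union, Finset.mem_insert, Finset.mem_singleton]; tauto

theorem set_exact_three_first {α : Type*} [DecidableEq α] {u v w : α} (a b c x : α) (h1 : u ≠ v)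
    (h2 : u ≠ w) : ({v, w, a, b, c, x} : Finset α) = ({u, v, w} : Finset α).erase u ∪ {a, b, c, x} := by
  ext z
  simp only [Finset.mem_union, Finset.mem_erase, Finset.mem_insert, Finset.mem_singleton]
  by_cases h : z = u
  · subst h; simp [h1, h2]
  · simp [h]; tauto

theorem set_exact_three_second {α : Type*} [DecidableEq α] {u v w : α} (a b c x : α) (h1 : v ≠ u)
    (h2 : v ≠ w) : ({u, w, a, b, c, x} : Finset α) = ({u, v, w} : Finset α).erase v ∪ {a, b, c, x} := by
  ext z
  simp only [Finset.mem_union, Finset.mem_erase, Finset.mem_insert, Finset.mem_singleton]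
  by_cases h : z = v
  · subst h; simp [h1, h2]
  · simp [h]; tauto

theorem set_exact_two_first {α : Type*} [DecidableEq α] {u v : α} (a b c x : α) (h1 : u ≠ v) :
    ({v, a, b, c, x} : Finset α) = ({u, v} : Finset α).erase u ∪ {a, b, c, x} := by
  rw [Finset.erase_insert (by simpa using h1), Finset.singleton_union]

theorem set_exact_two_second {α : Type*} [DecidableEq α] {u v : α} (a b c x : α) (h1 : v ≠ u) :
    ({u, a, b, c, x} : Finset α) = ({u, v} : Finset α).erase v ∪ {a, b, c, x} := by
  rw [Finset.pair_comm u v, Finset.erase_insert (by simpa using h1), Finset.singleton_union]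

/-- From the search to an isomorphism. -/
theorem iso_of_search {n : ℕ} [NeZero n] (hn : n ≤ 12) {α : Type*} [DecidableEq α]
    {t N : ℕ} {B : Set (Finset α)} (hB : IsSteinerSystem t (t + 1) B) (hcard : B.ncard = N)
    (ι : Fin n ≃ α) {init steps ref : List ℕ} {perms : List (List ℕ)}
    (hinit : ∀ m ∈ init, m < 2 ^ n ∧ (dec n m).map ι.toEmbedding ∈ B) (hnd : init.Nodup)
    (hsteps : ∀ s ∈ steps, s < 2 ^ n ∧ (dec n s).card = t)
    (hperms : ∀ p ∈ perms, (∀ j : Fin n, p.getD j.val 0 < n) ∧ Function.Injective (listFun n p))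
    (hrefN : ref.length ≤ N)
    (hsearch : search n N ref (pmap n) perms steps init = true) :
    SetSystemIso B ({b | enc b ∈ ref} : Set (Finset (Fin n))) := by
  classical
  have henc : ∀ m, m < 2 ^ n → enc (dec n m) = m := fun m hm =>
    enc_ext (fun i => by simp [dec]) (fun i hi =>
      Nat.testBit_lt_two_pow (hm.trans_le (Nat.pow_le_pow_right (by norm_num) hi)))
  set B0 : Set (Finset (Fin n)) := (fun b => b.map ι.symm.toEmbedding) '' B with hB0def
  have hB0 : IsSteinerSystem t (t + 1) B0 := map_isSteinerSystem hB ι.symm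
  have hB0card : B0.ncard = N := by
    rw [hB0def, Set.ncard_image_of_injective _ (Finset.map_injective _), hcard]
  obtain ⟨σ, hσ⟩ := search_sound hB0 hB0card (few_spec hn) hperms steps init
    (fun s hs => ⟨dec n s, (hsteps s hs).2, henc s (hsteps s hs).1⟩)
    (fun m hm => ⟨dec n m, ⟨_, (hinit m hm).2, by
      ext x; simp [Finset.mem_map_equiv]⟩, henc m (hinit m hm).1⟩) hnd hsearch
  refine ⟨ι.symm.trans σ, ?_⟩
  have himg : (fun b => b.image (ι.symm.trans σ)) '' B = (fun b => b.map σ.toEmbedding) '' B0 := by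
    rw [hB0def, Set.image_image]
    refine Set.image_congr fun b _ => ?_
    rw [Finset.map_map, Finset.map_eq_image]
    rfl
  rw [himg]
  refine Set.eq_of_subset_of_ncard_le ?_ ?_ (Set.toFinite _)
  · rintro _ ⟨b, hb, rfl⟩; exact hσ b hb
  · rw [Set.ncard_image_of_injective _ (Finset.map_injective _), hB0card]
    have hsub : ({b | enc b ∈ ref} : Set (Finset (Fin n))) ⊆ ↑((ref.map (dec n)).toFinset) := by
      intro b hb
      rw [Finset.mem_coe, List.mem_toFinset, List.mem_map]
      exact ⟨_, hb, dec_enc b⟩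
    refine le_trans (Set.ncard_le_ncard hsub (Finset.finite_toSet _)) ?_
    rw [Set.ncard_coe_finset]
    exact le_trans (List.toFinset_card_le _) (by rw [List.length_map]; exact hrefN)

theorem search_twelve : search 12 132 refTwelve (pmap 12) permsTwelve stepsTwelve initTwelve = true := by
  decide +kernel

theorem search_eleven : search 11 66 refEleven (pmap 11) permsEleven stepsEleven initEleven = true := by
  decide +kernel

theorem steps_twelve : ∀ s ∈ stepsTwelve, s < 2 ^ 12 ∧ (dec 12 s).card = 5 := by decide +kernel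

theorem steps_eleven : ∀ s ∈ stepsEleven, s < 2 ^ 11 ∧ (dec 11 s).card = 4 := by decide +kernel

theorem perms_twelve : ∀ p ∈ permsTwelve,
    (∀ j : Fin 12, p.getD j.val 0 < 12) ∧ Function.Injective (listFun 12 p) := by
  decide +kernel

theorem perms_eleven : ∀ p ∈ permsEleven,
    (∀ j : Fin 11, p.getD j.val 0 < 11) ∧ Function.Injective (listFun 11 p) := by
  decide +kernel

universe u

variable {α : Type u} [Fintype α] [DecidableEq α] {B : Set (Finset α)}

theorem exists_equiv_of_list {n : ℕ} (hα : Fintype.card α = n) (L : List α) (hlen : L.length = n)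
    (hL : L.Nodup) : ∃ ι : Fin n ≃ α, ∀ i : Fin n, ι i = L[i.val]'(hlen ▸ i.isLt) :=
  ⟨Equiv.ofBijective (fun i : Fin n => L[i.val]'(hlen ▸ i.isLt))
    ((Fintype.bijective_iff_injective_and_card _).mpr ⟨fun i j h => Fin.ext
      ((hL.getElem_inj_iff).mp h), by rw [Fintype.card_fin, hα]⟩), fun _ => rfl⟩

theorem iso_std12 (hα : Fintype.card α = 12) (hB : IsSteinerSystem 5 6 B) :
    SetSystemIso B std12 := by
  classical
  obtain ⟨u1, u2, u3, h12, h13, h23⟩ := Fintype.two_lt_card_iff.mp (by omega : 2 < Fintype.card α)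
  obtain ⟨a, b, c, d, e, f, x1, x2, hnd, hout, hd', he', hf', hx1, hx2⟩ :=
    exists_normal_points hB {u1, u2, u3} (by simp [h12, h13, h23]) (by omega)
      (u1 := u1) (u2 := u2) (by simp) (by simp) h12
  obtain ⟨r, -, hr⟩ := Finset.exists_mem_notMem_of_card_lt_card
    (s := ([a, b, c, d, e, f, x1, x2, u1, u2, u3]).toFinset) (t := Finset.univ)
    (by rw [Finset.card_univ, hα]; exact lt_of_le_of_lt (List.toFinset_card_le _) (by simp))
  simp only [List.mem_toFinset, List.mem_cons, List.not_mem_nil, or_false, not_or] at hr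
  simp only [List.mem_cons, List.not_mem_nil, or_false, forall_eq_or_imp, forall_eq,
    Finset.mem_insert, Finset.mem_singleton, not_or] at hout
  simp only [List.nodup_cons, List.mem_cons, List.not_mem_nil, or_false, not_or, List.nodup_nil,
    and_true, not_false_eq_true] at hnd
  obtain ⟨ι, hι⟩ := exists_equiv_of_list hα [a, b, c, d, e, f, x1, x2, r, u1, u2, u3] rfl (by
    simp only [List.nodup_cons, List.mem_cons, List.not_mem_nil, or_false, not_or, List.nodup_nil,
      and_true, not_false_eq_true]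
    refine ⟨?_, ?_, ?_, ?_, ?_, ?_, ?_, ?_, ?_, ?_, ?_⟩ <;> simp [hnd, hout, hr, h12, h13, h23, Ne.symm] <;> tauto)
  refine iso_of_search (n := 12) le_rfl hB (ncard_twelve hα hB) ι ?_ (by decide) steps_twelve
    perms_twelve (by decide +kernel) search_twelve
  intro m hm
  fin_cases hm
  all_goals refine ⟨by decide, ?_⟩
  · rw [show dec 12 3595 = {9, 10, 11, 0, 1, 3} by decide +kernel]
    convert hd' using 1
    simp only [Finset.map_insert, Finset.map_singleton, Equiv.toEmbedding_apply, hι]
    exact set_line_three _ _ _ _ _ _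
  · rw [show dec 12 3605 = {9, 10, 11, 0, 2, 4} by decide +kernel]
    convert he' using 1
    simp only [Finset.map_insert, Finset.map_singleton, Equiv.toEmbedding_apply, hι]
    exact set_line_three _ _ _ _ _ _
  · rw [show dec 12 3622 = {9, 10, 11, 1, 2, 5} by decide +kernel]
    convert hf' using 1
    simp only [Finset.map_insert, Finset.map_singleton, Equiv.toEmbedding_apply, hι]
    exact set_line_three _ _ _ _ _ _
  · rw [show dec 12 3143 = {10, 11, 0, 1, 2, 6} by decide +kernel]
    convert hx1 using 1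
    simp only [Finset.map_insert, Finset.map_singleton, Equiv.toEmbedding_apply, hι]
    exact set_exact_three_first a b c x1 h12 h13
  · rw [show dec 12 2695 = {9, 11, 0, 1, 2, 7} by decide +kernel]
    convert hx2 using 1
    simp only [Finset.map_insert, Finset.map_singleton, Equiv.toEmbedding_apply, hι]
    exact set_exact_three_second a b c x2 h12.symm h23

theorem iso_std11 (hα : Fintype.card α = 11) (hB : IsSteinerSystem 4 5 B) :
    SetSystemIso B std11 := by
  classical
  obtain ⟨u1, u2, h12⟩ := Fintype.exists_pair_of_one_lt_card (by omega : 1 < Fintype.card α)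
  obtain ⟨a, b, c, d, e, f, x1, x2, hnd, hout, hd', he', hf', hx1, hx2⟩ :=
    exists_normal_points hB {u1, u2} (by simp [h12]) (by omega)
      (u1 := u1) (u2 := u2) (by simp) (by simp) h12
  obtain ⟨r, -, hr⟩ := Finset.exists_mem_notMem_of_card_lt_card
    (s := ([a, b, c, d, e, f, x1, x2, u1, u2]).toFinset) (t := Finset.univ)
    (by rw [Finset.card_univ, hα]; exact lt_of_le_of_lt (List.toFinset_card_le _) (by simp))
  simp only [List.mem_toFinset, List.mem_cons, List.not_mem_nil, or_false, not_or] at hr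
  simp only [List.mem_cons, List.not_mem_nil, or_false, forall_eq_or_imp, forall_eq,
    Finset.mem_insert, Finset.mem_singleton, not_or] at hout
  simp only [List.nodup_cons, List.mem_cons, List.not_mem_nil, or_false, not_or, List.nodup_nil,
    and_true, not_false_eq_true] at hnd
  obtain ⟨ι, hι⟩ := exists_equiv_of_list hα [a, b, c, d, e, f, x1, x2, r, u1, u2] rfl (by
    simp only [List.nodup_cons, List.mem_cons, List.not_mem_nil, or_false, not_or, List.nodup_nil,
      and_true, not_false_eq_true]
    refine ⟨?_, ?_, ?_, ?_, ?_, ?_, ?_, ?_, ?_, ?_⟩ <;> simp [hnd, hout, hr, h12, Ne.symm] <;> tauto)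
  refine iso_of_search (n := 11) (by norm_num) hB (ncard_eleven hα hB) ι ?_ (by decide) steps_eleven
    perms_eleven (by decide +kernel) search_eleven
  intro m hm
  fin_cases hm
  all_goals refine ⟨by decide, ?_⟩
  · rw [show dec 11 1547 = {9, 10, 0, 1, 3} by decide +kernel]
    convert hd' using 1
    simp only [Finset.map_insert, Finset.map_singleton, Equiv.toEmbedding_apply, hι]
    exact set_line_two _ _ _ _ _
  · rw [show dec 11 1557 = {9, 10, 0, 2, 4} by decide +kernel]
    convert he' using 1
    simp only [Finset.map_insert, Finset.map_singleton, Equiv.toEmbedding_apply, hι]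
    exact set_line_two _ _ _ _ _
  · rw [show dec 11 1574 = {9, 10, 1, 2, 5} by decide +kernel]
    convert hf' using 1
    simp only [Finset.map_insert, Finset.map_singleton, Equiv.toEmbedding_apply, hι]
    exact set_line_two _ _ _ _ _
  · rw [show dec 11 1095 = {10, 0, 1, 2, 6} by decide +kernel]
    convert hx1 using 1
    simp only [Finset.map_insert, Finset.map_singleton, Equiv.toEmbedding_apply, hι]
    exact set_exact_two_first a b c x1 h12
  · rw [show dec 11 647 = {9, 0, 1, 2, 7} by decide +kernel]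
    convert hx2 using 1
    simp only [Finset.map_insert, Finset.map_singleton, Equiv.toEmbedding_apply, hι]
    exact set_exact_two_second a b c x2 h12.symm

end CfsgLib.Steiner.Small
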