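import Mathlib
import Cfsg.Prelude.Def_Sporadic
import Cfsg.Agent.Lib.Golay.Mathieu
import Cfsg.Agent.Lib.Steiner.SmallUnique

/-!
Automorphism groups of S(5,6,12) and S(4,5,11).
-/

set_option autoImplicit false

namespace CfsgLib.Steiner.Small

open Cfsg CfsgLib.Golay
open scoped Pointwise

/-- Blocks of a reference list by their largest point. -/
def byMax (n : ℕ) (ref : List ℕ) : List (List ℕ) :=
  (List.range n).map fun i => ref.filter fun m => Nat.ble (2 ^ i) m && Nat.ble (m + 1) (2 ^ (i + 1))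

theorem byMax_spec (n : ℕ) (ref : List ℕ) (i m : ℕ) (hm : m ∈ (byMax n ref).getD i []) :
    m < 2 ^ (i + 1) ∧ m ∈ ref := by
  by_cases hi : i < n
  · rw [byMax, List.getD_eq_getElem _ _ (by simpa using hi), List.getElem_map, List.getElem_range,
      List.mem_filter, Bool.and_eq_true, Nat.ble_eq, Nat.ble_eq] at hm
    exact ⟨hm.2.2, hm.1⟩
  · rw [List.getD_eq_default _ _ (by simpa [byMax] using hi)] at hm
    simp at hm

theorem rigid_twelve : rigidCheck 12 refTwelve (byMax 12 refTwelve) 7 [0, 1, 2, 3, 4] = true := by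
  decide +kernel

theorem rigid_eleven : rigidCheck 11 refEleven (byMax 11 refEleven) 7 [0, 1, 2, 3] = true := by
  decide +kernel

theorem eq_one_of_fix_base {n k : ℕ} (hk : k ≤ n) {ref : List ℕ}
    (hcheck : rigidCheck n ref (byMax n ref) (n - k) (List.range k) = true)
    (σ : setSystemAut ({b | enc b ∈ ref} : Set (Finset (Fin n))))
    (hfix : ∀ a : Fin n, a.val < k → (σ : Equiv.Perm (Fin n)) a = a) : σ = 1 := by
  apply Subtype.ext
  refine rigidCheck_sound (σ : Equiv.Perm (Fin n)) (fun b hb => ?_) (byMax_spec n ref) (n - k)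
    (List.range k) (by simp; omega) (fun a ha => ?_) hcheck
  · have h := mem_setSystemAut_iff.mp σ.2
    have : b.image (σ : Equiv.Perm (Fin n)) ∈ ({b | enc b ∈ ref} : Set (Finset (Fin n))) := by
      exact (Set.ext_iff.mp h _).mp ⟨b, hb, rfl⟩
    rw [Finset.map_eq_image]
    exact this
  · rw [List.length_range] at ha
    rw [List.getD_eq_getElem _ _ (by simpa using ha), List.getElem_range, hfix a ha]

universe u v

variable {α : Type u} [Fintype α] [DecidableEq α]

/-- Sharpness follows from transitivity and one trivial stabiliser. -/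
theorem stabilizer_eq_bot_of_base {G : Subgroup (Equiv.Perm α)} {k : ℕ}
    (htrans : MulAction.IsMultiplyPretransitive G α k) (x0 : Fin k ↪ α)
    (h0 : ∀ g : G, (∀ i, (g : Equiv.Perm α) (x0 i) = x0 i) → g = 1) (x : Fin k ↪ α) :
    MulAction.stabilizer G x = ⊥ := by
  rw [MulAction.isMultiplyPretransitive_iff] at htrans
  obtain ⟨c, hc⟩ := htrans x0 x
  rw [eq_bot_iff]
  intro g hg
  rw [MulAction.mem_stabilizer_iff] at hg
  have hcx : ∀ i, (c : Equiv.Perm α) (x0 i) = x i := fun i =>
    congrFun (congrArg DFunLike.coe hc) i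
  have hgx : ∀ i, (g : Equiv.Perm α) (x i) = x i := fun i =>
    congrFun (congrArg DFunLike.coe hg) i
  have := h0 (c⁻¹ * g * c) fun i => by
    simp only [Subgroup.coe_mul, Subgroup.coe_inv, Equiv.Perm.mul_apply, hcx, hgx]
    rw [Equiv.Perm.inv_eq_iff_eq, hcx]
  have : g = 1 := by
    have h2 : c * (c⁻¹ * g * c) * c⁻¹ = 1 := by rw [this]; group
    simpa [mul_assoc] using h2
  exact Subgroup.mem_bot.mpr this

/-- A transitive group of automorphisms is the whole group if some stabiliser upstairs is trivial. -/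
theorem bijective_of_base {H : Type v} [Group H] {S : Set (Finset α)} {k : ℕ}
    (r : H →* setSystemAut S) (hinj : Function.Injective r)
    (htrans : ∀ x y : Fin k ↪ α, ∃ h : H, ∀ i, ((r h : setSystemAut S) : Equiv.Perm α) (x i) = y i)
    (x0 : Fin k ↪ α) (h0 : MulAction.stabilizer (setSystemAut S) x0 = ⊥) :
    Function.Bijective r := by
  refine ⟨hinj, fun a => ?_⟩
  obtain ⟨h, hh⟩ := htrans x0 (x0.trans (a : Equiv.Perm α).toEmbedding)
  refine ⟨h, ?_⟩
  have hmem : (r h)⁻¹ * a ∈ MulAction.stabilizer (setSystemAut S) x0 := by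
    rw [MulAction.mem_stabilizer_iff]
    refine DFunLike.ext _ _ fun i => ?_
    show (((r h)⁻¹ * a : setSystemAut S) : Equiv.Perm α) (x0 i) = x0 i
    rw [Subgroup.coe_mul, Subgroup.coe_inv, Equiv.Perm.mul_apply, Equiv.Perm.inv_eq_iff_eq, hh]
    rfl
  rw [h0, Subgroup.mem_bot, inv_mul_eq_one] at hmem
  exact hmem

/-! ### Models on a dodecad -/

variable (D : Finset GolayPt)

/-- Restriction of a subgroup preserving `D` to the points of `D`. -/
def restrictTo (H : Subgroup (Equiv.Perm GolayPt))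
    (hH : ∀ σ ∈ H, ∀ q, σ q ∈ D ↔ q ∈ D) : H →* Equiv.Perm {q // q ∈ D} where
  toFun σ := (σ : Equiv.Perm GolayPt).subtypePerm (hH σ σ.2)
  map_one' := by ext x; rfl
  map_mul' σ τ := by ext x; rfl

/-- The model: traces on `D` of octads meeting a dodecad `d` in six points, through `W`. -/
def model (d W : Finset GolayPt) : Set (Finset {q // q ∈ D}) :=
  {b | ∃ o ∈ octads, (o ∩ d).card = 6 ∧ W ⊆ o ∧ b = o.subtype fun q => q ∈ D}

variable {D}

theorem isSteinerSystem_model {d W : Finset GolayPt} (hd : d ∈ dodecads) (hW : W ⊆ d)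
    (hW5 : W.card ≤ 5) (hD : D = d \ W) :
    IsSteinerSystem (5 - W.card) (6 - W.card) (model D d W) := by
  have hsub : ∀ o : Finset GolayPt, W ⊆ o →
      (o.subtype fun q => q ∈ D).card = (o ∩ d).card - W.card := by
    intro o ho
    rw [Finset.card_subtype, Finset.filter_mem_eq_inter, hD,
      ← Finset.card_sdiff_of_subset (Finset.subset_inter ho hW)]
    congr 1
    ext x; simp only [Finset.mem_inter, Finset.mem_sdiff]; tauto
  refine ⟨?_, fun s hs => ?_⟩
  · rintro _ ⟨o, -, h6, hWo, rfl⟩; rw [hsub o hWo, h6]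
  · set s' : Finset GolayPt := W ∪ s.map (Function.Embedding.subtype _) with hs'
    have hdisj : Disjoint W (s.map (Function.Embedding.subtype _)) := by
      rw [Finset.disjoint_left]
      intro z hz hz'
      obtain ⟨q, -, rfl⟩ := Finset.mem_map.mp hz'
      have hq : (q : GolayPt) ∈ d \ W := by
        have := (Finset.ext_iff.mp hD (q : GolayPt)).mp q.2
        exact this
      rw [Finset.mem_sdiff] at hq
      exact hq.2 hz
    have hc : s'.card = 5 := by
      rw [hs', Finset.card_union_of_disjoint hdisj, Finset.card_map, hs]; omega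
    have hsd : s' ⊆ d := by
      refine Finset.union_subset hW fun z hz => ?_
      obtain ⟨q, -, rfl⟩ := Finset.mem_map.mp hz
      have hq : (q : GolayPt) ∈ d \ W := by
        have := (Finset.ext_iff.mp hD (q : GolayPt)).mp q.2
        exact this
      rw [Finset.mem_sdiff] at hq
      exact hq.1
    obtain ⟨o, ⟨ho, hso⟩, huniq⟩ := isSteinerSystem_octads.2 s' hc
    have hWo : W ⊆ o := Finset.subset_union_left.trans hso
    have h5 : 5 ≤ (o ∩ d).card := hc ▸ Finset.card_le_card (Finset.subset_inter hso hsd)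
    have h6 : (o ∩ d).card = 6 := by
      rcases card_inter_octad_dodecad ho hd with h | h | h <;> omega
    refine ⟨_, ⟨⟨o, ho, h6, hWo, rfl⟩, fun q hq => ?_⟩, ?_⟩
    · exact Finset.mem_subtype.mpr (hso (Finset.mem_union_right _ (Finset.mem_map_of_mem _ hq)))
    · rintro _ ⟨⟨o', ho', -, hWo', rfl⟩, hsub'⟩
      rw [huniq o' ⟨ho', Finset.union_subset hWo' fun z hz => ?_⟩]
      obtain ⟨q, hq, rfl⟩ := Finset.mem_map.mp hz
      exact Finset.mem_subtype.mp (hsub' hq)

theorem restrictTo_mem {d W : Finset GolayPt} (H : Subgroup (Equiv.Perm GolayPt))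
    (hH : ∀ σ ∈ H, ∀ q, σ q ∈ D ↔ q ∈ D) (hM : H ≤ M24) (hd : ∀ σ ∈ H, σ • d = d)
    (hW : ∀ σ ∈ H, σ • W = W) (σ : H) :
    restrictTo D H hH σ ∈ setSystemAut (model D d W) := by
  have step : ∀ τ : H, ∀ b ∈ model D d W, b.image (restrictTo D H hH τ) ∈ model D d W := by
    rintro τ _ ⟨o, ho, h6, hWo, rfl⟩
    refine ⟨(τ : Equiv.Perm GolayPt) • o, smul_mem_octads (hM τ.2) ho, ?_, ?_, ?_⟩
    · conv_lhs => rw [← hd τ τ.2, ← Finset.smul_finset_inter, Finset.card_smul_finset]
      exact h6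
    · rw [← hW τ τ.2]; exact Finset.smul_finset_subset_smul_finset_iff.mpr hWo
    · ext ⟨z, hz⟩
      simp only [Finset.mem_image, Finset.mem_subtype, Finset.mem_smul_finset]
      constructor
      · rintro ⟨q, hq, hqz⟩
        exact ⟨q.1, hq, congrArg Subtype.val hqz⟩
      · rintro ⟨q, hq, rfl⟩
        exact ⟨⟨q, (hH τ τ.2 q).mp hz⟩, hq, rfl⟩
  rw [mem_setSystemAut_iff]
  refine Set.Subset.antisymm ?_ fun b hb => ⟨b.image (restrictTo D H hH σ⁻¹), step σ⁻¹ b hb, ?_⟩
  · rintro _ ⟨b, hb, rfl⟩; exact step σ b hb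
  · simp only [Finset.image_image]
    conv_rhs => rw [← Finset.image_id (s := b)]
    refine Finset.image_congr fun z _ => ?_
    show restrictTo D H hH σ (restrictTo D H hH σ⁻¹ z) = z
    rw [← Equiv.Perm.mul_apply, ← map_mul, mul_inv_cancel, map_one]
    rfl

/-- The automorphism group of such a model is the given group. -/
theorem exists_equiv_model {d W : Finset GolayPt} {n t : ℕ} {ref : List ℕ}
    (H : Subgroup (Equiv.Perm GolayPt)) (hH : ∀ σ ∈ H, ∀ q, σ q ∈ D ↔ q ∈ D) (hM : H ≤ M24)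
    (hd : ∀ σ ∈ H, σ • d = d) (hW : ∀ σ ∈ H, σ • W = W)
    (hfaith : ∀ σ ∈ H, (∀ q ∈ D, σ q = q) → σ = 1)
    (htrans : ∀ L L' : List GolayPt, L.Nodup → L'.Nodup → L.length = t → L'.length = t →
      (∀ q ∈ L, q ∈ D) → (∀ q ∈ L', q ∈ D) → ∃ g ∈ H, L.map g = L')
    (htn : t ≤ n) (hiso : SetSystemIso (model D d W) ({b | enc b ∈ ref} : Set (Finset (Fin n))))
    (hcheck : rigidCheck n ref (byMax n ref) (n - t) (List.range t) = true) :
    Nonempty (H ≃* setSystemAut (model D d W)) ∧
      MulAction.IsMultiplyPretransitive (setSystemAut ({b | enc b ∈ ref} : Set (Finset (Fin n))))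
        (Fin n) t ∧
      ∀ x : Fin t ↪ Fin n,
        MulAction.stabilizer (setSystemAut ({b | enc b ∈ ref} : Set (Finset (Fin n)))) x = ⊥ := by
  let r : H →* setSystemAut (model D d W) :=
    (restrictTo D H hH).codRestrict _ (restrictTo_mem H hH hM hd hW)
  have hinj : Function.Injective r := by
    rw [injective_iff_map_eq_one]
    intro σ hσ
    apply Subtype.ext
    refine hfaith σ σ.2 fun q hq => ?_
    exact congrArg Subtype.val
      (congrArg (fun π : Equiv.Perm {q // q ∈ D} => π ⟨q, hq⟩) (congrArg Subtype.val hσ))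
  have htr : ∀ x y : Fin t ↪ {q // q ∈ D}, ∃ h : H,
      ∀ i, ((r h : setSystemAut (model D d W)) : Equiv.Perm {q // q ∈ D}) (x i) = y i := by
    intro x y
    obtain ⟨g, hg, hgL⟩ := htrans (List.ofFn fun i => (x i).1) (List.ofFn fun i => (y i).1)
      (List.nodup_ofFn.mpr (Subtype.val_injective.comp x.injective))
      (List.nodup_ofFn.mpr (Subtype.val_injective.comp y.injective)) (by simp) (by simp)
      (fun q hq => by obtain ⟨i, rfl⟩ := List.mem_ofFn.mp hq; exact (x i).2)
      (fun q hq => by obtain ⟨i, rfl⟩ := List.mem_ofFn.mp hq; exact (y i).2)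
    rw [List.map_ofFn, List.ofFn_inj] at hgL
    exact ⟨⟨g, hg⟩, fun i => Subtype.ext (congrFun hgL i)⟩
  obtain ⟨e, φ, hφ⟩ := exists_setSystemAut_equiv hiso
  have hpre : MulAction.IsMultiplyPretransitive (setSystemAut (model D d W)) {q // q ∈ D} t := by
    rw [MulAction.isMultiplyPretransitive_iff]
    intro x y
    obtain ⟨h, hh⟩ := htr x y
    exact ⟨r h, DFunLike.ext _ _ hh⟩
  have hpre' : MulAction.IsMultiplyPretransitive
      (setSystemAut ({b | enc b ∈ ref} : Set (Finset (Fin n)))) (Fin n) t := by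
    refine isMultiplyPretransitive_of_equiv e.symm φ.symm (fun g x => ?_) hpre
    apply e.injective
    rw [Equiv.apply_symm_apply, ← hφ, MulEquiv.apply_symm_apply, Equiv.apply_symm_apply]
  let x0 : Fin t ↪ Fin n := ⟨Fin.castLE htn, Fin.castLE_injective htn⟩
  have hstab : ∀ x : Fin t ↪ Fin n,
      MulAction.stabilizer (setSystemAut ({b | enc b ∈ ref} : Set (Finset (Fin n)))) x = ⊥ :=
    stabilizer_eq_bot_of_base hpre' x0 fun g hg =>
      eq_one_of_fix_base htn hcheck g fun a ha => hg ⟨a.val, ha⟩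
  refine ⟨⟨MulEquiv.ofBijective r (bijective_of_base r hinj htr (x0.trans e.symm.toEmbedding)
    (stabilizer_eq_bot_of_equiv e φ hφ hstab _))⟩, hpre', hstab⟩

theorem twelve_data : Nonempty (Spor.M12 ≃* setSystemAut std12) ∧
    MulAction.IsMultiplyPretransitive (setSystemAut std12) (Fin 12) 5 ∧
    ∀ x : Fin 5 ↪ Fin 12, MulAction.stabilizer (setSystemAut std12) x = ⊥ := by
  have hd := squareDodecad_mem
  have hmodel := isSteinerSystem_model (D := Spor.squareDodecad) (W := ∅) hd (Finset.empty_subset _)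
    (by simp) (by simp)
  simp only [Finset.card_empty, Nat.sub_zero] at hmodel
  have hcard : Fintype.card {q // q ∈ Spor.squareDodecad} = 12 := by
    rw [Fintype.card_coe]; exact card_of_mem_dodecads hd
  have hiso := iso_std12 hcard hmodel
  obtain ⟨⟨ψ⟩, h1, h2⟩ := exists_equiv_model (n := 12) (t := 5) (ref := refTwelve)
    (dodStab Spor.squareDodecad) (fun σ hσ q => apply_mem_iff_of_smul_eq hσ.2 q) inf_le_left
    (fun σ hσ => hσ.2) (fun σ _ => Finset.smul_finset_empty σ)
    (fun σ hσ h => eq_one_of_fix_dodecad hd hσ h)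
    (fun L L' hL hL' h h' hLd hLd' => exists_dodStab_map hd hL hL' (h.trans h'.symm) h.le hLd hLd')
    (by norm_num) hiso rigid_twelve
  obtain ⟨_, φ, -⟩ := exists_setSystemAut_equiv hiso
  exact ⟨⟨(MulEquiv.subgroupCongr sporM12_eq).trans (ψ.trans φ)⟩, h1, h2⟩

theorem eleven_data : Nonempty (Spor.M11 ≃* setSystemAut std11) ∧
    MulAction.IsMultiplyPretransitive (setSystemAut std11) (Fin 11) 4 ∧
    ∀ x : Fin 4 ↪ Fin 11, MulAction.stabilizer (setSystemAut std11) x = ⊥ := by
  have hd := squareDodecad_mem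
  have hp := some_zero_mem_squareDodecad
  have hmodel := isSteinerSystem_model (D := Spor.squareDodecad.erase (some 0)) (W := {some 0}) hd
    (Finset.singleton_subset_iff.mpr hp) (by simp) (Finset.erase_eq _ _)
  simp only [Finset.card_singleton] at hmodel
  have hcard : Fintype.card {q // q ∈ Spor.squareDodecad.erase (some 0)} = 11 := by
    rw [Fintype.card_coe, Finset.card_erase_of_mem hp, card_of_mem_dodecads hd]
  have hiso := iso_std11 hcard hmodel
  have h0 : ∀ σ ∈ dodPtStab Spor.squareDodecad (some 0), σ (some 0) = some 0 := fun σ hσ => hσ.2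
  obtain ⟨⟨ψ⟩, h1, h2⟩ := exists_equiv_model (n := 11) (t := 4) (ref := refEleven)
    (dodPtStab Spor.squareDodecad (some 0))
    (fun σ hσ q => by
      rw [Finset.mem_erase, Finset.mem_erase, apply_mem_iff_of_smul_eq hσ.1.2 q]
      refine and_congr_left fun _ => not_congr ⟨fun h => σ.injective (h.trans (h0 σ hσ).symm), ?_⟩
      rintro rfl; exact h0 σ hσ)
    (inf_le_left.trans inf_le_left)
    (fun σ hσ => hσ.1.2)
    (fun σ hσ => by rw [Finset.smul_finset_singleton, Equiv.Perm.smul_def, h0 σ hσ])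
    (fun σ hσ h => eq_one_of_fix_dodecad hd hσ.1 fun q hq => by
      by_cases hqp : q = some 0
      · subst hqp; exact h0 σ hσ
      · exact h q (Finset.mem_erase.mpr ⟨hqp, hq⟩))
    (fun L L' hL hL' h h' hLd hLd' => by
      obtain ⟨g, hg, hgL⟩ := exists_dodStab_map hd (L := some 0 :: L) (L' := some 0 :: L')
        (List.nodup_cons.mpr ⟨fun hm => (Finset.mem_erase.mp (hLd _ hm)).1 rfl, hL⟩)
        (List.nodup_cons.mpr ⟨fun hm => (Finset.mem_erase.mp (hLd' _ hm)).1 rfl, hL'⟩)
        (by simp [h, h']) (by simp [h])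
        (by simp only [List.mem_cons, forall_eq_or_imp]; exact ⟨hp, fun q hq => (Finset.mem_erase.mp (hLd q hq)).2⟩)
        (by simp only [List.mem_cons, forall_eq_or_imp]; exact ⟨hp, fun q hq => (Finset.mem_erase.mp (hLd' q hq)).2⟩)
      rw [List.map_cons, List.cons.injEq] at hgL
      exact ⟨g, ⟨hg, hgL.1⟩, hgL.2⟩)
    (by norm_num) hiso rigid_eleven
  obtain ⟨_, φ, -⟩ := exists_setSystemAut_equiv hiso
  exact ⟨⟨(MulEquiv.subgroupCongr sporM11_eq).trans (ψ.trans φ)⟩, h1, h2⟩

theorem aut_five_six {α : Type u} [Fintype α] [DecidableEq α] (hα : Fintype.card α = 12)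
    {B : Set (Finset α)} (hB : IsSteinerSystem 5 6 B) :
    IsM12 (setSystemAut B) ∧ MulAction.IsMultiplyPretransitive (setSystemAut B) α 5 ∧
      ∀ x : Fin 5 ↪ α, MulAction.stabilizer (setSystemAut B) x = ⊥ := by
  obtain ⟨⟨ψ⟩, h1, h2⟩ := twelve_data
  obtain ⟨e, φ, hφ⟩ := exists_setSystemAut_equiv (iso_std12 hα hB)
  refine ⟨⟨?_, ?_⟩, isMultiplyPretransitive_of_equiv e φ hφ h1, stabilizer_eq_bot_of_equiv e φ hφ h2⟩
  · haveI := isSimpleGroup_sporM12
    exact isSimpleGroup_of_mulEquiv (φ.trans ψ.symm)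
  · exact (Nat.card_congr (φ.trans ψ.symm).toEquiv).trans natCard_sporM12

theorem aut_four_five {α : Type u} [Fintype α] [DecidableEq α] (hα : Fintype.card α = 11)
    {B : Set (Finset α)} (hB : IsSteinerSystem 4 5 B) :
    IsM11 (setSystemAut B) ∧ MulAction.IsMultiplyPretransitive (setSystemAut B) α 4 ∧
      ∀ x : Fin 4 ↪ α, MulAction.stabilizer (setSystemAut B) x = ⊥ := by
  obtain ⟨⟨ψ⟩, h1, h2⟩ := eleven_data
  obtain ⟨e, φ, hφ⟩ := exists_setSystemAut_equiv (iso_std11 hα hB)
  refine ⟨⟨?_, ?_⟩, isMultiplyPretransitive_of_equiv e φ hφ h1, stabilizer_eq_bot_of_equiv e φ hφ h2⟩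
  · haveI := isSimpleGroup_sporM11
    exact isSimpleGroup_of_mulEquiv (φ.trans ψ.symm)
  · exact (Nat.card_congr (φ.trans ψ.symm).toEquiv).trans natCard_sporM11

end CfsgLib.Steiner.Small
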