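import Mathlib

/-!
The orbital graph of a rank three group of even order with two suborbits of different lengths.
-/

set_option autoImplicit false

namespace CfsgLib.Steiner.OrbitalGraph

open SimpleGraph

section Orbital

variable {G Ω : Type*} [Group G] [Finite G] [MulAction G Ω] [Fintype Ω] [DecidableEq Ω]
  [MulAction.IsPretransitive G Ω] [FaithfulSMul G Ω]

/-- The orbital graph of the suborbit of length 22. -/
theorem exists_graph {n k k' : ℕ} (hΩ : Fintype.card Ω = n) (hn : n = 1 + k + k') (hk : k ≠ k')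
    (hk1 : 1 < k) (hk1' : 1 < k') (h2 : 2 ∣ Nat.card G) (a b c : Ω)
    (hb : (MulAction.orbit (MulAction.stabilizer G a) b).ncard = k)
    (hc : (MulAction.orbit (MulAction.stabilizer G a) c).ncard = k') :
    ∃ (Γ : SimpleGraph Ω) (_ : DecidableRel Γ.Adj) (l m : ℕ), Γ.IsSRGWith n k l m ∧
      (∀ (g : G) (x y : Ω), Γ.Adj (g • x) (g • y) ↔ Γ.Adj x y) ∧
      ∀ y, Γ.Adj a y ↔ y ∈ MulAction.orbit (MulAction.stabilizer G a) b := by
  classical
  set H := MulAction.stabilizer G a with hH
  set O := MulAction.orbit H b with hO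
  set O' := MulAction.orbit H c with hO'
  have ha : ∀ d : Ω, a ∈ MulAction.orbit H d → (MulAction.orbit H d).ncard = 1 := by
    intro d hd
    rw [Set.ncard_eq_one]
    refine ⟨a, ?_⟩
    rw [← MulAction.orbit_eq_iff.mpr hd]
    ext y
    refine ⟨fun hy => ?_, fun hy => by rw [Set.mem_singleton_iff] at hy; subst hy; exact MulAction.mem_orbit_self _⟩
    obtain ⟨h, rfl⟩ := hy
    exact h.2
  have haO : a ∉ O := fun h => by have := hb.symm.trans (ha b h); omega
  have haO' : a ∉ O' := fun h => by have := hc.symm.trans (ha c h); omega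
  have hdis : Disjoint O O' := by
    rw [Set.disjoint_left]
    intro x hx hx'
    have e : O = O' := (MulAction.orbit_eq_iff.mpr hx).symm.trans (MulAction.orbit_eq_iff.mpr hx')
    rw [e, hc] at hb
    exact hk hb.symm
  have hcover : ∀ x, x = a ∨ x ∈ O ∨ x ∈ O' := by
    have hu : insert a (O ∪ O') = Set.univ := by
      refine Set.eq_of_subset_of_ncard_le (Set.subset_univ _) ?_
      rw [Set.ncard_univ, Nat.card_eq_fintype_card, hΩ, Set.ncard_insert_of_notMem (by simp [haO, haO']),
        Set.ncard_union_eq hdis, hb, hc]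
      omega
    intro x
    have := Set.mem_univ x
    rwa [← hu] at this
  let R : Ω → Ω → Prop := fun x y => ∃ g : G, g • a = x ∧ g • b = y
  have hRinv : ∀ (g : G) (x y : Ω), R x y → R (g • x) (g • y) := by
    rintro g x y ⟨k, rfl, rfl⟩
    exact ⟨g * k, mul_smul _ _ _, mul_smul _ _ _⟩
  have hRa : ∀ y, R a y ↔ y ∈ O := fun y =>
    ⟨fun ⟨g, h1, h2⟩ => ⟨⟨g, h1⟩, h2⟩, fun ⟨h, h2⟩ => ⟨h.1, h.2, h2⟩⟩
  -- some pair is interchanged by an involution
  have hswap : ∃ x : Ω, x ≠ a ∧ ∃ g : G, g • a = x ∧ g • x = a := by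
    obtain ⟨p, q, hpq, t, ht1, ht2⟩ : ∃ (p q : Ω), p ≠ q ∧ ∃ t : G, t • p = q ∧ t • q = p := by
      by_contra hcon
      push Not at hcon
      -- the elements of order dividing two act trivially
      have htriv : ∀ t : G, t * t = 1 → ∀ p : Ω, t • p = p := by
        intro t ht p
        by_contra hne
        exact hcon p (t • p) (Ne.symm hne) t rfl (by rw [← mul_smul, ht, one_smul])
      haveI := Fact.mk Nat.prime_two
      obtain ⟨t, ht⟩ := exists_prime_orderOf_dvd_card' 2 h2
      have ht1 : t ≠ 1 := fun h => by rw [h, orderOf_one] at ht; omega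
      exact ht1 (eq_of_smul_eq_smul fun p : Ω => by
        rw [one_smul]
        exact htriv t (by rw [← pow_two, ← ht]; exact pow_orderOf_eq_one t) p)
    obtain ⟨g, rfl⟩ := MulAction.exists_smul_eq G a p
    refine ⟨g⁻¹ • q, ?_, g⁻¹ * t * g, by rw [mul_smul, mul_smul, ht1], by
      rw [mul_smul, mul_smul, smul_inv_smul, ht2, inv_smul_smul]⟩
    rw [Ne, inv_smul_eq_iff]
    exact Ne.symm hpq
  have hRb : R b a := by
    obtain ⟨g0, hg0⟩ := MulAction.exists_smul_eq G b a
    set z := g0 • a with hz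
    have hRz : R z a := ⟨g0, rfl, hg0⟩
    obtain ⟨x, hxa, g, hg1, hg2⟩ := hswap
    rcases hcover x with hx | hx | hx
    · exact absurd hx hxa
    · -- the suborbit of length 22 is self-paired
      obtain ⟨k, hk, hk'⟩ := (hRa x).mpr hx
      refine ⟨k⁻¹ * g * k, ?_, ?_⟩
      · rw [mul_smul, mul_smul, hk, hg1, ← hk', inv_smul_smul]
      · rw [mul_smul, mul_smul, hk', hg2, inv_smul_eq_iff, hk]
    · -- the other suborbit is self-paired
      rcases hcover z with h | h | h
      · rw [h] at hRz; exact absurd ((hRa a).mp hRz) haO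
      · obtain ⟨k, hk, hk'⟩ := (hRa z).mpr h
        have := hRinv k⁻¹ _ _ hRz
        rwa [← hk', inv_smul_smul, show k⁻¹ • a = a from inv_smul_eq_iff.mpr hk.symm] at this
      · exfalso
        obtain ⟨h1, rfl⟩ := hx
        obtain ⟨h2, hh2⟩ := h
        -- transport the swap from `x` to `z`
        have hc' := hRinv ((h1 : G) * (h2 : G)⁻¹) _ _ hRz
        rw [← hh2] at hc'
        simp only [Subgroup.smul_def, mul_smul, inv_smul_smul,
          show ((h2 : G)⁻¹) • a = a from inv_smul_eq_iff.mpr h2.2.symm,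
          show (h1 : G) • a = a from h1.2] at hc'
        have := hRinv g _ _ hc'
        rw [hg1] at this
        simp only [Subgroup.smul_def] at hg2
        rw [hg2] at this
        exact Set.disjoint_left.mp hdis ((hRa _).mp this) ⟨h1, rfl⟩
  have hsymm : ∀ x y, R x y → R y x := by
    rintro x y ⟨g, rfl, rfl⟩
    exact hRinv g _ _ hRb
  have hne : ∀ x y, R x y → x ≠ y := by
    rintro x y ⟨g, rfl, rfl⟩ e
    exact haO ((MulAction.injective g e).symm ▸ MulAction.mem_orbit_self b)
  let Γ : SimpleGraph Ω :=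
    { Adj := R, symm := ⟨fun x y => hsymm x y⟩, loopless := ⟨fun x h => hne x x h rfl⟩ }
  have hadj : ∀ (g : G) (x y : Ω), Γ.Adj (g • x) (g • y) ↔ Γ.Adj x y := fun g x y =>
    ⟨fun h => by simpa using hRinv g⁻¹ _ _ h, fun h => hRinv g x y h⟩
  have hcn : ∀ (g : G) (x y : Ω),
      (Γ.commonNeighbors (g • x) (g • y)).ncard = (Γ.commonNeighbors x y).ncard := by
    intro g x y
    rw [← Set.ncard_image_of_injective (Γ.commonNeighbors x y) (MulAction.injective g)]
    congr 1
    ext w
    constructor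
    · intro hw
      refine ⟨g⁻¹ • w, ?_, smul_inv_smul g w⟩
      rw [mem_commonNeighbors] at hw ⊢
      rw [← hadj g, ← hadj g y, smul_inv_smul]
      exact hw
    · rintro ⟨u, hu, rfl⟩
      rw [mem_commonNeighbors] at hu ⊢
      exact ⟨(hadj g x u).mpr hu.1, (hadj g y u).mpr hu.2⟩
  refine ⟨Γ, inferInstance, (Γ.commonNeighbors a b).ncard, (Γ.commonNeighbors a c).ncard,
    ⟨hΩ, fun x => ?_, fun x y hxy => ?_, fun x y hxy hn => ?_⟩, hadj, hRa⟩
  · obtain ⟨g, rfl⟩ := MulAction.exists_smul_eq G a x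
    rw [← card_neighborFinset_eq_degree, ← Set.ncard_coe_finset, coe_neighborFinset, ← hb,
      ← Set.ncard_image_of_injective O (MulAction.injective g)]
    congr 1
    ext w
    rw [mem_neighborSet]
    constructor
    · intro hw
      exact ⟨g⁻¹ • w, (hRa _).mp ((hadj g a _).mp (by rwa [smul_inv_smul])), smul_inv_smul g w⟩
    · rintro ⟨u, hu, rfl⟩
      exact (hadj g a u).mpr ((hRa u).mpr hu)
  · obtain ⟨g, rfl, rfl⟩ := hxy
    rw [← Nat.card_eq_fintype_card, Nat.card_coe_set_eq, hcn]
  · obtain ⟨g, rfl⟩ := MulAction.exists_smul_eq G a x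
    rcases hcover (g⁻¹ • y) with h | h | h
    · exact absurd (inv_smul_eq_iff.mp h).symm hxy
    · exact absurd (by simpa using (hadj g _ _).mpr ((hRa _).mpr h)) hn
    · obtain ⟨k, hk⟩ := h
      rw [← Nat.card_eq_fintype_card, Nat.card_coe_set_eq,
        show y = g • ((k : G) • c) by rw [show (k : G) • c = g⁻¹ • y from hk, smul_inv_smul], hcn]
      conv_lhs => rw [← show (k : G) • a = a from k.2, hcn]

end Orbital

end CfsgLib.Steiner.OrbitalGraph
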