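import Mathlib
import Cfsg.Prelude.Def_Sporadic_a
import Cfsg.Agent.Lib.Steiner.Inter

/-!
Counting in an S(3,6,22): the block graph and the point-block graph.
-/

set_option autoImplicit false

namespace CfsgLib.Steiner.GraphTwentyTwo

open CfsgLib.Combin.SteinerCount

variable {α : Type*} [Fintype α] [DecidableEq α]

/-- Blocks through `S` disjoint from `b`. -/
noncomputable def disj (B : Set (Finset α)) (S b : Finset α) : Finset (Finset α) :=
  (blocksThrough B S).filter fun d => Disjoint d b

variable {B : Set (Finset α)} (hα : Fintype.card α = 22) (hB : Cfsg.IsSteinerSystem 3 6 B)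

include hα hB

theorem card_inter_cases {b c : Finset α} (hb : b ∈ B) (hc : c ∈ B) (hne : b ≠ c) :
    (b ∩ c).card = 0 ∨ (b ∩ c).card = 2 := card_inter_three_six hα hB hb hc hne

/-- Blocks through `S` split by their intersection with `b`. -/
theorem two_mul_meeting {b : Finset α} (hb : b ∈ B) {S : Finset α} (hS : ¬ S ⊆ b)
    (hdisj : Disjoint S b) (hS2 : S.card ≤ 2) :
    2 * ((blocksThrough B S).card - (disj B S b).card) = 6 * [77, 21, 5, 1].getD (S.card + 1) 0 := by
  classical
  have h2 : ∀ d ∈ blocksThrough B S, (b ∩ d).card = if Disjoint d b then 0 else 2 := by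
    intro d hd
    rw [mem_blocksThrough] at hd
    by_cases hdb : Disjoint d b
    · rw [if_pos hdb, Finset.card_eq_zero, Finset.inter_comm]
      exact Finset.disjoint_iff_inter_eq_empty.mp hdb
    · rw [if_neg hdb]
      rcases card_inter_cases hα hB hb hd.1 (fun h => hS (h ▸ hd.2)) with h | h
      · exfalso; apply hdb
        rw [Finset.disjoint_iff_inter_eq_empty, Finset.inter_comm]
        exact Finset.card_eq_zero.mp h
      · exact h
  have h1 : ∑ d ∈ blocksThrough B S, (b ∩ d).card = 6 * [77, 21, 5, 1].getD (S.card + 1) 0 := by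
    have e : ∀ d, (b ∩ d).card = ∑ x ∈ b, if x ∈ d then 1 else 0 := fun d => by
      rw [← Finset.card_filter, Finset.filter_mem_eq_inter]
    simp only [e]
    rw [Finset.sum_comm, ← hB.1 b hb, ← smul_eq_mul, ← Finset.sum_const]
    refine Finset.sum_congr rfl fun x hx => ?_
    rw [← Finset.card_filter]
    have hxS : x ∉ S := fun h => Finset.disjoint_left.mp hdisj h hx
    rw [show (blocksThrough B S).filter (fun d => x ∈ d) = blocksThrough B (insert x S) by
      ext d; simp only [Finset.mem_filter, mem_blocksThrough, Finset.insert_subset_iff]; tauto]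
    rw [card_blocksThrough_three_six hα hB _ (by rw [Finset.card_insert_of_notMem hxS]; omega),
      Finset.card_insert_of_notMem hxS]
  rw [Finset.sum_congr rfl h2, Finset.sum_ite, Finset.sum_const, Finset.sum_const, smul_eq_mul,
    smul_eq_mul, mul_zero, zero_add] at h1
  have h3 := Finset.card_filter_add_card_filter_not (s := blocksThrough B S) fun d => Disjoint d b
  rw [disj]
  omega

/-- A point outside a block lies on six blocks disjoint from it. -/
theorem card_disj_point {b : Finset α} (hb : b ∈ B) {p : α} (hp : p ∉ b) :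
    (disj B {p} b).card = 6 := by
  have := two_mul_meeting hα hB hb (S := {p}) (by simpa using hp) (by simpa using hp) (by simp)
  have h21 := card_blocksThrough_three_six hα hB {p} (by simp)
  simp at this h21
  have hle : (disj B {p} b).card ≤ (blocksThrough B {p}).card := Finset.card_filter_le _ _
  omega

/-- Two points outside a block lie on two blocks disjoint from it. -/
theorem card_disj_pair {b : Finset α} (hb : b ∈ B) {p q : α} (hpq : p ≠ q) (hp : p ∉ b) (hq : q ∉ b) :
    (disj B {p, q} b).card = 2 := by
  have := two_mul_meeting hα hB hb (S := {p, q})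
    (fun h => hp (h (by simp))) (by simp [hp, hq]) (by simp [hpq])
  have h5 := card_blocksThrough_three_six hα hB {p, q} (by simp [hpq])
  simp [hpq] at this h5
  have hle : (disj B {p, q} b).card ≤ (blocksThrough B {p, q}).card := Finset.card_filter_le _ _
  omega

/-- Sixteen blocks are disjoint from a given one. -/
theorem card_disj_empty {b : Finset α} (hb : b ∈ B) : (disj B ∅ b).card = 16 := by
  classical
  have key : ∀ i, i ≤ 3 → ∑ j ∈ Finset.range 3, meetCount B b j * j.choose i =
      Nat.choose 6 i * ([77, 21, 5, 1].getD i 0 - 1) := fun i hi =>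
    sum_meetCount hB hb fun I hI => by rw [card_blocksThrough_three_six hα hB I (hI ▸ hi), hI]
  have h0 := key 0 (by norm_num)
  have h1 := key 1 (by norm_num)
  have h2 := key 2 (by norm_num)
  simp [Finset.sum_range_succ, Nat.choose] at h0 h1 h2
  have : disj B ∅ b = ((blocksThrough B ∅).erase b).filter fun c => (b ∩ c).card = 0 := by
    ext d
    simp only [disj, Finset.mem_filter, Finset.mem_erase, Finset.card_eq_zero,
      ← Finset.disjoint_iff_inter_eq_empty]
    constructor
    · rintro ⟨hd, hdb⟩
      refine ⟨⟨?_, hd⟩, hdb.symm⟩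
      rintro rfl
      rw [disjoint_self] at hdb
      have := hB.1 _ hb
      simp [hdb] at this
    · rintro ⟨⟨-, hd⟩, hdb⟩; exact ⟨hd, hdb.symm⟩
  rw [this]
  show meetCount B b 0 = 16
  omega

/-- The points of `c` outside `b` against the blocks disjoint from `b`. -/
theorem sum_inter_disj {b c : Finset α} (hb : b ∈ B) :
    ∑ d ∈ disj B ∅ b, (c ∩ d).card = (c \ b).card * 6 := by
  classical
  have e : ∀ d ∈ disj B ∅ b, (c ∩ d).card = ∑ x ∈ c \ b, if x ∈ d then 1 else 0 := fun d hd => by
    rw [← Finset.card_filter, Finset.filter_mem_eq_inter]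
    congr 1
    have hdb := (Finset.mem_filter.mp hd).2
    ext x
    simp only [Finset.mem_inter, Finset.mem_sdiff]
    exact ⟨fun h => ⟨⟨h.1, Finset.disjoint_left.mp hdb h.2⟩, h.2⟩, fun h => ⟨h.1.1, h.2⟩⟩
  rw [Finset.sum_congr rfl e, Finset.sum_comm, ← smul_eq_mul, ← Finset.sum_const]
  refine Finset.sum_congr rfl fun x hx => ?_
  rw [← Finset.card_filter, ← card_disj_point hα hB hb (Finset.mem_sdiff.mp hx).2]
  congr 1
  ext d
  simp only [disj, Finset.mem_filter, mem_blocksThrough, Finset.empty_subset, and_true,
    Finset.singleton_subset_iff]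
  tauto

/-- Two disjoint blocks have no common disjoint block. -/
theorem common_disj_of_disjoint {b c : Finset α} (hb : b ∈ B) (hc : c ∈ B) (h : Disjoint b c) :
    ((disj B ∅ b).filter fun d => Disjoint d c).card = 0 := by
  classical
  have hcb : c ∈ disj B ∅ b := by
    simp [disj, mem_blocksThrough, hc, h.symm]
  have hsum := sum_inter_disj hα hB (c := c) hb
  rw [Finset.sdiff_eq_self_of_disjoint h.symm, hB.1 c hc,
    ← Finset.add_sum_erase _ _ hcb, Finset.inter_self, hB.1 c hc] at hsum
  have h16 := card_disj_empty hα hB hb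
  have hle : ∀ d ∈ (disj B ∅ b).erase c, (c ∩ d).card ≤ 2 := by
    intro d hd
    obtain ⟨hdc, hd⟩ := Finset.mem_erase.mp hd
    rcases card_inter_cases hα hB hc (mem_blocksThrough.mp (Finset.mem_filter.mp hd).1).1 hdc.symm
      with h' | h' <;> omega
  have hall : ∀ d ∈ (disj B ∅ b).erase c, (c ∩ d).card = 2 := by
    by_contra hne
    push Not at hne
    obtain ⟨d, hd, hd2⟩ := hne
    have hlt := Finset.sum_lt_sum hle ⟨d, hd, lt_of_le_of_ne (hle d hd) hd2⟩
    rw [Finset.sum_const, Finset.card_erase_of_mem hcb, h16] at hlt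
    simp at hlt
    omega
  rw [Finset.card_eq_zero, Finset.filter_eq_empty_iff]
  intro d hd hdc
  by_cases hdc' : d = c
  · subst hdc'
    rw [disjoint_self] at hdc
    have := hB.1 _ hc
    simp [hdc] at this
  · have := hall d (Finset.mem_erase.mpr ⟨hdc', hd⟩)
    rw [Finset.inter_comm, Finset.disjoint_iff_inter_eq_empty.mp hdc] at this
    simp at this

/-- Two meeting blocks have four common disjoint blocks. -/
theorem common_disj_of_meet {b c : Finset α} (hb : b ∈ B) (hc : c ∈ B) (hne : b ≠ c)
    (h : ¬ Disjoint b c) : ((disj B ∅ b).filter fun d => Disjoint d c).card = 4 := by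
  classical
  have h2 : (b ∩ c).card = 2 := by
    rcases card_inter_cases hα hB hb hc hne with h' | h'
    · exact absurd (Finset.disjoint_iff_inter_eq_empty.mpr (Finset.card_eq_zero.mp h')) h
    · exact h'
  have hsum := sum_inter_disj hα hB (c := c) hb
  have hcd : (c \ b).card = 4 := by
    have := Finset.card_sdiff_add_card_inter c b
    rw [Finset.inter_comm, h2, hB.1 c hc] at this
    omega
  have hval : ∀ d ∈ disj B ∅ b, (c ∩ d).card = if Disjoint d c then 0 else 2 := by
    intro d hd
    obtain ⟨hd1, hd2⟩ := Finset.mem_filter.mp hd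
    by_cases hdc : Disjoint d c
    · rw [if_pos hdc, Finset.inter_comm, Finset.card_eq_zero]
      exact Finset.disjoint_iff_inter_eq_empty.mp hdc
    · rw [if_neg hdc]
      rcases card_inter_cases hα hB hc (mem_blocksThrough.mp hd1).1
        (fun hcd' => h (hcd' ▸ hd2).symm) with h' | h'
      · exfalso; apply hdc
        rw [Finset.disjoint_iff_inter_eq_empty, Finset.inter_comm]
        exact Finset.card_eq_zero.mp h'
      · exact h'
  rw [Finset.sum_congr rfl hval, Finset.sum_ite, Finset.sum_const, Finset.sum_const, hcd,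
    smul_eq_mul, smul_eq_mul] at hsum
  have h16 := card_disj_empty hα hB hb
  have h3 := Finset.card_filter_add_card_filter_not (s := disj B ∅ b) fun d => Disjoint d c
  omega

end CfsgLib.Steiner.GraphTwentyTwo

namespace CfsgLib.Steiner.GraphTwentyTwo

open CfsgLib.Combin.SteinerCount

variable {α : Type*} [Fintype α] [DecidableEq α] {B : Set (Finset α)}

theorem card_filter_subtype [Fintype B] (P : Finset α → Prop) [DecidablePred P] :
    ((Finset.univ : Finset B).filter fun x => P x.1).card = ((blocksThrough B ∅).filter P).card := by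
  refine Finset.card_bij (fun x _ => x.1) (fun x hx => ?_) (fun x _ y _ h => Subtype.ext h)
    (fun d hd => ?_)
  · simp [mem_blocksThrough, (Finset.mem_filter.mp hx).2]
  · simp only [Finset.mem_filter, mem_blocksThrough] at hd
    exact ⟨⟨d, hd.1.1⟩, by simp [hd.2], rfl⟩

theorem blockGraph_adj (hB : ∀ b ∈ B, b.card ≠ 0) {b c : B} :
    (Cfsg.blockGraph B).Adj b c ↔ Disjoint (b : Finset α) (c : Finset α) := by
  rw [Cfsg.blockGraph, SimpleGraph.fromRel_adj, disjoint_comm (a := (c : Finset α)), or_self]
  refine ⟨fun h => h.2, fun h => ⟨?_, h⟩⟩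
  rintro rfl
  rw [disjoint_self] at h
  exact hB _ b.2 (by simp [h])

theorem pointBlock_adj (hB : ∀ b ∈ B, b.card ≠ 0) (x y : Option (α ⊕ B)) :
    (Cfsg.pointBlockGraph B).Adj x y ↔ match x, y with
      | none, some (Sum.inl _) => True
      | some (Sum.inl _), none => True
      | some (Sum.inl a), some (Sum.inr b) => a ∈ (b : Finset α)
      | some (Sum.inr b), some (Sum.inl a) => a ∈ (b : Finset α)
      | some (Sum.inr b), some (Sum.inr c) => Disjoint (b : Finset α) (c : Finset α)
      | _, _ => False := by
  rw [Cfsg.pointBlockGraph, SimpleGraph.fromRel_adj]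
  rcases x with _ | (a | b) <;> rcases y with _ | (a' | c) <;> simp [Cfsg.pointBlockRel]
  rw [disjoint_comm (a := (c : Finset α)), or_self]
  refine ⟨fun h => h.2, fun h => ⟨?_, h⟩⟩
  intro hbc
  rw [hbc, disjoint_self] at h
  exact hB _ c.2 (by simp [h])

theorem card_filter_option_sum {A C : Type*} [Fintype A] [Fintype C]
    (P : Option (A ⊕ C) → Prop) [DecidablePred P] :
    (Finset.univ.filter P).card = (if P none then 1 else 0) +
      ((Finset.univ.filter fun a => P (some (Sum.inl a))).card +
        (Finset.univ.filter fun c => P (some (Sum.inr c))).card) := by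
  simp only [Finset.card_filter, Fintype.sum_option, Fintype.sum_sum_type]

end CfsgLib.Steiner.GraphTwentyTwo
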