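import Mathlib
import Cfsg.Prelude.Def_Sporadic_a
import Cfsg.Agent.Lib.Steiner.GraphTwentyTwo
import Cfsg.Agent.Lib.Steiner.Iso
import Cfsg.Agent.Lib.Steiner.WittUnique

/-!
A strongly regular graph (100, 22, 0, 6) is the point-block graph of an S(3,6,22), seen from any of its vertices.
-/

set_option autoImplicit false

namespace CfsgLib.Steiner.SRGHundred

universe u

section Transport

variable {α β : Type*}

/-- An isomorphism of set systems induces an isomorphism of the point-block graphs. -/
theorem exists_iso_of_setSystemIso [DecidableEq β] {B : Set (Finset α)} {B' : Set (Finset β)}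
    (e : α ≃ β) (he : (fun b => b.image e) '' B = B') :
    ∃ f : Cfsg.pointBlockGraph B ≃g Cfsg.pointBlockGraph B',
      f none = none ∧ ∀ a, f (some (Sum.inl a)) = some (Sum.inl (e a)) := by
  classical
  let eB : B ≃ B' :=
    (Equiv.Set.image (fun b : Finset α => b.image e) B (Finset.image_injective e.injective)).trans
      (Equiv.setCongr he)
  have heB : ∀ b : B, (eB b : Finset β) = (b : Finset α).image e := fun b => rfl
  let f : Option (α ⊕ B) ≃ Option (β ⊕ B') := Equiv.optionCongr (Equiv.sumCongr e eB)
  refine ⟨⟨f, fun {x y} => ?_⟩, rfl, fun a => rfl⟩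
  have key : ∀ x y, Cfsg.pointBlockRel B' (f x) (f y) ↔ Cfsg.pointBlockRel B x y := by
    rintro (_ | (a | b)) (_ | (a' | c)) <;>
      simp [f, Cfsg.pointBlockRel, heB, e.injective.eq_iff, Finset.disjoint_image e.injective]
  simp only [Cfsg.pointBlockGraph, SimpleGraph.fromRel_adj, key, ne_eq, f.injective.eq_iff]

end Transport

variable {V : Type u} [Fintype V] [DecidableEq V] {G : SimpleGraph V} [DecidableRel G.Adj]
  (hG : G.IsSRGWith 100 22 0 6)

include hG

theorem adj_no_common {x y : V} (h : G.Adj x y) (z : V) (h1 : G.Adj x z) (h2 : G.Adj y z) : False := by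
  have h0 := hG.of_adj x y h
  rw [Fintype.card_eq_zero_iff] at h0
  exact h0.elim ⟨z, h1, h2⟩

theorem card_common {x y : V} (hne : x ≠ y) (h : ¬ G.Adj x y) :
    (Finset.univ.filter fun z => G.Adj x z ∧ G.Adj y z).card = 6 := by
  rw [← hG.of_not_adj hne h, Fintype.card_subtype]
  rfl

theorem card_nbr (x : V) : (Finset.univ.filter fun z => G.Adj x z).card = 22 := by
  rw [← SimpleGraph.neighborFinset_eq_filter]
  exact hG.regular x

variable (v : V)

theorem card_points : (G.neighborFinset v).card = 22 := hG.regular v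

/-- The vertices at distance two from `v`. -/
theorem card_far : (Finset.univ.filter fun m => m ≠ v ∧ ¬ G.Adj v m).card = 77 := by
  have h1 : (Finset.univ.filter fun m => m ≠ v ∧ ¬ G.Adj v m) =
      Finset.univ \ insert v (G.neighborFinset v) := by
    ext m; simp [not_or]
  rw [h1, Finset.card_sdiff_of_subset (Finset.subset_univ _), Finset.card_univ, hG.card,
    Finset.card_insert_of_notMem (by simp), card_points hG v]

theorem card_block {m : V} (h1 : m ≠ v) (h2 : ¬ G.Adj v m) :
    ((G.neighborFinset v).filter fun p => G.Adj m p).card = 6 := by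
  rw [← card_common hG h1.symm h2]
  congr 1
  ext p; simp

/-- Two blocks meet in no point or in two, according as the vertices are adjacent or not. -/
theorem card_block_inter {m m' : V} (h1 : m ≠ v) (h2 : ¬ G.Adj v m) (h1' : m' ≠ v)
    (h2' : ¬ G.Adj v m') (hne : m' ≠ m) :
    ((G.neighborFinset v).filter fun p => G.Adj m p ∧ G.Adj m' p).card =
      if G.Adj m m' then 0 else 2 := by
  by_cases hadj : G.Adj m m'
  · rw [if_pos hadj, Finset.card_eq_zero, Finset.filter_eq_empty_iff]
    exact fun p _ h => adj_no_common hG hadj p h.1 h.2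
  rw [if_neg hadj]
  let T : Finset V := Finset.univ.filter fun z => z ≠ v ∧ ¬ G.Adj v z ∧ z ≠ m ∧ ¬ G.Adj m z
  let b : Finset V := (G.neighborFinset v).filter fun p => G.Adj m p
  let x : V → ℕ := fun z => (b.filter fun p => G.Adj z p).card
  have hb : b.card = 6 := card_block hG v h1 h2
  have hbp : ∀ p ∈ b, G.Adj v p ∧ G.Adj m p := fun p hp => by simpa [b] using hp
  have hpne : ∀ p ∈ b, ∀ q, G.Adj p q → G.Adj v q → False := fun p hp q hpq hvq =>
    adj_no_common hG (hbp p hp).1 q hvq hpq
  have hvm : v ≠ m := h1.symm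
  have hone : ∀ p ∈ b, (T.filter fun z => G.Adj z p).card = 20 := by
    intro p hp
    have hset : (Finset.univ.filter fun z => G.Adj p z) =
        insert v (insert m (T.filter fun z => G.Adj z p)) := by
      ext z
      simp only [T, Finset.mem_filter, Finset.mem_univ, true_and, Finset.mem_insert]
      constructor
      · intro hz
        by_cases hzv : z = v
        · exact Or.inl hzv
        by_cases hzm : z = m
        · exact Or.inr (Or.inl hzm)
        exact Or.inr (Or.inr ⟨⟨hzv, fun hv => hpne p hp z hz hv, hzm,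
          fun hm => adj_no_common hG (hbp p hp).2 z hm hz⟩, hz.symm⟩)
      · rintro (rfl | rfl | ⟨-, hz⟩)
        · exact (hbp p hp).1.symm
        · exact (hbp p hp).2.symm
        · exact hz.symm
    have h22 := card_nbr hG p
    rw [hset, Finset.card_insert_of_notMem (by simp [T, hvm]),
      Finset.card_insert_of_notMem (by simp [T])] at h22
    omega
  have htwo : ∀ p ∈ b, ∀ q ∈ b, p ≠ q → (T.filter fun z => G.Adj z p ∧ G.Adj z q).card = 4 := by
    intro p hp q hq hpq
    have hset : (Finset.univ.filter fun z => G.Adj p z ∧ G.Adj q z) =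
        insert v (insert m (T.filter fun z => G.Adj z p ∧ G.Adj z q)) := by
      ext z
      simp only [T, Finset.mem_filter, Finset.mem_univ, true_and, Finset.mem_insert]
      constructor
      · intro hz
        by_cases hzv : z = v
        · exact Or.inl hzv
        by_cases hzm : z = m
        · exact Or.inr (Or.inl hzm)
        exact Or.inr (Or.inr ⟨⟨hzv, fun hv => hpne p hp z hz.1 hv, hzm,
          fun hm => adj_no_common hG (hbp p hp).2 z hm hz.1⟩, hz.1.symm, hz.2.symm⟩)
      · rintro (rfl | rfl | ⟨-, hz⟩)
        · exact ⟨(hbp p hp).1.symm, (hbp q hq).1.symm⟩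
        · exact ⟨(hbp p hp).2.symm, (hbp q hq).2.symm⟩
        · exact ⟨hz.1.symm, hz.2.symm⟩
    have h6 := card_common hG hpq fun h => hpne p hp q h (hbp q hq).1
    rw [hset, Finset.card_insert_of_notMem (by simp [T, hvm]),
      Finset.card_insert_of_notMem (by simp [T])] at h6
    omega
  have hT : T.card = 60 := by
    have hset : (Finset.univ.filter fun z => z ≠ v ∧ ¬ G.Adj v z) =
        insert m (T ∪ ((Finset.univ.filter fun z => G.Adj m z) \ b)) := by
      ext z
      simp only [T, b, Finset.mem_filter, Finset.mem_univ, true_and, Finset.mem_insert,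
        Finset.mem_union, Finset.mem_sdiff, SimpleGraph.mem_neighborFinset]
      constructor
      · rintro ⟨hzv, hv⟩
        by_cases hzm : z = m
        · exact Or.inl hzm
        by_cases hm : G.Adj m z
        · exact Or.inr (Or.inr ⟨hm, fun h => hv h.1⟩)
        · exact Or.inr (Or.inl ⟨hzv, hv, hzm, hm⟩)
      · rintro (rfl | h | h)
        · exact ⟨h1, h2⟩
        · exact ⟨h.1, h.2.1⟩
        · exact ⟨fun e => h2 (e ▸ h.1.symm), fun hv => h.2 ⟨hv, h.1⟩⟩
    have h77 := card_far hG v
    have hd : Disjoint T ((Finset.univ.filter fun z => G.Adj m z) \ b) := by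
      rw [Finset.disjoint_left]
      intro z hz hz'
      simp only [T, Finset.mem_filter, Finset.mem_sdiff, Finset.mem_univ, true_and] at hz hz'
      exact hz.2.2.2 hz'.1
    rw [hset, Finset.card_insert_of_notMem (by simp [T]), Finset.card_union_of_disjoint hd,
      Finset.card_sdiff_of_subset (fun p hp => by simp [(hbp p hp).2]), card_nbr hG, hb] at h77
    omega
  have hs1 : ∑ z ∈ T, x z = 120 := by
    simp only [x, Finset.card_filter]
    rw [Finset.sum_comm, Finset.sum_congr rfl fun p hp => (Finset.card_filter _ _).symm.trans (hone p hp),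
      Finset.sum_const, hb, smul_eq_mul]
  have hs2 : ∑ z ∈ T, x z ^ 2 = 240 := by
    have : ∀ z, x z ^ 2 = ∑ p ∈ b, ∑ q ∈ b, if G.Adj z p ∧ G.Adj z q then 1 else 0 := fun z => by
      simp only [x, pow_two, Finset.card_filter]
      rw [Finset.sum_mul_sum]
      refine Finset.sum_congr rfl fun p _ => Finset.sum_congr rfl fun q _ => ?_
      by_cases h1 : G.Adj z p <;> by_cases h2 : G.Adj z q <;> simp [h1, h2]
    simp only [this]
    rw [Finset.sum_comm]
    calc ∑ p ∈ b, ∑ z ∈ T, ∑ q ∈ b, (if G.Adj z p ∧ G.Adj z q then 1 else 0)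
        = ∑ p ∈ b, ∑ q ∈ b, (T.filter fun z => G.Adj z p ∧ G.Adj z q).card :=
          Finset.sum_congr rfl fun p _ => by rw [Finset.sum_comm]; simp only [Finset.card_filter]
      _ = ∑ p ∈ b, ∑ q ∈ b, (if p = q then 20 else 4) := by
          refine Finset.sum_congr rfl fun p hp => Finset.sum_congr rfl fun q hq => ?_
          by_cases hpq : p = q
          · subst hpq; rw [if_pos rfl, ← hone p hp]; simp only [and_self]
          · rw [if_neg hpq, htwo p hp q hq hpq]
      _ = 240 := by
          rw [Finset.sum_congr rfl fun p hp => show (∑ q ∈ b, if p = q then 20 else 4) = 40 by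
            rw [← Finset.add_sum_erase _ _ hp, if_pos rfl,
              Finset.sum_congr rfl fun q hq => if_neg (Finset.ne_of_mem_erase hq).symm,
              Finset.sum_const, Finset.card_erase_of_mem hp, hb]; rfl]
          rw [Finset.sum_const, hb]; rfl
  have hz : ∑ z ∈ T, ((x z : ℤ) - 2) ^ 2 = 0 := by
    have e1 : ((∑ z ∈ T, x z : ℕ) : ℤ) = 120 := by rw [hs1]; rfl
    have e2 : ((∑ z ∈ T, x z ^ 2 : ℕ) : ℤ) = 240 := by rw [hs2]; rfl
    push_cast at e1 e2
    calc ∑ z ∈ T, ((x z : ℤ) - 2) ^ 2 = ∑ z ∈ T, ((x z : ℤ) ^ 2 - 4 * (x z : ℤ) + 4) :=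
          Finset.sum_congr rfl fun z _ => by ring
      _ = 0 := by
          rw [Finset.sum_add_distrib, Finset.sum_sub_distrib, ← Finset.mul_sum, e1, e2,
            Finset.sum_const, hT]
          norm_num
  have hm' : m' ∈ T := by simp [T, h1', h2', hne, hadj]
  have := (Finset.sum_eq_zero_iff_of_nonneg fun z _ => sq_nonneg _).mp hz m' hm'
  have hx : x m' = 2 := by
    have := pow_eq_zero_iff two_ne_zero |>.mp this
    omega
  rw [← hx]
  show _ = (b.filter fun p => G.Adj m' p).card
  rw [Finset.filter_filter]

/-- Any vertex sees the graph as the point-block graph of an S(3,6,22) on its neighbours. -/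
theorem exists_model :
    ∃ (α : Type u) (_ : Fintype α) (_ : DecidableEq α) (B : Set (Finset α)),
      Fintype.card α = 22 ∧ Cfsg.IsSteinerSystem 3 6 B ∧
        ∃ f : Cfsg.pointBlockGraph B ≃g G, f none = v := by
  let α := {p // p ∈ G.neighborFinset v}
  let M := {m // m ≠ v ∧ ¬ G.Adj v m}
  let bl : M → Finset α := fun m => Finset.univ.filter fun p => G.Adj m.1 p.1
  have hα : Fintype.card α = 22 := by rw [Fintype.card_coe]; exact card_points hG v
  have hM : Fintype.card M = 77 := by rw [Fintype.card_subtype]; exact card_far hG v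
  have hfilt : ∀ P : V → Prop, ∀ [DecidablePred P],
      (Finset.univ.filter fun p : α => P p.1).card = ((G.neighborFinset v).filter P).card := by
    intro P _
    rw [← Finset.card_map (Function.Embedding.subtype _)]
    congr 1
    ext p; simp [α]; tauto
  have hcard : ∀ m, (bl m).card = 6 := fun m =>
    (hfilt fun p => G.Adj m.1 p).trans (card_block hG v m.2.1 m.2.2)
  have hinter : ∀ m m' : M, m' ≠ m → (bl m ∩ bl m').card = if G.Adj m.1 m'.1 then 0 else 2 := by
    intro m m' h
    rw [← card_block_inter hG v m.2.1 m.2.2 m'.2.1 m'.2.2 fun e => h (Subtype.ext e),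
      ← hfilt fun p => G.Adj m.1 p ∧ G.Adj m'.1 p]
    congr 1
    ext p; simp [bl]
  have hinj : Function.Injective bl := by
    intro m m' h
    by_contra hne
    have := hinter m m' (Ne.symm hne)
    rw [← h, Finset.inter_self, hcard] at this
    split at this <;> omega
  let B : Set (Finset α) := Set.range bl
  have hS : Cfsg.IsSteinerSystem 3 6 B := by
    refine ⟨by rintro _ ⟨m, rfl⟩; exact hcard m, fun s hs => ?_⟩
    have huniq : ∀ m m', s ⊆ bl m → s ⊆ bl m' → m' = m := by
      intro m m' hm hm'
      by_contra hne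
      have := Finset.card_le_card (Finset.subset_inter hm hm')
      rw [hinter m m' hne] at this
      split at this <;> omega
    have hU : Finset.univ.biUnion (fun m => (bl m).powersetCard 3) =
        (Finset.univ : Finset α).powersetCard 3 := by
      refine Finset.eq_of_subset_of_card_le (fun t ht => ?_) ?_
      · obtain ⟨m, -, ht⟩ := Finset.mem_biUnion.mp ht
        exact Finset.mem_powersetCard.mpr ⟨Finset.subset_univ _, (Finset.mem_powersetCard.mp ht).2⟩
      · rw [Finset.card_powersetCard, Finset.card_univ, hα, Finset.card_biUnion]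
        · simp only [Finset.card_powersetCard, hcard, Finset.sum_const, Finset.card_univ, hM]
          decide
        · intro m _ m' _ hne
          simp only [Function.onFun, Finset.disjoint_left, Finset.mem_powersetCard]
          intro t ht ht'
          have := Finset.card_le_card (Finset.subset_inter ht.1 ht'.1)
          rw [hinter m m' (Ne.symm hne), ht.2] at this
          split at this <;> omega
    have hsU : s ∈ (Finset.univ : Finset α).powersetCard 3 :=
      Finset.mem_powersetCard.mpr ⟨Finset.subset_univ _, hs⟩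
    rw [← hU] at hsU
    obtain ⟨m, -, hm⟩ := Finset.mem_biUnion.mp hsU
    refine ⟨bl m, ⟨⟨m, rfl⟩, (Finset.mem_powersetCard.mp hm).1⟩, ?_⟩
    rintro _ ⟨⟨m', rfl⟩, hm'⟩
    rw [huniq m m' (Finset.mem_powersetCard.mp hm).1 hm']
  let eM : M ≃ B := Equiv.ofInjective bl hinj
  haveI : Fintype B := Fintype.ofEquiv M eM
  let f : Option (α ⊕ B) → V := fun
    | none => v
    | some (Sum.inl p) => p.1
    | some (Sum.inr c) => (eM.symm c).1
  have hp : ∀ p : α, G.Adj v p.1 := fun p => (SimpleGraph.mem_neighborFinset _ _ _).mp p.2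
  have hf : Function.Bijective f := by
    rw [Fintype.bijective_iff_injective_and_card]
    refine ⟨?_, by rw [Fintype.card_option, Fintype.card_sum, hα, ← Fintype.card_congr eM, hM, hG.card]⟩
    rintro (_ | (p | c)) (_ | (q | d)) h <;> simp only [f] at h
    · rfl
    · exact absurd h (hp q).ne
    · exact absurd h.symm (eM.symm d).2.1
    · exact absurd h.symm (hp p).ne
    · rw [Subtype.ext h]
    · exact absurd (h ▸ hp p) (eM.symm d).2.2
    · exact absurd h (eM.symm c).2.1
    · exact absurd (h ▸ hp q) (eM.symm c).2.2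
    · rw [eM.symm.injective (Subtype.ext h)]
  have hblock : ∀ c : B, (c : Finset α) = bl (eM.symm c) := fun c =>
    (congrArg Subtype.val (eM.apply_symm_apply c)).symm
  have hne : ∀ b ∈ B, b.card ≠ 0 := fun b hb => by rw [hS.1 b hb]; norm_num
  refine ⟨α, inferInstance, inferInstance, B, hα, hS, ⟨Equiv.ofBijective f hf, fun {x y} => ?_⟩, rfl⟩
  show G.Adj (f x) (f y) ↔ _
  rw [GraphTwentyTwo.pointBlock_adj hne]
  rcases x with _ | (p | c) <;> rcases y with _ | (q | d) <;> simp only [f]
  · simp
  · simp [hp q]
  · simp [(eM.symm d).2.2]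
  · simp [(hp p).symm]
  · simp only [iff_false]
    exact fun h => adj_no_common hG (hp p) q.1 (hp q) h
  · rw [hblock d]
    simp [bl, G.adj_comm]
  · simp only [iff_false]
    exact fun h => (eM.symm c).2.2 h.symm
  · rw [hblock c]
    simp [bl]
  · by_cases hcd : c = d
    · subst hcd
      simp only [SimpleGraph.irrefl, false_iff, disjoint_self]
      exact fun h => hne _ c.2 (by simp [h])
    · rw [hblock c, hblock d, Finset.disjoint_iff_inter_eq_empty, ← Finset.card_eq_zero,
        hinter (eM.symm c) (eM.symm d) fun e => hcd (eM.symm.injective e).symm]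
      split_ifs with h <;> simp [h]

omit hG in
/-- Any two vertices of any two such graphs correspond under some isomorphism. -/
theorem exists_iso_map {W : Type*} [Fintype W] [DecidableEq W] {H : SimpleGraph W} [DecidableRel H.Adj]
    (hG : G.IsSRGWith 100 22 0 6) (hH : H.IsSRGWith 100 22 0 6) (w : W) :
    ∃ f : G ≃g H, f v = w := by
  obtain ⟨α, _, _, B, hα, hB, f, hf⟩ := exists_model hG v
  obtain ⟨β, _, _, B', hβ, hB', f', hf'⟩ := exists_model hH w
  obtain ⟨e, he⟩ := setSystemIso_trans (Witt.iso_std22 hα hB)
    (setSystemIso_symm (Witt.iso_std22 hβ hB'))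
  obtain ⟨g, hg, -⟩ := exists_iso_of_setSystemIso e he
  refine ⟨(f.symm.trans g).trans f', ?_⟩
  have : f.symm v = none := by rw [← hf]; exact f.symm_apply_apply none
  simp [this, hg, hf']

end CfsgLib.Steiner.SRGHundred
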