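import Mathlib
import Cfsg.Prelude.Def_Sporadic
import Cfsg.Agent.Lib.Steiner.SRGHundred
import Cfsg.Agent.Lib.Steiner.WittAut
import Cfsg.Agent.Lib.Sporadic.SharpTrans
import Cfsg.Agent.S0428

/-!
The even automorphisms of the point-block graph of an S(3,6,22): a simple group of order 44352000.
-/

set_option autoImplicit false

namespace CfsgLib.Steiner.HigmanSims

open Cfsg
open CfsgLib.Combin.SteinerCount

universe u

variable {V : Type*}

/-- Automorphisms as permutations of the vertices. -/
def toPerm (G : SimpleGraph V) : (G ≃g G) →* Equiv.Perm V where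
  toFun f := f.toEquiv
  map_one' := rfl
  map_mul' _ _ := rfl

theorem toPerm_injective (G : SimpleGraph V) : Function.Injective (toPerm G) := fun _ _ h =>
  RelIso.toEquiv_injective h

/-- The sign of an automorphism on the vertices. -/
noncomputable def parity [Fintype V] [DecidableEq V] (G : SimpleGraph V) : (G ≃g G) →* ℤˣ :=
  Equiv.Perm.sign.comp (toPerm G)

theorem sign_of_involution [Fintype V] [DecidableEq V] (σ : Equiv.Perm V) (h2 : σ * σ = 1) :
    ∃ m, Fintype.card V = (Finset.univ.filter fun x => σ x = x).card + 2 * m ∧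
      Equiv.Perm.sign σ = (-1) ^ m := by
  have hall : ∀ c ∈ σ.cycleType, c = 2 := by
    intro c hc
    have h1 : c ∣ orderOf σ := Equiv.Perm.lcm_cycleType σ ▸ Multiset.dvd_lcm hc
    have h3 : orderOf σ ∣ 2 := orderOf_dvd_of_pow_eq_one (by rw [pow_two, h2])
    have := Nat.le_of_dvd two_pos (h1.trans h3)
    have := Equiv.Perm.two_le_of_mem_cycleType hc
    omega
  have hrep := Multiset.eq_replicate_card.mpr hall
  refine ⟨Multiset.card σ.cycleType, ?_, ?_⟩
  · have hs := Equiv.Perm.sum_cycleType σ
    rw [hrep, Multiset.sum_replicate, smul_eq_mul] at hs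
    have h3 := Finset.card_filter_add_card_filter_not (s := (Finset.univ : Finset V)) fun x => σ x = x
    have hsupp : σ.support = Finset.univ.filter fun x => ¬ σ x = x := by ext x; simp
    rw [← hsupp, Finset.card_univ] at h3
    omega
  · rw [Equiv.Perm.sign_of_cycleType]
    conv_lhs => rw [hrep]
    rw [Multiset.sum_replicate, Multiset.card_replicate, smul_eq_mul, pow_add, pow_mul']
    simp

section General

variable {α : Type u} [Fintype α] [DecidableEq α] {B : Set (Finset α)}

theorem image_mem {g : Equiv.Perm α} (hg : g ∈ setSystemAut B) {b : Finset α} (hb : b ∈ B) :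
    b.image g ∈ B :=
  (Set.ext_iff.mp (mem_setSystemAut_iff.mp hg) _).mp ⟨b, hb, rfl⟩

variable (hα : Fintype.card α = 22) (hB : IsSteinerSystem 3 6 B)

include hα hB

theorem none_adj (x : Option (α ⊕ B)) :
    (pointBlockGraph B).Adj none x ↔ ∃ a, x = some (Sum.inl a) := by
  rw [GraphTwentyTwo.pointBlock_adj (fun b hb => by rw [hB.1 b hb]; norm_num)]
  rcases x with _ | (a | b) <;> simp

/-- An automorphism fixing the extra vertex permutes the points and carries blocks to blocks. -/
theorem fix_none (f : pointBlockGraph B ≃g pointBlockGraph B) (hf : f none = none) :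
    ∃ σ : Equiv.Perm α, σ ∈ setSystemAut B ∧ (∀ a, f (some (Sum.inl a)) = some (Sum.inl (σ a))) ∧
      ∀ b : B, ∃ c : B, f (some (Sum.inr b)) = some (Sum.inr c) ∧
        (c : Finset α) = (b : Finset α).image σ := by
  have hne : ∀ b ∈ B, b.card ≠ 0 := fun b hb => by rw [hB.1 b hb]; norm_num
  have hpt : ∀ a, ∃ a', f (some (Sum.inl a)) = some (Sum.inl a') := fun a => by
    rw [← none_adj hα hB, ← hf, f.map_adj_iff, none_adj hα hB]
    exact ⟨a, rfl⟩
  choose s hs using hpt
  have hinj : Function.Injective s := fun a a' h => by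
    have := f.injective ((hs a).trans ((congrArg (fun t => some (Sum.inl t)) h).trans (hs a').symm))
    simpa using this
  let σ : Equiv.Perm α := Equiv.ofBijective s (Finite.injective_iff_bijective.mp hinj)
  have hblk : ∀ b : B, ∃ c : B, f (some (Sum.inr b)) = some (Sum.inr c) ∧
      (c : Finset α) = (b : Finset α).image σ := by
    intro b
    rcases hfb : f (some (Sum.inr b)) with _ | (a | c)
    · exact absurd (f.injective (hfb.trans hf.symm)) (by simp)
    · exfalso
      obtain ⟨a', ha'⟩ := σ.surjective a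
      have : f (some (Sum.inl a')) = some (Sum.inl a) := by rw [hs]; exact congrArg (fun t => some (Sum.inl t)) ha'
      exact absurd (f.injective (hfb.trans this.symm)) (by simp)
    · refine ⟨c, rfl, ?_⟩
      ext a
      obtain ⟨a', rfl⟩ := σ.surjective a
      rw [σ.injective.mem_finset_image]
      have h1 := f.map_adj_iff (v := some (Sum.inl a')) (w := some (Sum.inr b))
      rw [hs, hfb, GraphTwentyTwo.pointBlock_adj hne, GraphTwentyTwo.pointBlock_adj hne] at h1
      exact h1
  refine ⟨σ, ?_, hs, hblk⟩
  rw [mem_setSystemAut_iff]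
  refine Set.eq_of_subset_of_ncard_le ?_ ?_ (Set.toFinite _)
  · rintro _ ⟨b, hb, rfl⟩
    obtain ⟨c, -, hc⟩ := hblk ⟨b, hb⟩
    show b.image σ ∈ B
    exact hc ▸ c.2
  · rw [Set.ncard_image_of_injective _ (Finset.image_injective σ.injective)]

theorem eq_one_of_fix (f : pointBlockGraph B ≃g pointBlockGraph B) (hf : f none = none)
    (hp : ∀ a, f (some (Sum.inl a)) = some (Sum.inl a)) : f = 1 := by
  obtain ⟨σ, -, hσ, hblk⟩ := fix_none hα hB f hf
  have h1 : ∀ a, σ a = a := fun a => by simpa using (hσ a).symm.trans (hp a)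
  apply RelIso.ext
  rintro (_ | (a | b))
  · exact hf
  · exact hp a
  · obtain ⟨c, hc, hcb⟩ := hblk b
    rw [hc, show c = b from Subtype.ext (by rw [hcb, show ⇑σ = id from funext h1, Finset.image_id])]
    rfl

/-- The stabiliser of the extra vertex is the automorphism group of the design. -/
theorem exists_stabEquiv :
    ∃ φ : MulAction.stabilizer (pointBlockGraph B ≃g pointBlockGraph B) (none : Option (α ⊕ B)) ≃*
        setSystemAut B,
      ∀ (f : MulAction.stabilizer (pointBlockGraph B ≃g pointBlockGraph B) (none : Option (α ⊕ B)))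
        (a : α), f.1 (some (Sum.inl a)) = some (Sum.inl ((φ f : Equiv.Perm α) a)) := by
  choose σ hσ hσa hσb using fun f : MulAction.stabilizer (pointBlockGraph B ≃g pointBlockGraph B)
    (none : Option (α ⊕ B)) => fix_none hα hB f.1 f.2
  let ψ : MulAction.stabilizer (pointBlockGraph B ≃g pointBlockGraph B) (none : Option (α ⊕ B)) →*
      setSystemAut B :=
    { toFun := fun f => ⟨σ f, hσ f⟩
      map_one' := by
        apply Subtype.ext; refine Equiv.ext fun a => ?_
        simpa using (hσa 1 a).symm
      map_mul' := fun f g => by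
        apply Subtype.ext; refine Equiv.ext fun a => ?_
        have h := (hσa (f * g) a).symm
        simp only [Subgroup.coe_mul, RelIso.mul_apply, hσa] at h
        simpa using h }
  refine ⟨MulEquiv.ofBijective ψ ⟨?_, ?_⟩, fun f a => hσa f a⟩
  · rw [injective_iff_map_eq_one]
    intro f hf
    have h1 : σ f = 1 := congrArg Subtype.val hf
    exact Subtype.ext (eq_one_of_fix hα hB f.1 f.2 fun a => by rw [hσa, h1]; rfl)
  · intro g
    obtain ⟨f, hf, hfa⟩ := SRGHundred.exists_iso_of_setSystemIso (g : Equiv.Perm α)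
      (mem_setSystemAut_iff.mp g.2)
    refine ⟨⟨f, hf⟩, Subtype.ext (Equiv.ext fun a => ?_)⟩
    have := (hσa ⟨f, hf⟩ a).symm.trans (hfa a)
    show (σ ⟨f, hf⟩) a = _
    simpa using this

theorem isSRG [Fintype B] [DecidableRel (pointBlockGraph B).Adj] :
    (pointBlockGraph B).IsSRGWith 100 22 0 6 := Cfsg.Agent.S0428.result hα hB

theorem card_vertex [Fintype B] : Fintype.card (Option (α ⊕ B)) = 100 := by
  classical
  exact (isSRG hα hB).card

theorem exists_map (v : Option (α ⊕ B)) : ∃ f : pointBlockGraph B ≃g pointBlockGraph B, f none = v := by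
  classical
  haveI := Fintype.ofFinite B
  exact SRGHundred.exists_iso_map none (isSRG hα hB) (isSRG hα hB) v

end General

section Model

/-- The two points removed from the 24. -/
abbrev W0 : Finset GolayPt := {none, some 0}

theorem projInv_mem_setStab : projInv ∈ Witt.setStab W0 := by
  rw [Witt.mem_setStab]
  exact ⟨Golay.projInv_mem_M24, by decide⟩

/-- Five members of the model design are fixed by the inversion. -/
theorem ncard_fixed :
    {c | (c ∈ octads ∧ W0 ⊆ c) ∧ c.map projInv.toEmbedding = c}.ncard = 5 := by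
  have heq : {c | (c ∈ octads ∧ W0 ⊆ c) ∧ c.map projInv.toEmbedding = c} =
      (fun k => Golay.decS (Golay.codeWord k)) '' ↑((Finset.range 4096).filter fun k =>
        Golay.popc (Golay.codeWord k) = 8 ∧
          (Golay.codeWord k).testBit (Golay.idx none).val = true ∧
          (Golay.codeWord k).testBit (Golay.idx (some 0)).val = true ∧
          Golay.pmap (Golay.toList projInv) (Golay.codeWord k) = Golay.codeWord k) := by
    ext c
    rw [Set.mem_ofPred_eq, octads, Golay.wordsOfWeight_eq]
    simp only [Set.mem_image, Finset.coe_filter, Finset.mem_range, Set.mem_ofPred_eq]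
    constructor
    · rintro ⟨⟨⟨k, ⟨hk, h8⟩, rfl⟩, hW⟩, hfix⟩
      refine ⟨k, ⟨hk, h8, Golay.mem_decS.mp (hW (by simp)), Golay.mem_decS.mp (hW (by simp)), ?_⟩, rfl⟩
      rw [← Witt.smul_eq_map, Golay.smul_decS _ (Golay.codeWord_lt k)] at hfix
      have := congrArg Golay.encS hfix
      rwa [Golay.encS_decS, Golay.encS_decS (Golay.codeWord_lt k)] at this
      rw [← Golay.encS_decS (Golay.codeWord_lt k), ← Golay.encS_smul]
      exact Golay.encS_lt _
    · rintro ⟨k, ⟨hk, h8, h1, h2, h3⟩, rfl⟩
      refine ⟨⟨⟨k, ⟨hk, h8⟩, rfl⟩, ?_⟩, ?_⟩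
      · simp only [Finset.insert_subset_iff, Finset.singleton_subset_iff, Golay.mem_decS]
        exact ⟨h1, h2⟩
      · rw [← Witt.smul_eq_map, Golay.smul_decS _ (Golay.codeWord_lt k), h3]
  rw [heq, Set.InjOn.ncard_image, Set.ncard_coe_finset, Golay.toList_projInv]
  · decide +kernel
  · intro a ha b hb h
    simp only [Finset.coe_filter, Finset.mem_range, Set.mem_ofPred_eq] at ha hb
    refine Golay.codeWord_injOn ha.1 hb.1 ?_
    have := congrArg Golay.encS h
    rwa [Golay.encS_decS (Golay.codeWord_lt a), Golay.encS_decS (Golay.codeWord_lt b)] at this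

end Model

section HS

variable {α : Type u} [Fintype α] [DecidableEq α] {B : Set (Finset α)}
  (hα : Fintype.card α = 22) (hB : IsSteinerSystem 3 6 B)

include hα hB

/-- An odd automorphism fixing the extra vertex. -/
theorem exists_odd [Fintype B] : ∃ f : pointBlockGraph B ≃g pointBlockGraph B,
    f none = none ∧ parity (pointBlockGraph B) f = -1 := by
  classical
  obtain ⟨e, he⟩ := Witt.iso_std22 hα hB
  obtain ⟨t, ht, -⟩ := SRGHundred.exists_iso_of_setSystemIso e he
  let τ : Equiv.Perm {x // x ∉ W0} := Witt.restrict W0 ⟨projInv, projInv_mem_setStab⟩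
  have hτmem : τ ∈ setSystemAut (Witt.std W0) := Witt.restrict_mem _
  obtain ⟨g, hg, hga⟩ := SRGHundred.exists_iso_of_setSystemIso τ (mem_setSystemAut_iff.mp hτmem)
  -- transported Steiner system
  have hB0 : IsSteinerSystem 3 6 (Witt.std W0) := by
    refine ⟨fun b hb => ?_, fun s hs => ?_⟩
    · rw [← he] at hb
      obtain ⟨b', hb', rfl⟩ := hb
      rw [Finset.card_image_of_injective _ e.injective, hB.1 b' hb']
    · obtain ⟨b, ⟨hb, hsb⟩, huniq⟩ := hB.2 (s.image e.symm)
        (by rw [Finset.card_image_of_injective _ e.symm.injective, hs])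
      refine ⟨b.image e, ⟨he ▸ ⟨b, hb, rfl⟩, fun x hx => ?_⟩, ?_⟩
      · exact Finset.mem_image.mpr ⟨e.symm x, hsb (Finset.mem_image_of_mem _ hx), by simp⟩
      · rintro c ⟨hc, hsc⟩
        rw [← he] at hc
        obtain ⟨c', hc', rfl⟩ := hc
        rw [huniq c' ⟨hc', fun x hx => ?_⟩]
        obtain ⟨y, hy, rfl⟩ := Finset.mem_image.mp hx
        obtain ⟨z, hz, hzy⟩ := Finset.mem_image.mp (hsc hy)
        rwa [← hzy, Equiv.symm_apply_apply]
  have hW : Fintype.card {x // x ∉ W0} = 22 := by rw [← Fintype.card_congr e, hα]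
  haveI : Fintype (Witt.std W0) := Fintype.ofFinite _
  have h100 : Fintype.card (Option ({x // x ∉ W0} ⊕ Witt.std W0)) = 100 := card_vertex hW hB0
  have hττ : ∀ x, τ (τ x) = x := fun x => Subtype.ext (projInv.symm_apply_apply x.1)
  have hgg : g * g = 1 := eq_one_of_fix hW hB0 _ (by simp [hg]) fun a => by
    rw [RelIso.mul_apply, hga, hga, hττ]
  have hfix : (Finset.univ.filter fun x => toPerm _ g x = x).card = 6 := by
    rw [GraphTwentyTwo.card_filter_option_sum, if_pos (show toPerm _ g none = none from hg)]
    have hpts : (Finset.univ.filter fun a => toPerm _ g (some (Sum.inl a)) = some (Sum.inl a)) =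
        (∅ : Finset {x // x ∉ W0}) := by
      rw [Finset.filter_eq_empty_iff]
      intro a _ h
      have h' : τ a = a := by
        have := (hga a).symm.trans h
        simpa using this
      have h'' := congrArg Subtype.val h'
      have : ∀ x : GolayPt, projInv x ≠ x := by decide
      exact this _ h''
    have hblk : ∀ b : Witt.std W0, toPerm _ g (some (Sum.inr b)) = some (Sum.inr b) ↔
        (b : Finset _).image τ = b := by
      intro b
      obtain ⟨σ, -, hσ, hb⟩ := fix_none hW hB0 g hg
      have hστ : ⇑σ = ⇑τ := funext fun a => by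
        have := (hσ a).symm.trans (hga a)
        simpa using this
      obtain ⟨c, hc, hcb⟩ := hb b
      show g _ = _ ↔ _
      rw [hc, ← hστ, ← hcb]
      simp [Subtype.ext_iff]
    rw [hpts, Finset.filter_congr fun b _ => hblk b, Finset.card_empty, zero_add,
      GraphTwentyTwo.card_filter_subtype (B := Witt.std W0) fun b => b.image τ = b]
    have h5 := ncard_fixed
    rw [← Set.InjOn.ncard_image (f := fun c : Finset GolayPt => c.subtype fun x => x ∉ W0)
      fun a ha b hb h => Witt.subtype_injOn ha.1.2 hb.1.2 h] at h5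
    rw [← Set.ncard_coe_finset]
    refine congrArg (1 + ·) (Eq.trans ?_ h5)
    congr 1
    ext b
    simp only [Finset.coe_filter, mem_blocksThrough, Finset.empty_subset, and_true, Set.mem_ofPred_eq,
      Set.mem_image]
    constructor
    · rintro ⟨⟨c, hc, rfl⟩, hfix⟩
      refine ⟨c, ⟨hc, Witt.subtype_injOn ?_ hc.2 ((Witt.subtype_map projInv τ fun x => rfl).trans hfix)⟩, rfl⟩
      intro x hx
      refine Finset.mem_map.mpr ⟨projInv x, hc.2 ?_, projInv.symm_apply_apply x⟩
      revert x; decide
    · rintro ⟨c, ⟨hc, hfix⟩, rfl⟩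
      refine ⟨⟨c, hc, rfl⟩, ?_⟩
      have h := (Witt.subtype_map (b := c) projInv τ fun x => rfl)
      rw [hfix] at h
      exact h.symm
  obtain ⟨m, hm, hsign⟩ := sign_of_involution (toPerm _ g) (by rw [← map_mul, hgg, map_one])
  rw [hfix, h100] at hm
  refine ⟨(t.trans g).trans t.symm, by simp [ht, hg, RelIso.symm_apply_eq], ?_⟩
  show Equiv.Perm.sign ((t.toEquiv.trans g.toEquiv).trans t.toEquiv.symm) = -1
  have : Equiv.Perm.sign (t.toEquiv.symm.permCongr g.toEquiv) = -1 := by
    rw [Equiv.Perm.sign_permCongr, show g.toEquiv = toPerm _ g from rfl, hsign,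
      show m = 47 by omega]
    decide
  convert this using 2
  exact Equiv.ext fun x => rfl

theorem exists_HS :
    ∃ H : Subgroup (pointBlockGraph B ≃g pointBlockGraph B), IsHS H := by
  classical
  haveI := Fintype.ofFinite B
  let Γ := pointBlockGraph B
  haveI : Finite (Γ ≃g Γ) := Finite.of_injective _ (toPerm_injective Γ)
  haveI hpre : MulAction.IsPretransitive (Γ ≃g Γ) (Option (α ⊕ B)) :=
    MulAction.IsPretransitive.mk fun x y => by
      obtain ⟨f, hf⟩ := exists_map hα hB x
      obtain ⟨f', hf'⟩ := exists_map hα hB y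
      exact ⟨f' * f⁻¹, by rw [RelIso.smul_def, RelIso.mul_apply, ← hf, RelIso.inv_apply_self, hf']⟩
  obtain ⟨φ, hφ⟩ := exists_stabEquiv hα hB
  obtain ⟨hS, h3, K, hK2, hKsimple, hK⟩ := Witt.aut_three_six hα hB
  obtain ⟨o, ho, hodd⟩ := exists_odd hα hB
  have hAut : Nat.card (Γ ≃g Γ) = 88704000 := by
    rw [← Subgroup.card_mul_index (MulAction.stabilizer (Γ ≃g Γ) (none : Option (α ⊕ B))),
      MulAction.index_stabilizer_of_transitive, Nat.card_congr φ.toEquiv, hS,
      Nat.card_eq_fintype_card, card_vertex hα hB]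
  let H := (parity Γ).ker
  have hH2 : H.index = 2 := by
    rw [Subgroup.index_eq_two_iff]
    refine ⟨o, fun f => ?_⟩
    simp only [H, MonoidHom.mem_ker, map_mul, show parity Γ o = -1 from hodd]
    rcases Int.units_eq_one_or (parity Γ f) with h | h <;> rw [h] <;> decide
  have hH : Nat.card H = 44352000 := by
    have := Subgroup.card_mul_index H
    rw [hH2, hAut] at this; omega
  refine ⟨H, ?_, hH⟩
  have hHtrans : ∀ v, ∃ h ∈ H, (h : Γ ≃g Γ) none = v := by
    intro v
    obtain ⟨f, hf⟩ := exists_map hα hB v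
    rcases Int.units_eq_one_or (parity Γ f) with h | h
    · exact ⟨f, h, hf⟩
    · refine ⟨f * o, ?_, by rw [RelIso.mul_apply, ho, hf]⟩
      simp [H, MonoidHom.mem_ker, h, show parity Γ o = -1 from hodd]
  -- the stabiliser of the extra vertex
  let R : Subgroup (setSystemAut B) :=
    (H.subgroupOf (MulAction.stabilizer (Γ ≃g Γ) (none : Option (α ⊕ B)))).map φ.toMonoidHom
  haveI hKn : K.Normal := Subgroup.normal_of_index_eq_two hK2
  haveI := hKsimple
  have hR2 : R.index = 2 := by
    have hidx : R.index =
        (H.subgroupOf (MulAction.stabilizer (Γ ≃g Γ) (none : Option (α ⊕ B)))).index :=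
      Subgroup.index_map_equiv _ φ
    rw [hidx]
    rw [Subgroup.index_eq_two_iff]
    refine ⟨⟨o, ho⟩, fun f => ?_⟩
    simp only [H, Subgroup.mem_subgroupOf, MonoidHom.mem_ker, Subgroup.coe_mul, map_mul,
      show parity Γ o = -1 from hodd]
    rcases Int.units_eq_one_or (parity Γ f.1) with h | h <;> rw [h] <;> decide
  have hRK : R = K := by
    haveI : R.Normal := Subgroup.normal_of_index_eq_two hR2
    rcases IsSimpleGroup.eq_bot_or_eq_top_of_normal (R.subgroupOf K) inferInstance with h | h
    · exfalso
      have h1 : R.relIndex K ≤ 2 := by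
        have := Subgroup.relIndex_dvd_index_of_normal R K
        rw [hR2] at this
        exact Nat.le_of_dvd two_pos this
      rw [Subgroup.relIndex, h, Subgroup.index_bot, hK] at h1
      omega
    · have hle : K ≤ R := Subgroup.subgroupOf_eq_top.mp h
      refine (Subgroup.eq_of_le_of_card_ge hle ?_).symm
      have e1 := Subgroup.card_mul_index R
      have e2 := Subgroup.card_mul_index K
      rw [hR2, hS] at e1; rw [hK2, hS] at e2; omega
  let e : MulAction.stabilizer H (none : Option (α ⊕ B)) ≃* K :=
    (MulEquiv.mk'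
      { toFun := fun h : MulAction.stabilizer H (none : Option (α ⊕ B)) =>
          (⟨⟨(h.1 : Γ ≃g Γ), h.2⟩, h.1.2⟩ :
            H.subgroupOf (MulAction.stabilizer (Γ ≃g Γ) (none : Option (α ⊕ B))))
        invFun := fun h => ⟨⟨(h.1 : Γ ≃g Γ), h.2⟩, h.1.2⟩
        left_inv := fun _ => rfl
        right_inv := fun _ => rfl } fun _ _ => rfl).trans
      ((MulEquiv.subgroupMap φ _).trans (MulEquiv.subgroupCongr hRK))
  haveI : IsSimpleGroup (MulAction.stabilizer H (none : Option (α ⊕ B))) :=
    isSimpleGroup_of_mulEquiv e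
  have hpull : ∀ g ∈ K, ∃ h : H, (h : Γ ≃g Γ) none = none ∧
      ∀ a, (h : Γ ≃g Γ) (some (Sum.inl a)) = some (Sum.inl ((g : Equiv.Perm α) a)) := by
    intro g hg
    rw [← hRK] at hg
    obtain ⟨f, hf, rfl⟩ := hg
    exact ⟨⟨f.1, hf⟩, f.2, fun a => hφ f a⟩
  haveI : MulAction.IsMultiplyPretransitive (setSystemAut B) α 2 := by
    haveI := h3
    exact MulAction.isMultiplyPretransitive_of_le' (n := 3) (by norm_num) (by simp [hα]; norm_num)
  have hKne : K ≠ ⊥ := fun h => by rw [h] at hK; simp at hK
  haveI := CfsgLib.Sporadic.SharpTrans.normal_transitive K hKne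
  have hptrans : ∀ a a', ∃ h : H, (h : Γ ≃g Γ) none = none ∧
      (h : Γ ≃g Γ) (some (Sum.inl a)) = some (Sum.inl a') := by
    intro a a'
    obtain ⟨k, hk⟩ := MulAction.exists_smul_eq K a a'
    obtain ⟨h, h1, h2⟩ := hpull k k.2
    exact ⟨h, h1, by rw [h2]; exact congrArg (fun t => some (Sum.inl t)) hk⟩
  have hbtrans : ∀ b b' : B, ∃ h : H, (h : Γ ≃g Γ) none = none ∧
      (h : Γ ≃g Γ) (some (Sum.inr b)) = some (Sum.inr b') := by
    intro b b'
    -- some element of the design group maps `b` to `b'`
    have hSb : ∀ c c' : B, ∃ g : setSystemAut B, (c : Finset α).image (g : Equiv.Perm α) = c' := by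
      intro c c'
      obtain ⟨x⟩ : Nonempty (Fin 3 ↪ (c : Finset α)) :=
        Function.Embedding.nonempty_of_card_le (by rw [Fintype.card_coe, hB.1 _ c.2]; simp)
      obtain ⟨x'⟩ : Nonempty (Fin 3 ↪ (c' : Finset α)) :=
        Function.Embedding.nonempty_of_card_le (by rw [Fintype.card_coe, hB.1 _ c'.2]; simp)
      haveI := h3
      obtain ⟨g, hg⟩ := MulAction.exists_smul_eq (setSystemAut B)
        (x.trans (Function.Embedding.subtype _)) (x'.trans (Function.Embedding.subtype _))
      refine ⟨g, (hB.2 ((Finset.univ : Finset (Fin 3)).map (x'.trans (Function.Embedding.subtype _)))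
        (by simp)).unique ⟨image_mem g.2 c.2, ?_⟩ ⟨c'.2, ?_⟩⟩
      · intro y hy
        obtain ⟨i, -, rfl⟩ := Finset.mem_map.mp hy
        rw [← hg]
        exact Finset.mem_image.mpr ⟨_, (x i).2, rfl⟩
      · intro y hy
        obtain ⟨i, -, rfl⟩ := Finset.mem_map.mp hy
        exact (x' i).2
    -- the stabiliser of `b` is not inside `K`
    obtain ⟨s, hsb, hsK⟩ : ∃ s : setSystemAut B, (b : Finset α).image (s : Equiv.Perm α) = b ∧ s ∉ K := by
      by_contra hne
      push Not at hne
      let act : setSystemAut B → B := fun g => ⟨(b : Finset α).image (g : Equiv.Perm α), image_mem g.2 b.2⟩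
      letI : MulAction (setSystemAut B) B :=
        { smul := fun g c => ⟨(c : Finset α).image (g : Equiv.Perm α), image_mem g.2 c.2⟩
          one_smul := fun (c : B) => Subtype.ext (by
            show (c : Finset α).image ⇑((1 : setSystemAut B) : Equiv.Perm α) = (c : Finset α); simp)
          mul_smul := fun g g' (c : B) => Subtype.ext (by
            show (c : Finset α).image _ = ((c : Finset α).image _).image _
            rw [Finset.image_image]; rfl) }
      haveI : MulAction.IsPretransitive (setSystemAut B) B :=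
        MulAction.IsPretransitive.mk fun c c' => by
          obtain ⟨g, hg⟩ := hSb c c'
          exact ⟨g, Subtype.ext hg⟩
      have hle : MulAction.stabilizer (setSystemAut B) b ≤ K := fun g hg => hne g (congrArg Subtype.val hg)
      have hdvd := Subgroup.index_dvd_of_le hle
      rw [hK2, MulAction.index_stabilizer_of_transitive] at hdvd
      have h77 : Nat.card B = 77 := by
        have := card_vertex hα hB
        rw [Fintype.card_option, Fintype.card_sum, hα] at this
        rw [Nat.card_eq_fintype_card]; omega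
      rw [h77] at hdvd
      omega
    obtain ⟨g, hg⟩ := hSb b b'
    obtain ⟨k, hkK, hk⟩ : ∃ k ∈ K, (b : Finset α).image (k : Equiv.Perm α) = b' := by
      by_cases hgK : g ∈ K
      · exact ⟨g, hgK, hg⟩
      · refine ⟨g * s, ?_, ?_⟩
        · rw [Subgroup.mul_mem_iff_of_index_two hK2]
          simp [hgK, hsK]
        · conv_rhs => rw [← hg, ← hsb, Finset.image_image]
          rfl
    obtain ⟨h, h1, h2⟩ := hpull k hkK
    obtain ⟨σ, -, hσ, hblk⟩ := fix_none hα hB h.1 h1
    have hσk : ⇑σ = ⇑(k : Equiv.Perm α) := funext fun a => by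
      have := (hσ a).symm.trans (h2 a)
      simpa using this
    obtain ⟨c, hc, hcb⟩ := hblk b
    exact ⟨h, h1, by rw [hc, show c = b' from Subtype.ext (by rw [hcb, hσk, hk])]⟩
  -- simplicity
  haveI : MulAction.IsPretransitive H (Option (α ⊕ B)) := MulAction.IsPretransitive.mk fun x y => by
    obtain ⟨f, hf, hfx⟩ := hHtrans x
    obtain ⟨f', hf', hfy⟩ := hHtrans y
    refine ⟨⟨f', hf'⟩ * ⟨f, hf⟩⁻¹, ?_⟩
    show (f' * f⁻¹ : Γ ≃g Γ) x = y
    rw [RelIso.mul_apply, ← hfx, RelIso.inv_apply_self, hfy]
  haveI : Nontrivial H := Finite.one_lt_card_iff_nontrivial.mp (by omega)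
  refine ⟨fun N hN => or_iff_not_imp_left.mpr fun hNne => ?_⟩
  haveI := hN
  have horb : Nat.card (MulAction.orbit N (none : Option (α ⊕ B))) *
      Nat.card (MulAction.stabilizer N (none : Option (α ⊕ B))) = Nat.card N := by
    rw [← Nat.card_prod]
    exact Nat.card_congr (MulAction.orbitProdStabilizerEquivGroup N none)
  set O := MulAction.orbit N (none : Option (α ⊕ B)) with hO
  have hinv : ∀ h : H, (h : Γ ≃g Γ) none = none → ∀ x ∈ O, (h : Γ ≃g Γ) x ∈ O := by
    rintro h hh _ ⟨n, rfl⟩
    refine ⟨⟨h * n * h⁻¹, hN.conj_mem _ n.2 h⟩, ?_⟩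
    show (h : Γ ≃g Γ) (((n : H) : Γ ≃g Γ) (((h⁻¹ : H) : Γ ≃g Γ) none)) = _
    have : ((h⁻¹ : H) : Γ ≃g Γ) none = none := by
      conv_lhs => rw [← hh]
      simp
    rw [this]; rfl
  have hblock : MulAction.IsBlock H O := MulAction.IsBlock.orbit_of_normal none
  have hdiv : Nat.card O ∣ 100 := by
    have := hblock.ncard_dvd_card ⟨none, MulAction.mem_orbit_self _⟩
    rw [Nat.card_eq_fintype_card (α := Option (α ⊕ B)), card_vertex hα hB] at this
    exact this
  have hnone : (none : Option (α ⊕ B)) ∈ O := MulAction.mem_orbit_self _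
  by_cases hall : O = Set.univ
  swap
  · exfalso
    have hcl : ∀ x, x ∈ O → (∃ a, x = some (Sum.inl a)) → ∀ a', some (Sum.inl a') ∈ O := by
      rintro x hx ⟨a, rfl⟩ a'
      obtain ⟨h, h1, h2⟩ := hptrans a a'
      exact h2 ▸ hinv h h1 _ hx
    have hclb : ∀ x, x ∈ O → (∃ b, x = some (Sum.inr b)) → ∀ b', some (Sum.inr b') ∈ O := by
      rintro x hx ⟨b, rfl⟩ b'
      obtain ⟨h, h1, h2⟩ := hbtrans b b'
      exact h2 ▸ hinv h h1 _ hx
    have h77 : Fintype.card B = 77 := by
      have := card_vertex hα hB
      rw [Fintype.card_option, Fintype.card_sum, hα] at this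
      omega
    rw [Nat.card_eq_fintype_card, ← Set.toFinset_card, ← Finset.filter_univ_mem O.toFinset,
      GraphTwentyTwo.card_filter_option_sum] at hdiv
    simp only [Set.mem_toFinset, hnone, if_true] at hdiv
    by_cases hp : ∃ a, some (Sum.inl a) ∈ O <;> by_cases hb : ∃ b, some (Sum.inr b) ∈ O
    · obtain ⟨a, ha⟩ := hp; obtain ⟨b, hb⟩ := hb
      apply hall
      refine Set.eq_univ_of_forall ?_
      rintro (_ | (a' | b'))
      · exact hnone
      · exact hcl _ ha ⟨a, rfl⟩ a'
      · exact hclb _ hb ⟨b, rfl⟩ b'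
    · obtain ⟨a, ha⟩ := hp
      rw [Finset.filter_true_of_mem fun a' _ => hcl _ ha ⟨a, rfl⟩ a',
        Finset.filter_false_of_mem fun b' _ h => hb ⟨b', h⟩, Finset.card_univ, hα,
        Finset.card_empty] at hdiv
      norm_num at hdiv
    · obtain ⟨b, hb⟩ := hb
      rw [Finset.filter_false_of_mem fun a' _ h => hp ⟨a', h⟩,
        Finset.filter_true_of_mem fun b' _ => hclb _ hb ⟨b, rfl⟩ b', Finset.card_univ, h77,
        Finset.card_empty] at hdiv
      norm_num at hdiv
    · refine hNne ((eq_bot_iff).mpr fun n hn => ?_)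
      rw [Subgroup.mem_bot]
      apply Subtype.ext
      apply RelIso.ext
      intro v
      obtain ⟨h, hh, rfl⟩ := hHtrans v
      have hm : (⟨(⟨h, hh⟩ : H)⁻¹ * n * ⟨h, hh⟩, by
          simpa using hN.conj_mem n hn (⟨h, hh⟩ : H)⁻¹⟩ : N) • (none : Option (α ⊕ B)) ∈ O :=
        MulAction.mem_orbit _ _
      have hsingle : ∀ x ∈ O, x = none := by
        rintro (_ | (a | b)) hx
        · rfl
        · exact absurd ⟨a, hx⟩ hp
        · exact absurd ⟨b, hx⟩ hb
      have he : (h⁻¹ * (n : Γ ≃g Γ) * h : Γ ≃g Γ) none = none := hsingle _ hm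
      rw [RelIso.mul_apply, RelIso.mul_apply] at he
      have := congrArg (fun x => h x) he
      simpa using this
  · have hcard : Nat.card O = 100 := by
      rw [hall, Nat.card_univ, Nat.card_eq_fintype_card, card_vertex hα hB]
    rw [hcard] at horb
    have hstab : Nat.card (MulAction.stabilizer N (none : Option (α ⊕ B))) =
        Nat.card (N.subgroupOf (MulAction.stabilizer H (none : Option (α ⊕ B)))) :=
      Nat.card_congr
        { toFun := fun x => ⟨⟨(x : N), x.2⟩, (x : N).2⟩
          invFun := fun x => ⟨⟨((x : MulAction.stabilizer H (none : Option (α ⊕ B))) : H), x.2⟩, x.1.2⟩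
          left_inv := fun _ => rfl
          right_inv := fun _ => rfl }
    rw [hstab] at horb
    rcases IsSimpleGroup.eq_bot_or_eq_top_of_normal
        (N.subgroupOf (MulAction.stabilizer H (none : Option (α ⊕ B)))) inferInstance with hb | hb
    · exfalso
      rw [hb, Subgroup.card_bot, mul_one] at horb
      haveI : Fintype N := Fintype.ofFinite _
      -- the regular case: count the elements of order five
      let ev : N → Option (α ⊕ B) := fun n => ((n : H) : Γ ≃g Γ) none
      have hsurj : Function.Surjective ev := fun v => by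
        have hv : v ∈ O := hall ▸ Set.mem_univ v
        exact hv
      have hev : Function.Bijective ev :=
        (Fintype.bijective_iff_surjective_and_card (f := ev)).mpr ⟨hsurj, by
          rw [card_vertex hα hB, ← Nat.card_eq_fintype_card, horb]⟩
      -- conjugate elements have the same order
      have hord : ∀ (n n' : N) (h : H), (h : Γ ≃g Γ) none = none →
          (h : Γ ≃g Γ) (ev n) = ev n' → orderOf n = orderOf n' := by
        intro n n' h hh hnn
        have heq : (⟨h * (n : H) * h⁻¹, hN.conj_mem _ n.2 h⟩ : N) = n' := by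
          apply hev.1
          have hi : ((h⁻¹ : H) : Γ ≃g Γ) none = none := by
            conv_lhs => rw [← hh]
            simp
          show ((h : Γ ≃g Γ) (((n : H) : Γ ≃g Γ) (((h⁻¹ : H) : Γ ≃g Γ) none))) = _
          rw [hi, hnn]
        rw [← heq]
        exact (Subgroup.orderOf_coe n).symm.trans (((SemiconjBy.conj_mk h (n : H)).orderOf_eq h).trans
          (Subgroup.orderOf_coe (⟨h * (n : H) * h⁻¹, hN.conj_mem _ n.2 h⟩ : N)))
      haveI : Fact (Nat.Prime 5) := ⟨by norm_num⟩
      obtain ⟨P⟩ : Nonempty (Sylow 5 N) := inferInstance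
      have hP : Nat.card (P : Subgroup N) = 25 := by
        rw [P.card_eq_multiplicity, ← horb]
        have : (100 : ℕ).factorization 5 = 2 := by
          rw [show (100 : ℕ) = 5 ^ 2 * 4 by norm_num, Nat.factorization_mul (by norm_num) (by norm_num),
            Nat.Prime.factorization_pow (by norm_num)]
          simp [Nat.factorization_eq_zero_of_not_dvd (show ¬ 5 ∣ 4 by norm_num)]
        rw [this]; norm_num
      have hone : Nat.card (Sylow 5 N) = 1 := by
        have h1 := card_sylow_modEq_one 5 N
        have h2 : Nat.card (Sylow 5 N) ∣ 4 := by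
          have h4 := P.card_dvd_index
          have h5 := Subgroup.card_mul_index (P : Subgroup N)
          rw [hP, ← horb] at h5
          rwa [show (P : Subgroup N).index = 4 by omega] at h4
        have := Nat.le_of_dvd (by norm_num) h2
        unfold Nat.ModEq at h1
        generalize Nat.card (Sylow 5 N) = s at *
        interval_cases s <;> omega
      -- the non-trivial elements of the Sylow subgroup form a union of the two classes
      have hmem : ∀ n : N, n ∈ (P : Subgroup N) ↔ orderOf n ∣ 25 := fun n => by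
        constructor
        · intro hn
          have := orderOf_dvd_natCard (⟨n, hn⟩ : (P : Subgroup N))
          rwa [hP, Subgroup.orderOf_mk] at this
        · intro hn
          have hp : IsPGroup 5 (Subgroup.zpowers n) := by
              obtain ⟨j, -, hj⟩ := (Nat.dvd_prime_pow (show Nat.Prime 5 by norm_num) (m := 2)).mp (by simpa using hn)
              exact IsPGroup.of_card (n := j) (by rw [Nat.card_zpowers, hj])
          obtain ⟨Q, hQ⟩ := hp.exists_le_sylow
          haveI := (Nat.card_eq_one_iff_unique.mp hone).1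
          rw [Subsingleton.elim P Q]
          exact hQ (Subgroup.mem_zpowers n)
      let S : Finset N := Finset.univ.filter fun n => n ∈ (P : Subgroup N) ∧ n ≠ 1
      have hScard : S.card = 24 := by
        have : S = (Finset.univ.filter fun n => n ∈ (P : Subgroup N)).erase 1 := by
          ext n; simp [S, and_comm]
        rw [this, Finset.card_erase_of_mem (by simp [Subgroup.one_mem]), ← Fintype.card_subtype,
          ← Nat.card_eq_fintype_card]
        rw [hP]
      let T : Finset (Option (α ⊕ B)) := S.image ev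
      have hT : T.card = 24 := by rw [Finset.card_image_of_injective _ hev.1, hScard]
      have hTnone : none ∉ T := by
        intro hm
        obtain ⟨n, hn, hn0⟩ := Finset.mem_image.mp hm
        exact (Finset.mem_filter.mp hn).2.2 (hev.1 (hn0.trans rfl))
      have hTinv : ∀ h : H, (h : Γ ≃g Γ) none = none → ∀ x ∈ T, (h : Γ ≃g Γ) x ∈ T := by
        intro h hh x hx
        obtain ⟨n, hn, rfl⟩ := Finset.mem_image.mp hx
        obtain ⟨n', hn'⟩ := hev.2 ((h : Γ ≃g Γ) (ev n))
        refine Finset.mem_image.mpr ⟨n', ?_, hn'⟩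
        obtain ⟨hnP, hn1⟩ := (Finset.mem_filter.mp hn).2
        have := hord n n' h hh hn'.symm
        simp only [S, Finset.mem_filter, Finset.mem_univ, true_and]
        refine ⟨(hmem n').mpr (this ▸ (hmem n).mp hnP), fun h1 => hn1 ?_⟩
        rw [h1, orderOf_one] at this
        exact orderOf_eq_one_iff.mp this
      have h77 : Fintype.card B = 77 := by
        have := card_vertex hα hB
        rw [Fintype.card_option, Fintype.card_sum, hα] at this
        omega
      rw [← Finset.filter_univ_mem T, GraphTwentyTwo.card_filter_option_sum, if_neg hTnone] at hT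
      by_cases hp : ∃ a, some (Sum.inl a) ∈ T <;> by_cases hq : ∃ b, some (Sum.inr b) ∈ T
      all_goals
        first
        | (obtain ⟨a, ha⟩ := hp
           rw [Finset.filter_true_of_mem fun a' _ => (by
             obtain ⟨h, h1, h2⟩ := hptrans a a'
             exact h2 ▸ hTinv h h1 _ ha), Finset.card_univ, hα] at hT)
        | (rw [Finset.filter_false_of_mem fun a' _ h => hp ⟨a', h⟩, Finset.card_empty] at hT)
      all_goals
        first
        | (obtain ⟨b, hq⟩ := hq
           rw [Finset.filter_true_of_mem fun b' _ => (by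
             obtain ⟨h, h1, h2⟩ := hbtrans b b'
             exact h2 ▸ hTinv h h1 _ hq), Finset.card_univ, h77] at hT)
        | (rw [Finset.filter_false_of_mem fun b' _ h => hq ⟨b', h⟩, Finset.card_empty] at hT)
      all_goals omega
    · apply Subgroup.eq_top_of_card_eq
      rw [hb, Subgroup.card_top, Nat.card_congr e.toEquiv, hK] at horb
      rw [hH, ← horb]

end HS

end CfsgLib.Steiner.HigmanSims
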