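import Mathlib
import Cfsg.Agent.Lib.Steiner.SRGHundred
import Cfsg.Agent.S1586

/-!
Two faithful rank three groups of order 44352000 on 100 points with subdegrees 22 and 77,
one of them simple, are isomorphic.
-/

set_option autoImplicit false

namespace CfsgLib.Steiner.RankThreeHundred

open SimpleGraph Matrix

section Params

variable {V : Type*} [Fintype V] [DecidableEq V] {Γ : SimpleGraph V} [DecidableRel Γ.Adj]
  {l m : ℕ}

theorem compl_adjMatrix (α : Type*) [Ring α] :
    Γᶜ.adjMatrix α = Matrix.of (fun _ _ => (1 : α)) - 1 - Γ.adjMatrix α := by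
  ext i j
  by_cases h : i = j
  · subst h; simp
  · by_cases ha : Γ.Adj i j <;> simp [h, ha]

theorem lt_twentyTwo (h : Γ.IsSRGWith 100 22 l m) : l < 22 := by
  obtain ⟨v⟩ : Nonempty V := Fintype.card_pos_iff.mp (by rw [h.card]; norm_num)
  have hd : 0 < Γ.degree v := by rw [h.regular v]; norm_num
  obtain ⟨w, hw⟩ := (Γ.degree_pos_iff_exists_adj v).mp hd
  have := hw.card_commonNeighbors_lt_degree
  rwa [h.of_adj v w hw, h.regular v] at this

/-- The parameters (7,4) have a multiplicity 275/9. -/
theorem not_seven_four : ¬ Γ.IsSRGWith 100 22 7 4 := by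
  intro h
  let A := Γ.adjMatrix ℚ
  let J : Matrix V V ℚ := Matrix.of fun _ _ => 1
  have hA : A * A = 18 • (1 : Matrix V V ℚ) + 3 • A + 4 • J := by
    have h2 := h.matrix_eq (α := ℚ)
    rw [pow_two, compl_adjMatrix] at h2
    rw [h2]; module
  have hAJ : A * J = 22 • J := by
    ext i j
    simp [A, J, Matrix.mul_apply, Finset.sum_boole, ← neighborFinset_eq_filter, h.regular i]
  have hJA : J * A = 22 • J := by
    ext i j
    simp [A, J, Matrix.mul_apply, Finset.sum_boole, Γ.adj_comm _ j, ← neighborFinset_eq_filter,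
      h.regular j]
  have hJJ : J * J = 100 • J := by
    ext i j
    simp [J, Matrix.mul_apply, h.card]
  let E : Matrix V V ℚ := (1 / 9 : ℚ) • A + (1 / 3 : ℚ) • 1 - (1 / 36 : ℚ) • J
  have hE : E * E = E := by
    simp only [E, Matrix.mul_sub, Matrix.sub_mul, Matrix.mul_add, Matrix.add_mul, smul_mul_assoc,
      mul_smul_comm, Matrix.one_mul, Matrix.mul_one, hA, hAJ, hJA, hJJ]
    module
  have hp : LinearMap.IsProj (LinearMap.range (toLin' E)) (toLin' E) :=
    ⟨fun x => LinearMap.mem_range_self _ x, fun x hx => by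
      obtain ⟨y, rfl⟩ := hx
      rw [← LinearMap.comp_apply, ← toLin'_mul, hE]⟩
  have htr := hp.trace
  rw [Matrix.trace_toLin'_eq] at htr
  have hA0 : A.trace = 0 := trace_adjMatrix ℚ Γ
  have hJ0 : J.trace = 100 := by simp [J, Matrix.trace, h.card]
  have : E.trace = 275 / 9 := by
    simp only [E, Matrix.trace_sub, Matrix.trace_add, Matrix.trace_smul, hA0, hJ0, Matrix.trace_one,
      h.card]
    norm_num
  rw [this, div_eq_iff (by norm_num)] at htr
  norm_cast at htr
  omega

/-- The parameters (14,2) make 2 a square modulo 3. -/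
theorem not_fourteen_two : ¬ Γ.IsSRGWith 100 22 14 2 := by
  intro h
  let A := Γ.adjMatrix (ZMod 3)
  let J : Matrix V V (ZMod 3) := Matrix.of fun _ _ => 1
  have hA : A * A = (2 : ZMod 3) • (1 + J) := by
    have h2 := h.matrix_eq (α := ZMod 3)
    rw [pow_two, compl_adjMatrix] at h2
    rw [h2]
    ext i j
    simp only [A, J, Matrix.add_apply, Matrix.sub_apply, Matrix.smul_apply, Matrix.of_apply,
      Matrix.one_apply, adjMatrix_apply]
    split_ifs <;> decide
  have hJ : J = replicateCol Unit (fun _ : V => (1 : ZMod 3)) *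
      replicateRow Unit (fun _ : V => (1 : ZMod 3)) := by
    ext i j; simp [J, Matrix.mul_apply]
  have hd := congrArg Matrix.det hA
  rw [det_mul, det_smul, hJ, det_one_add_replicateCol_mul_replicateRow, h.card] at hd
  have h100 : (2 : ZMod 3) ^ 100 * (1 + (fun _ => 1) ⬝ᵥ (fun _ : V => (1 : ZMod 3))) = 2 := by
    simp only [dotProduct, mul_one, Finset.sum_const, Finset.card_univ, h.card, nsmul_eq_mul]
    rw [show (2 : ZMod 3) = -1 by decide, Even.neg_one_pow (by decide)]
    decide
  rw [h100] at hd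
  generalize A.det = d at hd
  revert hd; revert d; decide

/-- Twenty-three does not divide a hundred. -/
theorem not_twentyOne_zero : ¬ Γ.IsSRGWith 100 22 21 0 := by
  intro h
  have htr : ∀ x y z, Γ.Adj x y → Γ.Adj y z → x ≠ z → Γ.Adj x z := by
    intro x y z h1 h2 hne
    by_contra hn
    have h0 := h.of_not_adj hne hn
    rw [Fintype.card_eq_zero_iff] at h0
    exact h0.elim ⟨y, h1, h2.symm⟩
  let C : V → Finset V := fun x => insert x (Γ.neighborFinset x)
  have hC : ∀ x, (C x).card = 23 := fun x => by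
    rw [Finset.card_insert_of_notMem (by simp), card_neighborFinset_eq_degree, h.regular x]
  have hsame : ∀ x y, y ∈ C x → C y = C x := by
    intro x y hy
    simp only [C, Finset.mem_insert, mem_neighborFinset] at hy
    rcases hy with rfl | hy
    · rfl
    refine Finset.eq_of_subset_of_card_le (fun z hz => ?_) (by rw [hC, hC])
    simp only [C, Finset.mem_insert, mem_neighborFinset] at hz ⊢
    by_cases hzx : z = x
    · exact Or.inl hzx
    rcases hz with rfl | hz
    · exact Or.inr hy
    · exact Or.inr (htr x y z hy hz (Ne.symm hzx))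
  let P : Finset (Finset V) := Finset.univ.image C
  have hs := Finset.card_eq_sum_card_image C (Finset.univ : Finset V)
  rw [Finset.card_univ, h.card,
    Finset.sum_congr rfl fun c hc => show (Finset.univ.filter fun x => C x = c).card = 23 by
      obtain ⟨x, -, rfl⟩ := Finset.mem_image.mp hc
      rw [← hC x]
      congr 1
      ext y
      simp only [Finset.mem_filter, Finset.mem_univ, true_and]
      exact ⟨fun e => e ▸ Finset.mem_insert_self _ _, hsame x y⟩,
    Finset.sum_const, smul_eq_mul] at hs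
  omega

theorem params (h : Γ.IsSRGWith 100 22 l m) : Γ.IsSRGWith 100 22 0 6 := by
  have hp := h.param_eq Γ (by norm_num)
  have hl := lt_twentyTwo h
  interval_cases l
  all_goals norm_num at hp
  all_goals first
    | omega
    | (obtain rfl : m = 6 := by omega); exact h
    | (obtain rfl : m = 4 := by omega); exact absurd h not_seven_four
    | (obtain rfl : m = 2 := by omega); exact absurd h not_fourteen_two
    | (obtain rfl : m = 0 := by omega); exact absurd h not_twentyOne_zero

end Params

section Orbital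

variable {G Ω : Type*} [Group G] [Finite G] [MulAction G Ω] [Fintype Ω] [DecidableEq Ω]
  [MulAction.IsPretransitive G Ω]

/-- The orbital graph of the suborbit of length 22. -/
theorem exists_graph (hΩ : Fintype.card Ω = 100) (a b c : Ω)
    (hb : (MulAction.orbit (MulAction.stabilizer G a) b).ncard = 22)
    (hc : (MulAction.orbit (MulAction.stabilizer G a) c).ncard = 77) :
    ∃ (Γ : SimpleGraph Ω) (_ : DecidableRel Γ.Adj), Γ.IsSRGWith 100 22 0 6 ∧
      ∀ (g : G) (x y : Ω), Γ.Adj (g • x) (g • y) ↔ Γ.Adj x y := by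
  classical
  set H := MulAction.stabilizer G a with hH
  set O := MulAction.orbit H b with hO
  set O' := MulAction.orbit H c with hO'
  have ha : ∀ d : Ω, a ∈ MulAction.orbit H d → (MulAction.orbit H d).ncard = 1 := by
    intro d hd
    rw [Set.ncard_eq_one]
    refine ⟨a, ?_⟩
    rw [← MulAction.orbit_eq_iff.mpr hd]
    ext y
    refine ⟨fun hy => ?_, fun hy => by rw [Set.mem_singleton_iff] at hy; subst hy; exact MulAction.mem_orbit_self _⟩
    obtain ⟨h, rfl⟩ := hy
    exact h.2
  have haO : a ∉ O := fun h => absurd (hb.symm.trans (ha b h)) (by norm_num)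
  have haO' : a ∉ O' := fun h => absurd (hc.symm.trans (ha c h)) (by norm_num)
  have hdis : Disjoint O O' := by
    rw [Set.disjoint_left]
    intro x hx hx'
    have e : O = O' := (MulAction.orbit_eq_iff.mpr hx).symm.trans (MulAction.orbit_eq_iff.mpr hx')
    rw [e, hc] at hb
    norm_num at hb
  have hcover : ∀ x, x = a ∨ x ∈ O ∨ x ∈ O' := by
    have hu : insert a (O ∪ O') = Set.univ := by
      refine Set.eq_of_subset_of_ncard_le (Set.subset_univ _) ?_
      rw [Set.ncard_univ, Nat.card_eq_fintype_card, hΩ, Set.ncard_insert_of_notMem (by simp [haO, haO']),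
        Set.ncard_union_eq hdis, hb, hc]
    intro x
    have := Set.mem_univ x
    rwa [← hu] at this
  let R : Ω → Ω → Prop := fun x y => ∃ g : G, g • a = x ∧ g • b = y
  have hRinv : ∀ (g : G) (x y : Ω), R x y → R (g • x) (g • y) := by
    rintro g x y ⟨k, rfl, rfl⟩
    exact ⟨g * k, mul_smul _ _ _, mul_smul _ _ _⟩
  have hRa : ∀ y, R a y ↔ y ∈ O := fun y =>
    ⟨fun ⟨g, h1, h2⟩ => ⟨⟨g, h1⟩, h2⟩, fun ⟨h, h2⟩ => ⟨h.1, h.2, h2⟩⟩
  -- some pair is interchanged by an involution
  have hswap : ∃ x : Ω, x ≠ a ∧ ∃ g : G, g • a = x ∧ g • x = a := by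
    have h2 : 2 ∣ Nat.card G := by
      rw [← H.card_mul_index, MulAction.index_stabilizer_of_transitive,
        Nat.card_eq_fintype_card (α := Ω), hΩ]
      exact Dvd.dvd.mul_left (by norm_num) _
    obtain ⟨p, q, hpq, t, ht1, ht2⟩ : ∃ (p q : Ω), p ≠ q ∧ ∃ t : G, t • p = q ∧ t • q = p := by
      by_contra hcon
      push Not at hcon
      -- the elements of order dividing two act trivially
      have htriv : ∀ t : G, t * t = 1 → ∀ p : Ω, t • p = p := by
        intro t ht p
        by_contra hne
        exact hcon p (t • p) (Ne.symm hne) t rfl (by rw [← mul_smul, ht, one_smul])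
      let K := (MulAction.toPermHom G Ω).ker
      obtain ⟨P⟩ : Nonempty (Sylow 2 (G ⧸ K)) := inferInstance
      have hQ : 2 ∣ Nat.card (G ⧸ K) := by
        have h100 : 100 ∣ Nat.card (G ⧸ K) := by
          have hle : K ≤ H := fun g hg => MulAction.mem_stabilizer_iff.mpr
            (by simpa using congrFun (congrArg DFunLike.coe hg) a)
          have hdvd := Subgroup.index_dvd_of_le hle
          rw [MulAction.index_stabilizer_of_transitive, Nat.card_eq_fintype_card, hΩ] at hdvd
          exact hdvd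
        exact dvd_trans (by norm_num) h100
      haveI := Fact.mk Nat.prime_two
      obtain ⟨u, hu⟩ := exists_prime_orderOf_dvd_card' 2 hQ
      obtain ⟨t, rfl⟩ := QuotientGroup.mk_surjective u
      have htK : t ∉ K := fun h => by
        rw [(QuotientGroup.eq_one_iff t).mpr h, orderOf_one] at hu; omega
      obtain ⟨p, hp⟩ : ∃ p : Ω, t • p ≠ p := by
        by_contra hall
        push Not at hall
        exact htK (MonoidHom.mem_ker.mpr (Equiv.ext fun p => by simpa using hall p))
      have htt : t * t ∈ K := by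
        rw [← QuotientGroup.eq_one_iff, QuotientGroup.mk_mul, ← pow_two, ← hu]
        exact pow_orderOf_eq_one _
      exact hcon p (t • p) (Ne.symm hp) t rfl (by
        rw [← mul_smul]
        simpa using congrFun (congrArg DFunLike.coe htt) p)
    obtain ⟨g, rfl⟩ := MulAction.exists_smul_eq G a p
    refine ⟨g⁻¹ • q, ?_, g⁻¹ * t * g, by rw [mul_smul, mul_smul, ht1], by
      rw [mul_smul, mul_smul, smul_inv_smul, ht2, inv_smul_smul]⟩
    rw [Ne, inv_smul_eq_iff]
    exact Ne.symm hpq
  have hRb : R b a := by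
    obtain ⟨g0, hg0⟩ := MulAction.exists_smul_eq G b a
    set z := g0 • a with hz
    have hRz : R z a := ⟨g0, rfl, hg0⟩
    obtain ⟨x, hxa, g, hg1, hg2⟩ := hswap
    rcases hcover x with hx | hx | hx
    · exact absurd hx hxa
    · -- the suborbit of length 22 is self-paired
      obtain ⟨k, hk, hk'⟩ := (hRa x).mpr hx
      refine ⟨k⁻¹ * g * k, ?_, ?_⟩
      · rw [mul_smul, mul_smul, hk, hg1, ← hk', inv_smul_smul]
      · rw [mul_smul, mul_smul, hk', hg2, inv_smul_eq_iff, hk]
    · -- the other suborbit is self-paired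
      rcases hcover z with h | h | h
      · rw [h] at hRz; exact absurd ((hRa a).mp hRz) haO
      · obtain ⟨k, hk, hk'⟩ := (hRa z).mpr h
        have := hRinv k⁻¹ _ _ hRz
        rwa [← hk', inv_smul_smul, show k⁻¹ • a = a from inv_smul_eq_iff.mpr hk.symm] at this
      · exfalso
        obtain ⟨h1, rfl⟩ := hx
        obtain ⟨h2, hh2⟩ := h
        -- transport the swap from `x` to `z`
        have hc' := hRinv ((h1 : G) * (h2 : G)⁻¹) _ _ hRz
        rw [← hh2] at hc'
        simp only [Subgroup.smul_def, mul_smul, inv_smul_smul,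
          show ((h2 : G)⁻¹) • a = a from inv_smul_eq_iff.mpr h2.2.symm,
          show (h1 : G) • a = a from h1.2] at hc'
        have := hRinv g _ _ hc'
        rw [hg1] at this
        simp only [Subgroup.smul_def] at hg2
        rw [hg2] at this
        exact Set.disjoint_left.mp hdis ((hRa _).mp this) ⟨h1, rfl⟩
  have hsymm : ∀ x y, R x y → R y x := by
    rintro x y ⟨g, rfl, rfl⟩
    exact hRinv g _ _ hRb
  have hne : ∀ x y, R x y → x ≠ y := by
    rintro x y ⟨g, rfl, rfl⟩ e
    exact haO ((MulAction.injective g e).symm ▸ MulAction.mem_orbit_self b)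
  let Γ : SimpleGraph Ω :=
    { Adj := R, symm := ⟨fun x y => hsymm x y⟩, loopless := ⟨fun x h => hne x x h rfl⟩ }
  have hadj : ∀ (g : G) (x y : Ω), Γ.Adj (g • x) (g • y) ↔ Γ.Adj x y := fun g x y =>
    ⟨fun h => by simpa using hRinv g⁻¹ _ _ h, fun h => hRinv g x y h⟩
  have hcn : ∀ (g : G) (x y : Ω),
      (Γ.commonNeighbors (g • x) (g • y)).ncard = (Γ.commonNeighbors x y).ncard := by
    intro g x y
    rw [← Set.ncard_image_of_injective (Γ.commonNeighbors x y) (MulAction.injective g)]
    congr 1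
    ext w
    constructor
    · intro hw
      refine ⟨g⁻¹ • w, ?_, smul_inv_smul g w⟩
      rw [mem_commonNeighbors] at hw ⊢
      rw [← hadj g, ← hadj g y, smul_inv_smul]
      exact hw
    · rintro ⟨u, hu, rfl⟩
      rw [mem_commonNeighbors] at hu ⊢
      exact ⟨(hadj g x u).mpr hu.1, (hadj g y u).mpr hu.2⟩
  refine ⟨Γ, inferInstance, params (l := (Γ.commonNeighbors a b).ncard)
    (m := (Γ.commonNeighbors a c).ncard) ⟨hΩ, fun x => ?_, fun x y hxy => ?_, fun x y hxy hn => ?_⟩,
    hadj⟩
  · obtain ⟨g, rfl⟩ := MulAction.exists_smul_eq G a x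
    rw [← card_neighborFinset_eq_degree, ← Set.ncard_coe_finset, coe_neighborFinset, ← hb,
      ← Set.ncard_image_of_injective O (MulAction.injective g)]
    congr 1
    ext w
    rw [mem_neighborSet]
    constructor
    · intro hw
      exact ⟨g⁻¹ • w, (hRa _).mp ((hadj g a _).mp (by rwa [smul_inv_smul])), smul_inv_smul g w⟩
    · rintro ⟨u, hu, rfl⟩
      exact (hadj g a u).mpr ((hRa u).mpr hu)
  · obtain ⟨g, rfl, rfl⟩ := hxy
    rw [← Nat.card_eq_fintype_card, Nat.card_coe_set_eq, hcn]
  · obtain ⟨g, rfl⟩ := MulAction.exists_smul_eq G a x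
    rcases hcover (g⁻¹ • y) with h | h | h
    · exact absurd (inv_smul_eq_iff.mp h).symm hxy
    · exact absurd (by simpa using (hadj g _ _).mpr ((hRa _).mpr h)) hn
    · obtain ⟨k, hk⟩ := h
      rw [← Nat.card_eq_fintype_card, Nat.card_coe_set_eq,
        show y = g • ((k : G) • c) by rw [show (k : G) • c = g⁻¹ • y from hk, smul_inv_smul], hcn]
      conv_lhs => rw [← show (k : G) • a = a from k.2, hcn]

/-- A group acting faithfully by automorphisms embeds in the automorphism group. -/
theorem exists_hom_injective [FaithfulSMul G Ω] {Γ : SimpleGraph Ω}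
    (h : ∀ (g : G) (x y : Ω), Γ.Adj (g • x) (g • y) ↔ Γ.Adj x y) :
    ∃ f : G →* (Γ ≃g Γ), Function.Injective f := by
  refine ⟨{ toFun := fun g => ⟨MulAction.toPerm g, fun {x y} => h g x y⟩
            map_one' := RelIso.ext fun x => one_smul G x
            map_mul' := fun g g' => RelIso.ext fun x => mul_smul g g' x }, fun g g' e => ?_⟩
  exact eq_of_smul_eq_smul fun x : Ω => congrFun (congrArg DFunLike.coe e) x

end Orbital

/-- An index two subgroup contains every simple subgroup of order more than two; so such are unique. -/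
theorem eq_of_simple {A : Type*} [Group A] [Finite A] {M N : Subgroup A} [IsSimpleGroup N]
    (hM : M.index = 2) (hN : N.index = 2) (h3 : 2 < Nat.card N) : M = N := by
  haveI : M.Normal := Subgroup.normal_of_index_eq_two hM
  rcases IsSimpleGroup.eq_bot_or_eq_top_of_normal (M.subgroupOf N) inferInstance with h | h
  · exfalso
    have h1 : M.relIndex N ≤ 2 := by
      have := Subgroup.relIndex_dvd_index_of_normal M N
      rw [hM] at this
      exact Nat.le_of_dvd two_pos this
    rw [Subgroup.relIndex, h, Subgroup.index_bot] at h1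
    omega
  · refine (Subgroup.eq_of_le_of_card_ge (Subgroup.subgroupOf_eq_top.mp h) ?_).symm
    have e1 := Subgroup.card_mul_index M
    have e2 := Subgroup.card_mul_index N
    rw [hM] at e1; rw [hN] at e2
    omega

theorem card_aut {V : Type*} [Fintype V] [DecidableEq V] {Γ : SimpleGraph V} [DecidableRel Γ.Adj]
    (h : Γ.IsSRGWith 100 22 0 6) : Nat.card (Γ ≃g Γ) = 88704000 := by
  obtain ⟨v⟩ : Nonempty V := Fintype.card_pos_iff.mp (by rw [h.card]; norm_num)
  obtain ⟨α, _, _, B, hα, hB, f, -⟩ := SRGHundred.exists_model h v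
  rw [← Cfsg.Agent.S1586.result hα hB]
  refine Nat.card_congr ⟨fun g => (f.trans g).trans f.symm, fun g => (f.symm.trans g).trans f, ?_, ?_⟩
  · intro g; ext x; simp
  · intro g; ext x; simp

/-- The comparison theorem. -/
theorem nonempty_mulEquiv {G₁ G₂ Ω₁ Ω₂ : Type*} [Group G₁] [Group G₂] [Finite G₁] [Finite G₂]
    [MulAction G₁ Ω₁] [MulAction G₂ Ω₂] [FaithfulSMul G₁ Ω₁] [FaithfulSMul G₂ Ω₂]
    [Fintype Ω₁] [Fintype Ω₂] [DecidableEq Ω₁] [DecidableEq Ω₂]
    [MulAction.IsPretransitive G₁ Ω₁] [MulAction.IsPretransitive G₂ Ω₂] [IsSimpleGroup G₂]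
    (h₁ : Fintype.card Ω₁ = 100) (h₂ : Fintype.card Ω₂ = 100) (a₁ b₁ c₁ : Ω₁) (a₂ b₂ c₂ : Ω₂)
    (hb₁ : (MulAction.orbit (MulAction.stabilizer G₁ a₁) b₁).ncard = 22)
    (hc₁ : (MulAction.orbit (MulAction.stabilizer G₁ a₁) c₁).ncard = 77)
    (hb₂ : (MulAction.orbit (MulAction.stabilizer G₂ a₂) b₂).ncard = 22)
    (hc₂ : (MulAction.orbit (MulAction.stabilizer G₂ a₂) c₂).ncard = 77)
    (hG₁ : Nat.card G₁ = 44352000) (hG₂ : Nat.card G₂ = 44352000) : Nonempty (G₁ ≃* G₂) := by
  obtain ⟨Γ₁, _, hs₁, hi₁⟩ := exists_graph h₁ a₁ b₁ c₁ hb₁ hc₁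
  obtain ⟨Γ₂, _, hs₂, hi₂⟩ := exists_graph h₂ a₂ b₂ c₂ hb₂ hc₂
  obtain ⟨f₁, hf₁⟩ := exists_hom_injective hi₁
  obtain ⟨e, -⟩ := SRGHundred.exists_iso_map (V := Ω₂) a₂ hs₂ hs₁ a₁
  let c : (Γ₂ ≃g Γ₂) →* (Γ₁ ≃g Γ₁) :=
    { toFun := fun g => (e.symm.trans g).trans e
      map_one' := RelIso.ext fun x => e.apply_symm_apply x
      map_mul' := fun g g' => RelIso.ext fun x => by simp }
  have hc : Function.Injective c := fun g g' h => RelIso.ext fun x => by
    have := congrFun (congrArg DFunLike.coe h) (e x)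
    simpa [c] using this
  obtain ⟨f₂, hf₂⟩ := exists_hom_injective hi₂
  have hinj : Function.Injective (c.comp f₂) := hc.comp hf₂
  haveI : Finite (Γ₁ ≃g Γ₁) := Finite.of_injective _ (HigmanSims.toPerm_injective Γ₁)
  have hidx : ∀ {S : Subgroup (Γ₁ ≃g Γ₁)}, Nat.card S = 44352000 → S.index = 2 := by
    intro S hS
    have := S.card_mul_index
    rw [hS, card_aut hs₁] at this
    omega
  let e₁ := MonoidHom.ofInjective hf₁
  let e₂ := MonoidHom.ofInjective hinj
  have hcard₁ : Nat.card f₁.range = 44352000 := (Nat.card_congr e₁.toEquiv).symm.trans hG₁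
  have hcard₂ : Nat.card (c.comp f₂).range = 44352000 := (Nat.card_congr e₂.toEquiv).symm.trans hG₂
  haveI : IsSimpleGroup (c.comp f₂).range := isSimpleGroup_of_mulEquiv e₂.symm
  have heq := eq_of_simple (hidx hcard₁) (hidx hcard₂) (by omega)
  exact ⟨(e₁.trans (MulEquiv.subgroupCongr heq)).trans e₂.symm⟩

end CfsgLib.Steiner.RankThreeHundred
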