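import Mathlib

/-!
The generalised quadrangle of order two as a graph (15 vertices, valency 6, one common neighbour for
adjacent and three for non-adjacent vertices): each vertex lies in exactly two cocliques of size five.
-/

set_option autoImplicit false

namespace CfsgLib.Steiner.GQTwoTwo

variable {C : Type*} [Fintype C] [DecidableEq C] (R : C → C → Prop) [DecidableRel R]

/-- The axioms of the graph. -/
structure Axioms : Prop where
  card : Fintype.card C = 15
  symm : ∀ a b, R a b → R b a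
  irrefl : ∀ a, ¬ R a a
  degree : ∀ a, (Finset.univ.filter (R a)).card = 6
  adj : ∀ a b, R a b → (Finset.univ.filter fun z => R a z ∧ R b z).card = 1
  nonadj : ∀ a b, a ≠ b → ¬ R a b → (Finset.univ.filter fun z => R a z ∧ R b z).card = 3
  line : ∀ a b c z, R a b → R a c → R b c → z ≠ a → z ≠ b → z ≠ c →
    (R z a ∧ ¬ R z b ∧ ¬ R z c) ∨ (¬ R z a ∧ R z b ∧ ¬ R z c) ∨ (¬ R z a ∧ ¬ R z b ∧ R z c)

/-- Cocliques of size five through a vertex. -/
def cocliques (u : C) : Finset (Finset C) :=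
  ((Finset.univ : Finset C).powersetCard 5).filter fun W => u ∈ W ∧ ∀ a ∈ W, ∀ b ∈ W, ¬ R a b

variable {R} (h : Axioms R)

include h

theorem card_far (u : C) : (Finset.univ.filter fun z => z ≠ u ∧ ¬ R u z).card = 8 := by
  have : (Finset.univ.filter fun z => z ≠ u ∧ ¬ R u z) =
      Finset.univ \ insert u (Finset.univ.filter (R u)) := by ext z; simp [not_or]
  rw [this, Finset.card_sdiff_of_subset (Finset.subset_univ _), Finset.card_univ, h.card,
    Finset.card_insert_of_notMem (by simp [h.irrefl]), h.degree]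

/-- The local picture at a non-neighbour `o` of `u`: three far neighbours `o₁ o₂ o₃`, each pair with one
more far common neighbour, and an eighth far vertex. -/
theorem exists_cube (u o : C) (hou : o ≠ u) (huo : ¬ R u o) :
    ∃ o₁ o₂ o₃ r₁₂ r₁₃ r₂₃ s : C,
      (Finset.univ.filter fun z => z ≠ u ∧ ¬ R u z) = {o, o₁, o₂, o₃, r₁₂, r₁₃, r₂₃, s} ∧
      [o, o₁, o₂, o₃, r₁₂, r₁₃, r₂₃, s].Nodup ∧
      R o o₁ ∧ R o o₂ ∧ R o o₃ ∧ R r₁₂ o₁ ∧ R r₁₂ o₂ ∧ R r₁₃ o₁ ∧ R r₁₃ o₃ ∧ R r₂₃ o₂ ∧ R r₂₃ o₃ ∧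
      R s r₁₂ ∧ R s r₁₃ ∧ R s r₂₃ ∧
      ¬ R o r₁₂ ∧ ¬ R o r₁₃ ∧ ¬ R o r₂₃ ∧ ¬ R r₁₂ r₁₃ ∧ ¬ R r₁₂ r₂₃ ∧ ¬ R r₁₃ r₂₃ ∧
      ¬ R o₁ o₂ ∧ ¬ R o₁ o₃ ∧ ¬ R o₂ o₃ ∧ ¬ R s o₁ ∧ ¬ R s o₂ ∧ ¬ R s o₃ := by
  set F := Finset.univ.filter fun z => z ≠ u ∧ ¬ R u z with hF
  have memF : ∀ {z}, z ∈ F ↔ z ≠ u ∧ ¬ R u z := fun {z} => by simp [hF]
  have sy : ∀ {a b}, R a b → R b a := fun {a b} => h.symm a b
  have ne : ∀ {a b}, R a b → a ≠ b := fun {a b} hab e => h.irrefl a (e ▸ hab)
  have hdeg : ∀ x ∈ F, (F.filter (R x)).card = 3 := by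
    intro x hx
    obtain ⟨hxu, hux⟩ := memF.mp hx
    have h3 := h.nonadj u x hxu.symm hux
    have h6 := h.degree x
    have hsplit : Finset.univ.filter (R x) =
        (Finset.univ.filter fun z => R u z ∧ R x z) ∪ F.filter (R x) := by
      ext z
      simp only [Finset.mem_filter, Finset.mem_univ, true_and, Finset.mem_union, memF]
      constructor
      · intro hz
        by_cases huz : R u z
        · exact Or.inl ⟨huz, hz⟩
        · exact Or.inr ⟨⟨fun e => hux (sy (e ▸ hz)), huz⟩, hz⟩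
      · rintro (hz | hz)
        · exact hz.2
        · exact hz.2
    rw [hsplit, Finset.card_union_of_disjoint, h3] at h6
    · omega
    · rw [Finset.disjoint_left]
      intro z hz hz'
      simp only [Finset.mem_filter, Finset.mem_univ, true_and, memF] at hz hz'
      exact hz'.1.2 hz.1
  -- the lines through an edge of far vertices
  have third : ∀ a b, R a b → ∃ c, R a c ∧ R b c ∧ ∀ d, R a d → R b d → d = c := by
    intro a b hab
    obtain ⟨c, hc⟩ := Finset.card_eq_one.mp (h.adj a b hab)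
    have hc' : R a c ∧ R b c := by
      have := hc.ge (Finset.mem_singleton_self c)
      simpa using this
    exact ⟨c, hc'.1, hc'.2, fun d h1 h2 => by
      have : d ∈ ({c} : Finset C) := hc ▸ by simp [h1, h2]
      simpa using this⟩
  have notTwo : ∀ a b c z, R a b → R a c → R b c → z ≠ a → z ≠ b → z ≠ c → R z a → ¬ R z b := by
    intro a b c z h1 h2 h3 h4 h5 h6 h7
    rcases h.line a b c z h1 h2 h3 h4 h5 h6 with e | e | e
    · exact e.2.1
    · exact absurd h7 e.1
    · exact absurd h7 e.1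
  have edge : ∀ a b, a ∈ F → b ∈ F → R a b → ∃ c, R u c ∧ R a c ∧ R b c := by
    intro a b ha hb hab
    obtain ⟨c, hac, hbc, -⟩ := third a b hab
    obtain ⟨hau, hua⟩ := memF.mp ha
    obtain ⟨hbu, hub⟩ := memF.mp hb
    refine ⟨c, ?_, hac, hbc⟩
    rcases h.line a b c u hab hac hbc hau.symm hbu.symm (fun e => hua (sy (e ▸ hac))) with e | e | e
    · exact absurd e.1 hua
    · exact absurd e.2.1 hub
    · exact e.2.2
  obtain ⟨o₁, o₂, o₃, h12, h13, h23, hN⟩ := Finset.card_eq_three.mp (hdeg o (memF.mpr ⟨hou, huo⟩))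
  have hoi : ∀ x ∈ ({o₁, o₂, o₃} : Finset C), x ∈ F ∧ R o x := fun x hx => by
    rw [← hN] at hx
    simpa using hx
  obtain ⟨hF1, ho1⟩ := hoi o₁ (by simp)
  obtain ⟨hF2, ho2⟩ := hoi o₂ (by simp)
  obtain ⟨hF3, ho3⟩ := hoi o₃ (by simp)
  have hoF : o ∈ F := memF.mpr ⟨hou, huo⟩
  obtain ⟨a₁, ua1, oa1, o1a1⟩ := edge o o₁ hoF hF1 ho1
  obtain ⟨a₂, ua2, oa2, o2a2⟩ := edge o o₂ hoF hF2 ho2
  obtain ⟨a₃, ua3, oa3, o3a3⟩ := edge o o₃ hoF hF3 ho3
  have uniq3 : ∀ a b c d, R a b → R a c → R b c → R a d → R b d → c = d := by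
    intro a b c d h1 h2 h3 h4 h5
    obtain ⟨e, -, -, he⟩ := third a b h1
    rw [he c h2 h3, he d h4 h5]
  have nn : ∀ x y, x ∈ F → y ∈ F → R o x → R o y → x ≠ y → ¬ R x y := by
    intro x y hx hy ox oy hxy rxy
    obtain ⟨c, uc, oc, xc⟩ := edge o x hoF hx ox
    have := uniq3 o x c y ox oc xc oy rxy
    exact (memF.mp hy).2 (this ▸ uc)
  have n12 := nn o₁ o₂ hF1 hF2 ho1 ho2 h12
  have n13 := nn o₁ o₃ hF1 hF3 ho1 ho3 h13
  have n23 := nn o₂ o₃ hF2 hF3 ho2 ho3 h23
  -- partners of the trace of `o`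
  obtain ⟨b₁, ub1, a1b1, -⟩ := third u a₁ ua1
  obtain ⟨b₂, ub2, a2b2, -⟩ := third u a₂ ua2
  obtain ⟨b₃, ub3, a3b3, -⟩ := third u a₃ ua3
  have neF : ∀ {x z}, x ∈ F → R u z → x ≠ z := fun hx hz e => (memF.mp hx).2 (e ▸ hz)
  have a12 : a₁ ≠ a₂ := fun e =>
    h12 (uniq3 o a₁ o₁ o₂ oa1 ho1 (sy o1a1) ho2 (e ▸ sy o2a2))
  have a13 : a₁ ≠ a₃ := fun e =>
    h13 (uniq3 o a₁ o₁ o₃ oa1 ho1 (sy o1a1) ho3 (e ▸ sy o3a3))
  have a23 : a₂ ≠ a₃ := fun e =>
    h23 (uniq3 o a₂ o₂ o₃ oa2 ho2 (sy o2a2) ho3 (e ▸ sy o3a3))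
  -- `o` sees exactly one point of each line through `u`
  have onb : ∀ a b, R u a → R u b → R a b → R o a → ¬ R o b := fun a b ua ub ab oa =>
    notTwo a b u o ab (sy ua) (sy ub) (neF hoF ua) (neF hoF ub) hou oa
  have ob1 := onb a₁ b₁ ua1 ub1 a1b1 oa1
  have ob2 := onb a₂ b₂ ua2 ub2 a2b2 oa2
  have ob3 := onb a₃ b₃ ua3 ub3 a3b3 oa3
  have b12 : b₁ ≠ b₂ := fun e => a12 (uniq3 u b₁ a₁ a₂ ub1 ua1 (sy a1b1) ua2 (e ▸ sy a2b2))
  have b13 : b₁ ≠ b₃ := fun e => a13 (uniq3 u b₁ a₁ a₃ ub1 ua1 (sy a1b1) ua3 (e ▸ sy a3b3))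
  have b23 : b₂ ≠ b₃ := fun e => a23 (uniq3 u b₂ a₂ a₃ ub2 ua2 (sy a2b2) ua3 (e ▸ sy a3b3))
  have hNu : ∀ z, R u z → z = a₁ ∨ z = a₂ ∨ z = a₃ ∨ z = b₁ ∨ z = b₂ ∨ z = b₃ := by
    intro z hz
    have hne : ∀ a b, R o a → ¬ R o b → a ≠ b := fun a b h1 h2 e => h2 (e ▸ h1)
    have hsub : ({a₁, a₂, a₃, b₁, b₂, b₃} : Finset C) = Finset.univ.filter (R u) := by
      refine Finset.eq_of_subset_of_card_le (by
        simp [Finset.insert_subset_iff, ua1, ua2, ua3, ub1, ub2, ub3]) ?_
      rw [h.degree, Finset.card_insert_of_notMem, Finset.card_insert_of_notMem,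
        Finset.card_insert_of_notMem, Finset.card_insert_of_notMem, Finset.card_pair b23] <;>
        simp [a12, a13, a23, b12, b13, hne a₁ b₁ oa1 ob1, hne a₁ b₂ oa1 ob2, hne a₁ b₃ oa1 ob3,
          hne a₂ b₁ oa2 ob1, hne a₂ b₂ oa2 ob2, hne a₂ b₃ oa2 ob3, hne a₃ b₁ oa3 ob1,
          hne a₃ b₂ oa3 ob2, hne a₃ b₃ oa3 ob3]
    have : z ∈ ({a₁, a₂, a₃, b₁, b₂, b₃} : Finset C) := hsub ▸ by simpa using hz
    simpa using this
  -- two far neighbours of `o` have a second far common neighbour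
  have pair : ∀ (x y ax ay az bx bz_ bz : C), x ∈ F → y ∈ F → R o x → R o y → x ≠ y →
      R o ax → R x ax → R o ay → R y ay → ax ≠ ay → R u ax → R u ay → R u bx → R ax bx →
      R u bz_ → R ay bz_ → R u az → R u bz → R az bz → R o az → az ≠ ax → az ≠ ay →
      (∀ z, R u z → z = ax ∨ z = ay ∨ z = az ∨ z = bx ∨ z = bz_ ∨ z = bz) →
      ∃ r ∈ F, r ≠ o ∧ R x r ∧ R y r ∧ ∀ r' ∈ F, R x r' → R y r' → r' = o ∨ r' = r := by
    intro x y ax ay az bx bz_ bz hx hy ox oy hxy oax xax oay yay haa uax uay ubx axbx ubz_ aybz_ uaz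
      ubz azbz oaz zax zay hall
    have hxny := nn x y hx hy ox oy hxy
    -- `x` avoids `ay` and `az`, likewise `y`
    have key : ∀ w aw a' , w ∈ F → R o w → R w aw → R o aw → R u aw → R o a' → R u a' → a' ≠ aw →
        ¬ R w a' := by
      intro w aw a' hw ow waw oaw uaw oa' ua' hne' hwa'
      exact hne' (uniq3 o w a' aw ow oa' hwa' oaw waw)
    have nxy : ¬ R x ay := key x ax ay hx ox xax oax uax oay uay haa.symm
    have nyx : ¬ R y ax := key y ay ax hy oy yay oay uay oax uax haa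
    have nxz : ¬ R x az := key x ax az hx ox xax oax uax oaz uaz zax
    have nyz : ¬ R y az := key y ay az hy oy yay oay uay oaz uaz zay
    have one : ∀ w a b, w ∈ F → R u a → R u b → R a b → (R w a ↔ ¬ R w b) := by
      intro w a b hw ua ub ab
      obtain ⟨hwu, huw⟩ := memF.mp hw
      rcases h.line u a b w ua ub ab hwu (neF hw ua) (neF hw ub) with e | e | e
      · exact absurd (sy e.1) huw
      · exact iff_of_true e.2.1 e.2.2
      · exact iff_of_false e.2.1 (not_not.mpr e.2.2)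
    have hxz : R x bz := Classical.not_not.mp fun hn => nxz ((one x az bz hx uaz ubz azbz).mpr hn)
    have hyz : R y bz := Classical.not_not.mp fun hn => nyz ((one y az bz hy uaz ubz azbz).mpr hn)
    have hxx : ¬ R x bx := (one x ax bx hx uax ubx axbx).mp xax
    have hyy : ¬ R y bz_ := (one y ay bz_ hy uay ubz_ aybz_).mp yay
    have h3 := h.nonadj x y hxy hxny
    have hsplit : (Finset.univ.filter fun z => R x z ∧ R y z) =
        insert bz (insert o ((F.erase o).filter fun z => R x z ∧ R y z)) := by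
      ext z
      simp only [Finset.mem_filter, Finset.mem_univ, true_and, Finset.mem_insert, Finset.mem_erase, memF]
      constructor
      · intro hz
        by_cases hzo : z = o
        · exact Or.inr (Or.inl hzo)
        by_cases huz : R u z
        · rcases hall z huz with rfl | rfl | rfl | rfl | rfl | rfl
          · exact absurd hz.2 nyx
          · exact absurd hz.1 nxy
          · exact absurd hz.1 nxz
          · exact absurd hz.1 hxx
          · exact absurd hz.2 hyy
          · exact Or.inl rfl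
        · exact Or.inr (Or.inr ⟨⟨hzo, fun e => (memF.mp hx).2 (sy (e ▸ hz.1)), huz⟩, hz⟩)
      · rintro (rfl | rfl | hz)
        · exact ⟨hxz, hyz⟩
        · exact ⟨sy ox, sy oy⟩
        · exact hz.2
    rw [hsplit, Finset.card_insert_of_notMem, Finset.card_insert_of_notMem (by simp)] at h3
    · obtain ⟨r, hr⟩ := Finset.card_eq_one.mp (show ((F.erase o).filter fun z => R x z ∧ R y z).card = 1 by omega)
      have hr' : (r ≠ o ∧ r ∈ F) ∧ R x r ∧ R y r := by
        have := hr.ge (Finset.mem_singleton_self r)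
        simpa [and_assoc] using this
      refine ⟨r, hr'.1.2, hr'.1.1, hr'.2.1, hr'.2.2, fun r' hr'F h1 h2 => ?_⟩
      by_cases e : r' = o
      · exact Or.inl e
      · have : r' ∈ ({r} : Finset C) := hr ▸ by simp [e, hr'F, h1, h2]
        exact Or.inr (by simpa using this)
    · simp only [Finset.mem_insert, Finset.mem_filter, Finset.mem_erase, memF, not_or]
      exact ⟨fun e => huo (e ▸ ubz), fun e => e.1.2.2 ubz⟩
  obtain ⟨r₁₂, r12F, r12o, e1, e2, hr12⟩ := pair o₁ o₂ a₁ a₂ a₃ b₁ b₂ b₃ hF1 hF2 ho1 ho2 h12 oa1 o1a1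
    oa2 o2a2 a12 ua1 ua2 ub1 a1b1 ub2 a2b2 ua3 ub3 a3b3 oa3 a13.symm a23.symm
    (fun z hz => by rcases hNu z hz with e | e | e | e | e | e <;> simp [e])
  obtain ⟨r₁₃, r13F, r13o, e3, e4, hr13⟩ := pair o₁ o₃ a₁ a₃ a₂ b₁ b₃ b₂ hF1 hF3 ho1 ho3 h13 oa1 o1a1
    oa3 o3a3 a13 ua1 ua3 ub1 a1b1 ub3 a3b3 ua2 ub2 a2b2 oa2 a12.symm a23
    (fun z hz => by rcases hNu z hz with e | e | e | e | e | e <;> simp [e])
  obtain ⟨r₂₃, r23F, r23o, e5, e6, hr23⟩ := pair o₂ o₃ a₂ a₃ a₁ b₂ b₃ b₁ hF2 hF3 ho2 ho3 h23 oa2 o2a2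
    oa3 o3a3 a23 ua2 ua3 ub2 a2b2 ub3 a3b3 ua1 ub1 a1b1 oa1 a12 a13
    (fun z hz => by rcases hNu z hz with e | e | e | e | e | e <;> simp [e])
  have oid : ∀ r ∈ F, r ≠ o → ∀ x, x ∈ F → R o x → R x r → ¬ R o r := by
    intro r hr hro x hx ox xr or'
    exact nn x r hx hr ox or' (ne xr) xr
  have no12 := oid r₁₂ r12F r12o o₁ hF1 ho1 e1
  have no13 := oid r₁₃ r13F r13o o₁ hF1 ho1 e3
  have no23 := oid r₂₃ r23F r23o o₂ hF2 ho2 e5
  -- nothing sees all three
  have notall : ∀ r ∈ F, r ≠ o → R o₁ r → R o₂ r → R o₃ r → False := by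
    intro r hr hro g1 g2 g3
    have hro' := oid r hr hro o₁ hF1 ho1 g1
    have hx : ∀ x, x ∈ F → R o x → R x r → ∃ s ∈ F, R x s ∧ s ≠ o ∧ s ≠ r ∧ ¬ R o s := by
      intro x hx ox xr
      obtain ⟨s, hs, hs'⟩ := Finset.exists_mem_notMem_of_card_lt_card (s := ({o, r} : Finset C))
        (t := F.filter (R x)) (by rw [hdeg x hx, Finset.card_pair hro.symm]; norm_num)
      simp only [Finset.mem_filter, Finset.mem_insert, Finset.mem_singleton, not_or] at hs hs'
      exact ⟨s, hs.1, hs.2, hs'.1, hs'.2, oid s hs.1 hs'.1 x hx ox hs.2⟩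
    obtain ⟨s₁, s1F, g4, s1o, s1r, os1⟩ := hx o₁ hF1 ho1 g1
    obtain ⟨s₂, s2F, g5, s2o, s2r, os2⟩ := hx o₂ hF2 ho2 g2
    obtain ⟨s₃, s3F, g6, s3o, s3r, os3⟩ := hx o₃ hF3 ho3 g3
    have s12 : ¬ R o₂ s₁ := fun e => s1r ((hr12 s₁ s1F g4 e).resolve_left s1o |>.trans
      ((hr12 r hr g1 g2).resolve_left hro).symm)
    have s13 : ¬ R o₃ s₁ := fun e => s1r ((hr13 s₁ s1F g4 e).resolve_left s1o |>.trans
      ((hr13 r hr g1 g3).resolve_left hro).symm)
    have s21 : ¬ R o₁ s₂ := fun e => s2r ((hr12 s₂ s2F e g5).resolve_left s2o |>.trans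
      ((hr12 r hr g1 g2).resolve_left hro).symm)
    have s23 : ¬ R o₃ s₂ := fun e => s2r ((hr23 s₂ s2F g5 e).resolve_left s2o |>.trans
      ((hr23 r hr g2 g3).resolve_left hro).symm)
    have s31 : ¬ R o₁ s₃ := fun e => s3r ((hr13 s₃ s3F e g6).resolve_left s3o |>.trans
      ((hr13 r hr g1 g3).resolve_left hro).symm)
    have d12 : s₁ ≠ s₂ := fun e => s21 (e ▸ g4)
    have d13 : s₁ ≠ s₃ := fun e => s31 (e ▸ g4)
    have d23 : s₂ ≠ s₃ := fun e => s23 (e ▸ g6)
    have hFeq : ({o, o₁, o₂, o₃, r, s₁, s₂, s₃} : Finset C) = F := by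
      refine Finset.eq_of_subset_of_card_le (by
        simp [Finset.insert_subset_iff, hoF, hF1, hF2, hF3, hr, s1F, s2F, s3F]) ?_
      rw [card_far h u]
      have hnd : [o, o₁, o₂, o₃, r, s₁, s₂, s₃].Nodup := by
        simp [h12, h13, h23, ne ho1, ne ho2, ne ho3, hro.symm, s1o.symm, s2o.symm, s3o.symm,
          s1r.symm, s2r.symm, s3r.symm, d12, d13, d23, ne g1, ne g2, ne g3, ne g4, ne g5, ne g6,
          show o₁ ≠ s₂ from fun e => os2 (e ▸ ho1), show o₁ ≠ s₃ from fun e => os3 (e ▸ ho1),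
          show o₂ ≠ s₁ from fun e => os1 (e ▸ ho2), show o₂ ≠ s₃ from fun e => os3 (e ▸ ho2),
          show o₃ ≠ s₁ from fun e => os1 (e ▸ ho3), show o₃ ≠ s₂ from fun e => os2 (e ▸ ho3)]
      refine le_of_eq ((List.toFinset_card_of_nodup hnd).symm.trans (congrArg Finset.card ?_))
      ext; simp
    -- the three outer vertices then form a triangle
    have hr3 : F.filter (R r) = {o₁, o₂, o₃} := by
      refine (Finset.eq_of_subset_of_card_le (by
        simp [Finset.insert_subset_iff, hF1, hF2, hF3, sy g1, sy g2, sy g3]) ?_).symm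
      rw [hdeg r hr, Finset.card_insert_of_notMem (by simp [h12, h13]), Finset.card_pair h23]
    have outer : ∀ s oi sj sk, s ∈ F → R oi s → s ≠ o → s ≠ r → ¬ R o s →
        ({o, o₁, o₂, o₃, r, s₁, s₂, s₃} : Finset C) = {o, r} ∪ {o₁, o₂, o₃} ∪ {s, sj, sk} →
        (∀ x ∈ ({o₁, o₂, o₃} : Finset C), R x s → x = oi) → R s sj ∧ R s sk := by
      intro s oi sj sk hs hoi' hso hsr hos hset honly
      have hsub : F.filter (R s) ⊆ {oi, sj, sk} := by
        intro z hz
        obtain ⟨hzF, hsz⟩ := Finset.mem_filter.mp hz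
        rw [← hFeq, hset] at hzF
        simp only [Finset.mem_union, Finset.mem_insert, Finset.mem_singleton] at hzF
        rcases hzF with (hz' | hz') | (hz' | hz' | hz')
        · rcases hz' with rfl | rfl
          · exact absurd (sy hsz) hos
          · have : s ∈ F.filter (R z) := Finset.mem_filter.mpr ⟨hs, sy hsz⟩
            rw [hr3] at this
            simp only [Finset.mem_insert, Finset.mem_singleton] at this
            rcases this with rfl | rfl | rfl
            · exact absurd ho1 hos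
            · exact absurd ho2 hos
            · exact absurd ho3 hos
        · have := honly z (by simp [hz']) (sy hsz)
          simp [this]
        · exact absurd (hz' ▸ hsz) (h.irrefl s)
        · simp [hz']
        · simp [hz']
      have heq := Finset.eq_of_subset_of_card_le hsub (by rw [hdeg s hs]; exact Finset.card_le_three)
      have m1 : sj ∈ F.filter (R s) := heq ▸ by simp
      have m2 : sk ∈ F.filter (R s) := heq ▸ by simp
      exact ⟨(Finset.mem_filter.mp m1).2, (Finset.mem_filter.mp m2).2⟩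
    obtain ⟨t12, t13⟩ := outer s₁ o₁ s₂ s₃ s1F g4 s1o s1r os1
      (by ext; simp; tauto) (by
        intro x hx hxs
        simp only [Finset.mem_insert, Finset.mem_singleton] at hx
        rcases hx with rfl | rfl | rfl
        · rfl
        · exact absurd hxs s12
        · exact absurd hxs s13)
    obtain ⟨-, t23⟩ := outer s₂ o₂ s₁ s₃ s2F g5 s2o s2r os2
      (by ext; simp; tauto) (by
        intro x hx hxs
        simp only [Finset.mem_insert, Finset.mem_singleton] at hx
        rcases hx with rfl | rfl | rfl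
        · exact absurd hxs s21
        · rfl
        · exact absurd hxs s23)
    obtain ⟨c, uc, c1, c2⟩ := edge s₁ s₂ s1F s2F t12
    exact (memF.mp s3F).2 (uniq3 s₁ s₂ c s₃ t12 c1 c2 t13 t23 ▸ uc)
  have d1213 : r₁₂ ≠ r₁₃ := fun e => notall r₁₂ r12F r12o e1 e2 (e ▸ e4)
  have d1223 : r₁₂ ≠ r₂₃ := fun e => notall r₁₂ r12F r12o e1 e2 (e ▸ e6)
  have d1323 : r₁₃ ≠ r₂₃ := fun e => notall r₁₃ r13F r13o e3 (e ▸ e5) e4
  obtain ⟨s, hsF, hs⟩ := Finset.exists_mem_notMem_of_card_lt_card
    (s := ({o, o₁, o₂, o₃, r₁₂, r₁₃, r₂₃} : Finset C)) (t := F)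
    (lt_of_le_of_lt ((Finset.card_insert_le _ _).trans (Nat.add_le_add_right
      ((Finset.card_insert_le _ _).trans (Nat.add_le_add_right ((Finset.card_insert_le _ _).trans
        (Nat.add_le_add_right ((Finset.card_insert_le _ _).trans (Nat.add_le_add_right
          Finset.card_le_three 1)) 1)) 1)) 1)) (by rw [card_far h u]; norm_num))
  simp only [Finset.mem_insert, Finset.mem_singleton, not_or] at hs
  obtain ⟨so, so1, so2, so3, s12', s13', s23'⟩ := hs
  have nd : [o, o₁, o₂, o₃, r₁₂, r₁₃, r₂₃, s].Nodup := by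
    simp [h12, h13, h23, ne ho1, ne ho2, ne ho3, r12o.symm, r13o.symm, r23o.symm, d1213, d1223, d1323,
      Ne.symm so, Ne.symm so1, Ne.symm so2, Ne.symm so3, Ne.symm s12', Ne.symm s13', Ne.symm s23',
      ne e1, ne e2, ne e3, ne e4, ne e5, ne e6,
      show o₁ ≠ r₂₃ from fun e => no23 (e ▸ ho1), show o₂ ≠ r₁₃ from fun e => no13 (e ▸ ho2),
      show o₃ ≠ r₁₂ from fun e => no12 (e ▸ ho3)]
  have hFeq : F = {o, o₁, o₂, o₃, r₁₂, r₁₃, r₂₃, s} := by
    refine (Finset.eq_of_subset_of_card_le (by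
      simp [Finset.insert_subset_iff, hoF, hF1, hF2, hF3, r12F, r13F, r23F, hsF]) ?_).symm
    rw [card_far h u]
    refine le_of_eq ((List.toFinset_card_of_nodup nd).symm.trans (congrArg Finset.card ?_))
    ext; simp
  have full : ∀ x p q r, x ∈ F → R x p → R x q → R x r → p ∈ F → q ∈ F → r ∈ F → p ≠ q → p ≠ r →
      q ≠ r → F.filter (R x) = {p, q, r} := by
    intro x p q r hx xp xq xr hp hq hr pq pr qr
    refine (Finset.eq_of_subset_of_card_le (by simp [Finset.insert_subset_iff, hp, hq, hr, xp, xq, xr]) ?_).symm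
    rw [hdeg x hx, Finset.card_insert_of_notMem (by simp [pq, pr]), Finset.card_pair qr]
  have f1 := full o₁ o r₁₂ r₁₃ hF1 (sy ho1) e1 e3 hoF r12F r13F r12o.symm r13o.symm d1213
  have f2 := full o₂ o r₁₂ r₂₃ hF2 (sy ho2) e2 e5 hoF r12F r23F r12o.symm r23o.symm d1223
  have f3 := full o₃ o r₁₃ r₂₃ hF3 (sy ho3) e4 e6 hoF r13F r23F r13o.symm r23o.symm d1323
  have nadj : ∀ x y p q t, F.filter (R x) = {p, q, t} → y ∈ F → y ≠ p → y ≠ q → y ≠ t → ¬ R x y := by
    intro x y p q t hx hy h1 h2 h3 hxy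
    have : y ∈ F.filter (R x) := Finset.mem_filter.mpr ⟨hy, hxy⟩
    rw [hx] at this
    simp [h1, h2, h3] at this
  have ns1 : ¬ R s o₁ := fun e => nadj o₁ s _ _ _ f1 hsF so s12' s13' (sy e)
  have ns2 : ¬ R s o₂ := fun e => nadj o₂ s _ _ _ f2 hsF so s12' s23' (sy e)
  have ns3 : ¬ R s o₃ := fun e => nadj o₃ s _ _ _ f3 hsF so s13' s23' (sy e)
  have nso : ¬ R s o := fun e => by
    have : s ∈ F.filter (R o) := Finset.mem_filter.mpr ⟨hsF, sy e⟩
    rw [hN] at this
    simp [so1, so2, so3] at this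
  have fs : F.filter (R s) = {r₁₂, r₁₃, r₂₃} := by
    refine Finset.eq_of_subset_of_card_le (fun z hz => ?_) ?_
    · obtain ⟨hzF, hsz⟩ := Finset.mem_filter.mp hz
      rw [hFeq] at hzF
      simp only [Finset.mem_insert, Finset.mem_singleton] at hzF ⊢
      rcases hzF with rfl | rfl | rfl | rfl | e | e | e | rfl
      · exact absurd hsz nso
      · exact absurd hsz ns1
      · exact absurd hsz ns2
      · exact absurd hsz ns3
      · exact Or.inl e
      · exact Or.inr (Or.inl e)
      · exact Or.inr (Or.inr e)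
      · exact absurd hsz (h.irrefl _)
    · rw [hdeg s hsF]; exact Finset.card_le_three
  have sr : ∀ r ∈ ({r₁₂, r₁₃, r₂₃} : Finset C), R s r := fun r hr => by
    rw [← fs] at hr; exact (Finset.mem_filter.mp hr).2
  have g12 := full r₁₂ o₁ o₂ s r12F (sy e1) (sy e2) (sy (sr _ (by simp))) hF1 hF2 hsF h12 (Ne.symm so1)
    (Ne.symm so2)
  have g13 := full r₁₃ o₁ o₃ s r13F (sy e3) (sy e4) (sy (sr _ (by simp))) hF1 hF3 hsF h13 (Ne.symm so1)
    (Ne.symm so3)
  refine ⟨o₁, o₂, o₃, r₁₂, r₁₃, r₂₃, s, hFeq, nd, ho1, ho2, ho3, sy e1, sy e2, sy e3, sy e4, sy e5,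
    sy e6, sr _ (by simp), sr _ (by simp), sr _ (by simp), no12, no13, no23,
    nadj _ _ _ _ _ g12 r13F (ne e3).symm (fun e => no13 (e ▸ ho2)) (Ne.symm s13'),
    nadj _ _ _ _ _ g12 r23F (fun e => no23 (e ▸ ho1)) (ne e5).symm (Ne.symm s23'),
    nadj _ _ _ _ _ g13 r23F (fun e => no23 (e ▸ ho1)) (ne e6).symm (Ne.symm s23'),
    n12, n13, n23, ns1, ns2, ns3⟩

/-- Every vertex lies in exactly two cocliques of size five. -/
theorem card_cocliques (u : C) : (cocliques R u).card = 2 := by
  obtain ⟨o, ho⟩ : (Finset.univ.filter fun z => z ≠ u ∧ ¬ R u z).Nonempty := by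
    rw [← Finset.card_pos, card_far h u]; norm_num
  obtain ⟨hou, huo⟩ := (Finset.mem_filter.mp ho).2
  obtain ⟨o₁, o₂, o₃, p, q, r, s, hF, nd, a1, a2, a3, b1, b2, b3, b4, b5, b6, c1, c2, c3, n1, n2, n3,
    n4, n5, n6, m1, m2, m3, m4, m5, m6⟩ := exists_cube h u o hou huo
  have hmem : ∀ z, (z ≠ u ∧ ¬ R u z) ↔ z ∈ ({o, o₁, o₂, o₃, p, q, r, s} : Finset C) := fun z => by
    rw [← hF]; simp
  have sy : ∀ {a b}, R a b → R b a := fun {a b} => h.symm a b
  have ns : ∀ {a b}, ¬ R a b → ¬ R b a := fun {a b} hab e => hab (sy e)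
  have hfar : ∀ z ∈ ({o, o₁, o₂, o₃, p, q, r, s} : Finset C), z ≠ u ∧ ¬ R u z := fun z hz => (hmem z).mpr hz
  simp only [List.nodup_cons, List.mem_cons, List.not_mem_nil, or_false, not_or, List.nodup_nil,
    and_true] at nd
  have hA : ({u, o, p, q, r} : Finset C) ∈ cocliques R u := by
    simp only [cocliques, Finset.mem_filter, Finset.mem_powersetCard, Finset.subset_univ, true_and,
      Finset.mem_insert, true_or, Finset.mem_singleton]
    refine ⟨?_, ?_⟩
    · have := hfar o (by simp); have := hfar p (by simp); have := hfar q (by simp)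
      have := hfar r (by simp)
      rw [Finset.card_insert_of_notMem, Finset.card_insert_of_notMem, Finset.card_insert_of_notMem,
        Finset.card_pair] <;> simp_all [eq_comm]
    · rintro a (e | e | e | e | e) b (f | f | f | f | f) <;> subst e <;> subst f <;>
        first
        | exact h.irrefl _
        | exact (hfar _ (by simp)).2
        | exact ns (hfar _ (by simp)).2
        | assumption
        | exact ns (by assumption)
  have hB : ({u, s, o₁, o₂, o₃} : Finset C) ∈ cocliques R u := by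
    simp only [cocliques, Finset.mem_filter, Finset.mem_powersetCard, Finset.subset_univ, true_and,
      Finset.mem_insert, true_or, Finset.mem_singleton]
    refine ⟨?_, ?_⟩
    · have := hfar s (by simp); have := hfar o₁ (by simp); have := hfar o₂ (by simp)
      have := hfar o₃ (by simp)
      rw [Finset.card_insert_of_notMem, Finset.card_insert_of_notMem, Finset.card_insert_of_notMem,
        Finset.card_pair] <;> simp_all [eq_comm]
    · rintro a (e | e | e | e | e) b (f | f | f | f | f) <;> subst e <;> subst f <;>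
        first
        | exact h.irrefl _
        | exact (hfar _ (by simp)).2
        | exact ns (hfar _ (by simp)).2
        | assumption
        | exact ns (by assumption)
  have heq : cocliques R u = {{u, o, p, q, r}, {u, s, o₁, o₂, o₃}} := by
    refine Finset.Subset.antisymm (fun W hW => ?_) (by simp [Finset.insert_subset_iff, hA, hB])
    simp only [cocliques, Finset.mem_filter, Finset.mem_powersetCard, Finset.subset_univ, true_and] at hW
    obtain ⟨hW5, hu, hind⟩ := hW
    have hsub : ∀ z ∈ W, z = u ∨ z ∈ ({o, o₁, o₂, o₃, p, q, r, s} : Finset C) := fun z hz => by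
      by_cases e : z = u
      · exact Or.inl e
      · exact Or.inr ((hmem z).mp ⟨e, hind u hu z hz⟩)
    have no : ∀ a b, R a b → a ∈ W → b ∉ W := fun a b hab ha hb => hind a ha b hb hab
    simp only [Finset.mem_insert, Finset.mem_singleton]
    by_cases hoW : o ∈ W
    · left
      have := no o o₁ a1 hoW; have := no o o₂ a2 hoW; have := no o o₃ a3 hoW
      by_cases hsW : s ∈ W
      · exfalso
        have := no s p c1 hsW; have := no s q c2 hsW; have := no s r c3 hsW
        have : W ⊆ {u, o, s} := fun z hz => by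
          rcases hsub z hz with e | e
          · simp [e]
          · simp only [Finset.mem_insert, Finset.mem_singleton] at e ⊢
            rcases e with rfl | rfl | rfl | rfl | rfl | rfl | rfl | rfl <;> simp_all
        have := (Finset.card_le_card this).trans Finset.card_le_three
        omega
      · refine Finset.eq_of_subset_of_card_le (fun z hz => ?_) ?_
        · rcases hsub z hz with e | e
          · simp [e]
          · simp only [Finset.mem_insert, Finset.mem_singleton] at e ⊢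
            rcases e with rfl | rfl | rfl | rfl | rfl | rfl | rfl | rfl <;> simp_all
        · rw [hW5]
          simp only [cocliques, Finset.mem_filter, Finset.mem_powersetCard] at hA
          omega
    · by_cases hsW : s ∈ W
      · right
        have := no s p c1 hsW; have := no s q c2 hsW; have := no s r c3 hsW
        refine Finset.eq_of_subset_of_card_le (fun z hz => ?_) ?_
        · rcases hsub z hz with e | e
          · simp [e]
          · simp only [Finset.mem_insert, Finset.mem_singleton] at e ⊢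
            rcases e with rfl | rfl | rfl | rfl | rfl | rfl | rfl | rfl <;> simp_all
        · rw [hW5]
          simp only [cocliques, Finset.mem_filter, Finset.mem_powersetCard] at hB
          omega
      · exfalso
        -- the remaining six vertices form a hexagon
        have hsub6 : W ⊆ insert u (({o₁, p, o₂, r, o₃, q} : Finset C).filter (· ∈ W)) := fun z hz => by
          rcases hsub z hz with e | e
          · simp [e]
          · simp only [Finset.mem_insert, Finset.mem_singleton] at e ⊢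
            rcases e with rfl | rfl | rfl | rfl | rfl | rfl | rfl | rfl <;> simp_all
        have h3 : (({o₁, p, o₂, r, o₃, q} : Finset C).filter (· ∈ W)).card ≤ 3 := by
          have e1 := no p o₁ b1; have e2 := no p o₂ b2; have e3 := no q o₁ b3
          have e4 := no q o₃ b4; have e5 := no r o₂ b5; have e6 := no r o₃ b6
          have hone : ∀ a b, R a b → (({a, b} : Finset C).filter (· ∈ W)).card ≤ 1 := fun a b hab => by
            rw [Finset.card_le_one]
            simp only [Finset.mem_filter, Finset.mem_insert, Finset.mem_singleton]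
            rintro x ⟨rfl | rfl, hx⟩ y ⟨rfl | rfl, hy⟩
            · rfl
            · exact absurd hy (no _ _ hab hx)
            · exact absurd hy (no _ _ (sy hab) hx)
            · rfl
          have k1 := hone p o₁ b1
          have k2 := hone r o₂ b5
          have k3 := hone q o₃ b4
          have hu : ({o₁, p, o₂, r, o₃, q} : Finset C) = {p, o₁} ∪ ({r, o₂} ∪ {q, o₃}) := by
            ext x
            simp only [Finset.mem_insert, Finset.mem_singleton, Finset.mem_union, or_assoc]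
            constructor <;> intro e <;> rcases e with e | e | e | e | e | e <;> simp [e]
          rw [hu, Finset.filter_union, Finset.filter_union]
          refine (Finset.card_union_le _ _).trans ?_
          have := Finset.card_union_le (({r, o₂} : Finset C).filter (· ∈ W)) (({q, o₃} : Finset C).filter (· ∈ W))
          omega
        have := (Finset.card_le_card hsub6).trans (Finset.card_insert_le _ _)
        omega
  rw [heq, Finset.card_pair]
  intro e
  have : o ∈ ({u, s, o₁, o₂, o₃} : Finset C) := e ▸ by simp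
  simp only [Finset.mem_insert, Finset.mem_singleton] at this
  tauto

end CfsgLib.Steiner.GQTwoTwo
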