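import Mathlib
import Cfsg.Prelude.Def_Sporadic_a
import Cfsg.Agent.Lib.Steiner.GraphTwentyTwo
import Cfsg.Agent.Lib.Steiner.Iso
import Cfsg.Agent.Lib.Steiner.WittUnique
import Cfsg.Agent.Lib.Steiner.GQTwoTwo

/-!
A strongly regular graph (77, 16, 0, 4) is the block graph of an S(3,6,22).

The rows of `22·1 + 2·J − 11·A` have inner products `88` times that matrix; this determines everything.
-/

set_option autoImplicit false
set_option maxHeartbeats 400000

namespace CfsgLib.Steiner.SRGSeventySeven

universe u

variable {V : Type u} [Fintype V] [DecidableEq V] (G : SimpleGraph V) [DecidableRel G.Adj]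

/-- A multiple of the projection to the least eigenspace. -/
def ker (x y : V) : ℤ := (if x = y then 22 else 0) + 2 - (if G.Adj x y then 11 else 0)

/-- Neighbours of `u` among those of the base vertex. -/
def sup (v u : V) : Finset V := Finset.univ.filter fun p => G.Adj v p ∧ G.Adj u p

/-- The vertices at distance two from the base vertex. -/
def far (v : V) : Finset V := Finset.univ.filter fun z => z ≠ v ∧ ¬ G.Adj v z

/-- The vector attached to a far vertex. -/
def vec (v u z : V) : ℤ := 2 * ker G u z + ∑ p ∈ sup G v u, ker G p z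

/-- The relation between far vertices: 0 parallel, 1, 2. -/
def phi (v u w : V) : ℤ :=
  if u = w then 0 else 2 * (if G.Adj u w then 1 else 0) + ((sup G v u ∩ sup G v w).card : ℤ)

variable {G} (hG : G.IsSRGWith 77 16 0 4) (v : V)

include hG

theorem card_common {x y : V} (hne : x ≠ y) :
    ((Finset.univ.filter fun z => G.Adj x z ∧ G.Adj y z).card : ℤ) = if G.Adj x y then 0 else 4 := by
  have hs : (Finset.univ.filter fun z => G.Adj x z ∧ G.Adj y z).card =
      Fintype.card (G.commonNeighbors x y) := by
    rw [← Set.toFinset_card]; congr 1; ext z; simp [SimpleGraph.mem_commonNeighbors]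
  rw [hs]
  split_ifs with h
  · rw [hG.of_adj x y h]; rfl
  · rw [hG.of_not_adj hne h]; rfl

theorem card_nbr (x : V) : (Finset.univ.filter fun z => G.Adj x z).card = 16 := by
  rw [← SimpleGraph.neighborFinset_eq_filter]
  exact hG.regular x

theorem sum_ker (x : V) : ∑ z, ker G x z = 0 := by
  simp only [ker, Finset.sum_sub_distrib, Finset.sum_add_distrib, Finset.sum_ite_eq, Finset.mem_univ,
    if_true, Finset.sum_const, Finset.card_univ, hG.card]
  rw [← Finset.sum_filter, Finset.sum_const, card_nbr hG]
  norm_num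

theorem ker_mul (x y : V) : ∑ z, ker G x z * ker G y z = 88 * ker G x y := by
  have e : ∀ z, ker G x z * ker G y z =
      (if x = z then 22 * ker G y z else 0) + 2 * ker G y z -
        11 * ((if G.Adj x z then (2 : ℤ) else 0) + (if y = z then (if G.Adj x z then 22 else 0) else 0)
          - (if G.Adj x z ∧ G.Adj y z then 11 else 0)) := by
    intro z
    simp only [ker]
    by_cases h1 : x = z <;> by_cases h2 : y = z <;> by_cases h3 : G.Adj x z <;> by_cases h4 : G.Adj y z <;>
      simp [h1, h2, h3, h4]
  simp only [e, Finset.sum_sub_distrib, Finset.sum_add_distrib, ← Finset.mul_sum, sum_ker hG,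
    Finset.sum_ite_eq, Finset.mem_univ, if_true]
  rw [← Finset.sum_filter, ← Finset.sum_filter, Finset.sum_const, Finset.sum_const, card_nbr hG]
  by_cases hxy : x = y
  · subst hxy
    simp [ker, card_nbr hG]
  · have h := card_common hG hxy
    simp only [ker, if_neg (Ne.symm hxy), if_neg hxy, G.adj_comm y x]
    simp only [nsmul_eq_mul, h]
    by_cases ha : G.Adj x y <;> simp [ha]

theorem no_common {x y z : V} (h : G.Adj x y) (h1 : G.Adj x z) (h2 : G.Adj y z) : False := by
  have h0 := hG.of_adj x y h
  rw [Fintype.card_eq_zero_iff] at h0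
  exact h0.elim ⟨z, h1, h2⟩

omit hG in
theorem mem_sup {u p : V} : p ∈ sup G v u ↔ G.Adj v p ∧ G.Adj u p := by simp [sup]

omit hG in
theorem mem_far {u : V} : u ∈ far G v ↔ u ≠ v ∧ ¬ G.Adj v u := by simp [far]

theorem card_sup {u : V} (hu : u ∈ far G v) : (sup G v u).card = 4 := by
  obtain ⟨h1, h2⟩ := (mem_far v).mp hu
  have := card_common hG h1.symm
  rw [if_neg h2] at this
  exact_mod_cast this

theorem card_far : (far G v).card = 60 := by
  have h1 : far G v = Finset.univ \ insert v (Finset.univ.filter (G.Adj v)) := by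
    ext m; simp [far, not_or]
  rw [h1, Finset.card_sdiff_of_subset (Finset.subset_univ _), Finset.card_univ, hG.card,
    Finset.card_insert_of_notMem (by simp), card_nbr hG]

theorem vec_base {u : V} (hu : u ∈ far G v) : vec G v u v = -32 := by
  obtain ⟨h1, h2⟩ := (mem_far v).mp hu
  have : ∀ p ∈ sup G v u, ker G p v = -9 := fun p hp => by
    have hp' := ((mem_sup v).mp hp).1
    simp [ker, hp'.symm, hp'.symm.ne]
  rw [vec, Finset.sum_congr rfl this, Finset.sum_const, card_sup hG v hu]
  have h3 : ¬ G.Adj u v := fun h => h2 h.symm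
  simp [ker, h1, h3]

theorem vec_nbr {u p : V} (hu : u ∈ far G v) (hp : G.Adj v p) : vec G v u p = 12 := by
  obtain ⟨h1, h2⟩ := (mem_far v).mp hu
  have hne : u ≠ p := fun e => h2 (e ▸ hp)
  have : ∀ q ∈ sup G v u, ker G q p = (if p = q then 22 else 0) + 2 := fun q hq => by
    have hq' := ((mem_sup v).mp hq).1
    have hn : ¬ G.Adj q p := fun h => no_common hG hq' hp h
    simp [ker, hn, eq_comm]
  rw [vec, Finset.sum_congr rfl this, Finset.sum_add_distrib, Finset.sum_const, card_sup hG v hu,
    Finset.sum_ite_eq]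
  by_cases h : G.Adj u p <;> simp [ker, hne, h, mem_sup, hp]

theorem vec_far {u w : V} (hu : u ∈ far G v) (hw : w ∈ far G v) :
    vec G v u w = 12 - 11 * phi G v u w := by
  obtain ⟨h1, h2⟩ := (mem_far v).mp hw
  have : ∀ q ∈ sup G v u, ker G q w = 2 - (if G.Adj w q then 11 else 0) := fun q hq => by
    have hne : q ≠ w := fun e => h2 (e ▸ ((mem_sup v).mp hq).1)
    simp [ker, hne, G.adj_comm q w]
  rw [vec, Finset.sum_congr rfl this, Finset.sum_sub_distrib, Finset.sum_const, card_sup hG v hu,
    ← Finset.sum_filter, Finset.sum_const]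
  have hfil : (sup G v u).filter (fun q => G.Adj w q) = sup G v u ∩ sup G v w := by
    ext q; simp [mem_sup]; tauto
  rw [hfil, phi]
  by_cases e : u = w
  · subst e; simp [ker, card_sup hG v hu]
  · rw [if_neg e]
    by_cases ha : G.Adj u w <;> simp [ker, e, ha] <;> ring

theorem vec_mul_ker (u z : V) : ∑ y, vec G v u y * ker G z y = 88 * vec G v u z := by
  simp only [vec, add_mul, Finset.sum_add_distrib, mul_assoc, ← Finset.mul_sum, ker_mul hG,
    Finset.sum_mul]
  rw [Finset.sum_comm]
  simp only [ker_mul hG, ← Finset.mul_sum]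
  ring

theorem vec_mul_vec {u w : V} (hu : u ∈ far G v) (hw : w ∈ far G v) :
    ∑ y, vec G v u y * vec G v w y = 88 * (72 - 22 * phi G v u w) := by
  have h1 : ∀ y, vec G v u y * vec G v w y =
      2 * (vec G v u y * ker G w y) + ∑ p ∈ sup G v w, vec G v u y * ker G p y := fun y => by
    simp only [← Finset.mul_sum]; simp only [vec]; ring
  simp only [h1]
  rw [Finset.sum_add_distrib, ← Finset.mul_sum, vec_mul_ker hG, Finset.sum_comm]
  simp only [vec_mul_ker hG, vec_far hG v hu hw]
  rw [Finset.sum_congr rfl fun p hp => by rw [vec_nbr hG v hu ((mem_sup v).mp hp).1], Finset.sum_const,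
    card_sup hG v hw]
  simp; ring

/-- A sum over all vertices, split at the base vertex. -/
theorem sum_split (f : V → ℤ) :
    ∑ z, f z = f v + ∑ z ∈ Finset.univ.filter (G.Adj v), f z + ∑ z ∈ far G v, f z := by
  have hu : (Finset.univ : Finset V) = insert v (Finset.univ.filter (G.Adj v) ∪ far G v) := by
    ext z; simp [far]; tauto
  conv_lhs => rw [hu]
  rw [Finset.sum_insert (by simp [far]), Finset.sum_union, add_assoc]
  rw [Finset.disjoint_left]; intro z hz hz'
  simp [far] at hz hz'
  exact hz'.2 hz

theorem sum_phi {u : V} (hu : u ∈ far G v) : ∑ z ∈ far G v, phi G v u z = 80 := by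
  have h : ∑ z, vec G v u z = 0 := by
    simp only [vec, Finset.sum_add_distrib, ← Finset.mul_sum, sum_ker hG]
    rw [Finset.sum_comm]
    simp [sum_ker hG]
  rw [sum_split hG v, vec_base hG v hu, Finset.sum_congr rfl fun p hp => vec_nbr hG v hu (Finset.mem_filter.mp hp).2,
    Finset.sum_congr rfl fun z hz => vec_far hG v hu hz, Finset.sum_const, card_nbr hG,
    Finset.sum_sub_distrib, Finset.sum_const, card_far hG v, ← Finset.mul_sum] at h
  simp at h
  omega

theorem sum_phi_mul {u w : V} (hu : u ∈ far G v) (hw : w ∈ far G v) :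
    ∑ z ∈ far G v, phi G v u z * phi G v w z = 128 - 16 * phi G v u w := by
  have h := vec_mul_vec hG v hu hw
  rw [sum_split hG v, vec_base hG v hu, vec_base hG v hw, Finset.sum_congr (g := fun _ => (144 : ℤ)) rfl fun p hp => by
      rw [vec_nbr hG v hu (Finset.mem_filter.mp hp).2, vec_nbr hG v hw (Finset.mem_filter.mp hp).2]; rfl,
    Finset.sum_congr (s₁ := far G v) (g := fun z => (12 - 11 * phi G v u z) * (12 - 11 * phi G v w z)) rfl fun z hz => by
      rw [vec_far hG v hu hz, vec_far hG v hw hz], Finset.sum_const,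
    card_nbr hG] at h
  have e : ∀ z, (12 - 11 * phi G v u z) * (12 - 11 * phi G v w z) =
      144 - 132 * phi G v u z - 132 * phi G v w z + 121 * (phi G v u z * phi G v w z) := fun z => by ring
  simp only [e, Finset.sum_add_distrib, Finset.sum_sub_distrib, ← Finset.mul_sum, sum_phi hG v hu,
    sum_phi hG v hw, Finset.sum_const, card_far hG v] at h
  simp at h
  omega

omit hG in
theorem phi_comm (u w : V) : phi G v u w = phi G v w u := by
  simp only [phi, G.adj_comm u w, Finset.inter_comm (sup G v u), eq_comm (a := u) (b := w)]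

omit hG in
theorem phi_nonneg (u w : V) : 0 ≤ phi G v u w := by
  simp only [phi]; split_ifs <;> positivity

theorem phi_le_two {u w : V} (hu : u ∈ far G v) (hw : w ∈ far G v) : phi G v u w ≤ 2 := by
  have hvv : ker G v v = 24 := by simp [ker]
  have hnn : 0 ≤ ∑ y, (2 * ker G v y + vec G v u y + vec G v w y) ^ 2 :=
    Finset.sum_nonneg fun y _ => sq_nonneg _
  have e : ∀ y, (2 * ker G v y + vec G v u y + vec G v w y) ^ 2 =
      4 * (ker G v y * ker G v y) + 4 * (vec G v u y * ker G v y) + 4 * (vec G v w y * ker G v y) +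
        vec G v u y * vec G v u y + vec G v w y * vec G v w y + 2 * (vec G v u y * vec G v w y) :=
    fun y => by ring
  simp only [e, Finset.sum_add_distrib, ← Finset.mul_sum, ker_mul hG, vec_mul_ker hG,
    vec_mul_vec hG v hu hu, vec_mul_vec hG v hw hw, vec_mul_vec hG v hu hw, vec_base hG v hu,
    vec_base hG v hw, hvv] at hnn
  rw [show phi G v u u = 0 by simp [phi], show phi G v w w = 0 by simp [phi]] at hnn
  omega

theorem vec_eq {u w : V} (hu : u ∈ far G v) (hw : w ∈ far G v) (h : phi G v u w = 0) :
    vec G v u = vec G v w := by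
  have h0 : ∑ y, (vec G v u y - vec G v w y) ^ 2 = 0 := by
    have e : ∀ y, (vec G v u y - vec G v w y) ^ 2 =
        vec G v u y * vec G v u y + vec G v w y * vec G v w y - 2 * (vec G v u y * vec G v w y) :=
      fun y => by ring
    simp only [e, Finset.sum_add_distrib, Finset.sum_sub_distrib, ← Finset.mul_sum,
      vec_mul_vec hG v hu hu, vec_mul_vec hG v hw hw, vec_mul_vec hG v hu hw, h]
    simp [phi]
  funext y
  have := (Finset.sum_eq_zero_iff_of_nonneg fun y _ => sq_nonneg _).mp h0 y (Finset.mem_univ _)
  exact sub_eq_zero.mp (pow_eq_zero_iff two_ne_zero |>.mp this)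

theorem phi_eq_zero_iff {u w : V} (hu : u ∈ far G v) (hw : w ∈ far G v) :
    phi G v u w = 0 ↔ vec G v u = vec G v w := by
  refine ⟨vec_eq hG v hu hw, fun h => ?_⟩
  have h1 := congrFun h w
  rw [vec_far hG v hu hw, vec_far hG v hw hw, show phi G v w w = 0 by simp [phi]] at h1
  omega

theorem phi_congr {u u' z : V} (hu : u ∈ far G v) (hu' : u' ∈ far G v) (hz : z ∈ far G v)
    (h : vec G v u = vec G v u') : phi G v u z = phi G v u' z := by
  have h1 := congrFun h z
  rw [vec_far hG v hu hz, vec_far hG v hu' hz] at h1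
  omega

theorem card_class {u : V} (hu : u ∈ far G v) :
    ((far G v).filter fun z => phi G v u z = 0).card = 4 := by
  have h1 := sum_phi hG v hu
  have h2 := sum_phi_mul hG v hu hu
  rw [show phi G v u u = 0 by simp [phi]] at h2
  have h0 : ∑ z ∈ far G v, (phi G v u z - 1) * (phi G v u z - 2) = 8 := by
    have e : ∀ z, (phi G v u z - 1) * (phi G v u z - 2) =
        phi G v u z * phi G v u z - 3 * phi G v u z + 2 := fun z => by ring
    simp only [e, Finset.sum_add_distrib, Finset.sum_sub_distrib, ← Finset.mul_sum, h1, h2,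
      Finset.sum_const, card_far hG v]
    norm_num
  have e : ∀ z ∈ far G v, (phi G v u z - 1) * (phi G v u z - 2) = if phi G v u z = 0 then 2 else 0 := by
    intro z hz
    have := phi_le_two hG v hu hz
    have := phi_nonneg (G := G) v u z
    rcases (show phi G v u z = 0 ∨ phi G v u z = 1 ∨ phi G v u z = 2 by omega) with h | h | h <;> simp [h]
  rw [Finset.sum_congr rfl e, ← Finset.sum_filter, Finset.sum_const] at h0
  simp at h0
  omega

theorem card_twos {u : V} (hu : u ∈ far G v) :
    ((far G v).filter fun z => phi G v u z = 2).card = 24 := by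
  have h1 := sum_phi hG v hu
  have h0 := card_class hG v hu
  have e : ∀ z ∈ far G v, phi G v u z =
      1 - (if phi G v u z = 0 then 1 else 0) + (if phi G v u z = 2 then 1 else 0) := by
    intro z hz
    have := phi_le_two hG v hu hz
    have := phi_nonneg (G := G) v u z
    rcases (show phi G v u z = 0 ∨ phi G v u z = 1 ∨ phi G v u z = 2 by omega) with h | h | h <;> simp [h]
  rw [Finset.sum_congr rfl e, Finset.sum_add_distrib, Finset.sum_sub_distrib, ← Finset.sum_filter,
    ← Finset.sum_filter, Finset.sum_const, Finset.sum_const, Finset.sum_const, h0, card_far hG v] at h1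
  simp at h1
  omega

theorem card_two_two {u w : V} (hu : u ∈ far G v) (hw : w ∈ far G v) (h : phi G v u w ≠ 0) :
    ((((far G v).filter fun z => phi G v u z = 2 ∧ phi G v w z = 2).card : ℕ) : ℤ) =
      20 - 8 * phi G v u w := by
  have h1 := sum_phi_mul hG v hu hw
  have e : ∀ z ∈ far G v, phi G v u z * phi G v w z = phi G v u z + phi G v w z - 1 +
      (if phi G v u z = 2 ∧ phi G v w z = 2 then 1 else 0) +
      (1 - phi G v u w) * ((if phi G v u z = 0 then 1 else 0) + (if phi G v w z = 0 then 1 else 0)) := by
    intro z hz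
    have := phi_le_two hG v hu hz
    have := phi_nonneg (G := G) v u z
    have := phi_le_two hG v hw hz
    have := phi_nonneg (G := G) v w z
    by_cases a0 : phi G v u z = 0
    · have hb : phi G v w z = phi G v u w := by
        rw [phi_comm, ← phi_congr hG v hu hz hw (vec_eq hG v hu hz a0)]
      simp [a0, hb, h]
    by_cases b0 : phi G v w z = 0
    · have ha : phi G v u z = phi G v u w := by
        rw [phi_comm (G := G) v u z, phi_comm (G := G) v u w,
          phi_congr hG v hw hz hu (vec_eq hG v hw hz b0)]
      simp [b0, ha, h]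
    rcases (show phi G v u z = 1 ∨ phi G v u z = 2 by omega) with p | p <;>
      rcases (show phi G v w z = 1 ∨ phi G v w z = 2 by omega) with q | q <;> simp [p, q]
  rw [Finset.sum_congr rfl e, Finset.sum_add_distrib, Finset.sum_add_distrib, ← Finset.mul_sum,
    Finset.sum_add_distrib (f := fun z => if phi G v u z = 0 then (1:ℤ) else 0),
    Finset.sum_sub_distrib, Finset.sum_add_distrib, sum_phi hG v hu, sum_phi hG v hw,
    ← Finset.sum_filter, ← Finset.sum_filter, ← Finset.sum_filter, Finset.sum_const, Finset.sum_const,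
    Finset.sum_const, Finset.sum_const, card_class hG v hu, card_class hG v hw, card_far hG v] at h1
  simp at h1
  omega

theorem phi_triangle {u w t z : V} (hu : u ∈ far G v) (hw : w ∈ far G v) (ht : t ∈ far G v)
    (hz : z ∈ far G v) (h1 : phi G v u w = 2) (h2 : phi G v u t = 2) (h3 : phi G v w t = 2) :
    phi G v u z + phi G v w z + phi G v t z = 4 := by
  have h0 : ∑ y, (4 * ker G v y + vec G v u y + vec G v w y + vec G v t y) ^ 2 = 0 := by
    have e : ∀ y, (4 * ker G v y + vec G v u y + vec G v w y + vec G v t y) ^ 2 =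
        16 * (ker G v y * ker G v y) + 8 * (vec G v u y * ker G v y) + 8 * (vec G v w y * ker G v y) +
          8 * (vec G v t y * ker G v y) + vec G v u y * vec G v u y + vec G v w y * vec G v w y +
          vec G v t y * vec G v t y + 2 * (vec G v u y * vec G v w y) + 2 * (vec G v u y * vec G v t y) +
          2 * (vec G v w y * vec G v t y) := fun y => by ring
    simp only [e, Finset.sum_add_distrib, ← Finset.mul_sum, ker_mul hG, vec_mul_ker hG,
      vec_mul_vec hG v hu hu, vec_mul_vec hG v hw hw, vec_mul_vec hG v ht ht, vec_mul_vec hG v hu hw,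
      vec_mul_vec hG v hu ht, vec_mul_vec hG v hw ht, vec_base hG v hu, vec_base hG v hw,
      vec_base hG v ht, h1, h2, h3]
    simp [phi, ker]
  have := pow_eq_zero_iff two_ne_zero |>.mp
    ((Finset.sum_eq_zero_iff_of_nonneg fun y _ => sq_nonneg _).mp h0 z (Finset.mem_univ _))
  obtain ⟨hzv, hvz⟩ := (mem_far v).mp hz
  rw [vec_far hG v hu hz, vec_far hG v hw hz, vec_far hG v ht hz,
    show ker G v z = 2 by simp [ker, hzv.symm, hvz]] at this
  omega

/-- Cocliques of twenty-one vertices through `v`. -/
noncomputable def pointsThrough : Finset (Finset V) :=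
  ((Finset.univ : Finset V).powersetCard 21).filter fun K => v ∈ K ∧ ∀ a ∈ K, ∀ b ∈ K, ¬ G.Adj a b

omit hG in
theorem mem_pointsThrough {K : Finset V} : K ∈ pointsThrough (G := G) v ↔
    K.card = 21 ∧ v ∈ K ∧ ∀ a ∈ K, ∀ b ∈ K, ¬ G.Adj a b := by
  simp [pointsThrough]

theorem phi_in_point {K : Finset V} (hK : K ∈ pointsThrough (G := G) v) {u : V} (hu : u ∈ K) (huv : u ≠ v) :
    ((K.erase v).filter fun z => phi G v u z = 0).card = 4 ∧ ∀ z ∈ K.erase v, phi G v u z ≠ 2 := by
  obtain ⟨hc, hv, hind⟩ := (mem_pointsThrough v).mp hK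
  have hM : ∀ z ∈ K.erase v, z ∈ far G v := fun z hz =>
    (mem_far v).mpr ⟨Finset.ne_of_mem_erase hz, hind v hv z (Finset.mem_of_mem_erase hz)⟩
  -- every outside vertex sees six members
  have hsix : ∀ z, z ∉ K → (K.filter fun a => G.Adj z a).card = 6 := by
    have hout : (Finset.univ \ K).card = 56 := by
      rw [Finset.card_sdiff_of_subset (Finset.subset_univ _), Finset.card_univ, hG.card, hc]
    let d : V → ℤ := fun z => ((K.filter fun a => G.Adj z a).card : ℤ)
    have hd : ∀ z ∈ K, d z = 0 := fun z hz => by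
      simp only [d, Nat.cast_eq_zero, Finset.card_eq_zero, Finset.filter_eq_empty_iff]
      exact fun {a} ha => hind z hz a ha
    have s1 : ∑ z, d z = 336 := by
      simp only [d, Finset.card_filter]
      push_cast
      rw [Finset.sum_comm]
      have : ∀ a ∈ K, (∑ z : V, if G.Adj z a then (1:ℤ) else 0) = 16 := fun a _ => by
        rw [Finset.sum_boole, Finset.filter_congr (fun z _ => G.adj_comm z a), card_nbr hG a]; rfl
      rw [Finset.sum_congr rfl this, Finset.sum_const, hc]; rfl
    have s2 : ∑ z, d z * d z = 2016 := by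
      simp only [d, Finset.card_filter]
      push_cast
      simp only [Finset.sum_mul_sum]
      rw [Finset.sum_comm]
      have : ∀ a ∈ K, (∑ z : V, ∑ b ∈ K, (if G.Adj z a then (1:ℤ) else 0) * if G.Adj z b then 1 else 0) = 96 := by
        intro a ha
        rw [Finset.sum_comm, ← Finset.add_sum_erase _ _ ha]
        have hdiag : (∑ z : V, (if G.Adj z a then (1:ℤ) else 0) * if G.Adj z a then 1 else 0) = 16 := by
          rw [Finset.sum_congr rfl fun z _ => show ((if G.Adj z a then (1:ℤ) else 0) * if G.Adj z a then 1 else 0) =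
            if G.Adj z a then 1 else 0 by split_ifs <;> rfl]
          rw [Finset.sum_boole, Finset.filter_congr (fun z _ => G.adj_comm z a), card_nbr hG a]; rfl
        have hoff : ∀ b ∈ K.erase a, (∑ z : V, (if G.Adj z a then (1:ℤ) else 0) * if G.Adj z b then 1 else 0) = 4 := by
          intro b hb
          rw [Finset.sum_congr rfl fun z _ => show ((if G.Adj z a then (1:ℤ) else 0) * if G.Adj z b then 1 else 0) =
            if G.Adj a z ∧ G.Adj b z then 1 else 0 by
              by_cases p : G.Adj z a <;> by_cases q : G.Adj z b <;> simp [G.adj_comm a z, G.adj_comm b z, p, q]]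
          rw [Finset.sum_boole]
          have := card_common hG (Finset.ne_of_mem_erase hb).symm
          rw [if_neg (hind a ha b (Finset.mem_of_mem_erase hb))] at this
          exact this
        rw [hdiag, Finset.sum_congr rfl hoff, Finset.sum_const, Finset.card_erase_of_mem ha, hc]
        rfl
      rw [Finset.sum_congr rfl this, Finset.sum_const, hc]; rfl
    have h0 : ∑ z ∈ Finset.univ \ K, (d z - 6) ^ 2 = 0 := by
      have t1 : ∑ z ∈ Finset.univ \ K, d z = 336 := by
        rw [← s1]; exact Finset.sum_subset (Finset.sdiff_subset) fun z _ hz => hd z (by simpa using hz)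
      have t2 : ∑ z ∈ Finset.univ \ K, d z * d z = 2016 := by
        rw [← s2]
        exact Finset.sum_subset (Finset.sdiff_subset) fun z _ hz => by rw [hd z (by simpa using hz), mul_zero]
      have e : ∀ z, (d z - 6) ^ 2 = d z * d z - 12 * d z + 36 := fun z => by ring
      simp only [e, Finset.sum_add_distrib, Finset.sum_sub_distrib, ← Finset.mul_sum, t1, t2,
        Finset.sum_const, hout]
      norm_num
    intro z hz
    have := pow_eq_zero_iff two_ne_zero |>.mp
      ((Finset.sum_eq_zero_iff_of_nonneg fun y _ => sq_nonneg _).mp h0 z (by simp [hz]))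
    simp only [d] at this
    omega
  -- sum of the meets with `u`
  have hu' : u ∈ K.erase v := Finset.mem_erase.mpr ⟨huv, hu⟩
  have hp5 : ∀ p ∈ sup G v u, ((K.erase v).filter fun a => G.Adj p a).card = 5 := by
    intro p hp
    have hvp := ((mem_sup v).mp hp).1
    rw [Finset.filter_erase, Finset.card_erase_of_mem (by simp [hv, hvp.symm]),
      hsix p fun hpK => hind v hv p hpK hvp]
  have hsum : ∑ z ∈ K.erase v, phi G v u z = 16 := by
    have e : ∀ z ∈ (K.erase v).erase u,
        phi G v u z = ∑ p ∈ sup G v u, if G.Adj p z then (1:ℤ) else 0 := by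
      intro z hz
      obtain ⟨hzu, hz⟩ := Finset.mem_erase.mp hz
      rw [phi, if_neg hzu.symm, if_neg (hind u hu z (Finset.mem_of_mem_erase hz)), Finset.sum_boole]
      simp only [mul_zero, zero_add, Nat.cast_inj]
      congr 1
      ext p; simp [mem_sup, G.adj_comm p z]; tauto
    rw [← Finset.add_sum_erase _ _ hu', show phi G v u u = 0 by simp [phi], zero_add,
      Finset.sum_congr rfl e, Finset.sum_comm]
    have : ∀ p ∈ sup G v u, (∑ z ∈ (K.erase v).erase u, if G.Adj p z then (1:ℤ) else 0) = 4 := by
      intro p hp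
      rw [Finset.sum_boole, Finset.filter_erase,
        Finset.card_erase_of_mem (Finset.mem_filter.mpr ⟨hu', ((mem_sup v).mp hp).2.symm⟩), hp5 p hp]
      rfl
    rw [Finset.sum_congr rfl this, Finset.sum_const, card_sup hG v (hM u hu')]
    rfl
  have hle : ((K.erase v).filter fun z => phi G v u z = 0).card ≤ 4 := by
    rw [← card_class hG v (hM u hu')]
    exact Finset.card_le_card fun z hz =>
      Finset.mem_filter.mpr ⟨hM z (Finset.mem_filter.mp hz).1, (Finset.mem_filter.mp hz).2⟩
  have e : ∀ z ∈ K.erase v, phi G v u z =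
      1 - (if phi G v u z = 0 then 1 else 0) + (if phi G v u z = 2 then 1 else 0) := by
    intro z hz
    have := phi_le_two hG v (hM u hu') (hM z hz)
    have := phi_nonneg (G := G) v u z
    rcases (show phi G v u z = 0 ∨ phi G v u z = 1 ∨ phi G v u z = 2 by omega) with h | h | h <;> simp [h]
  rw [Finset.sum_congr rfl e, Finset.sum_add_distrib, Finset.sum_sub_distrib, ← Finset.sum_filter,
    ← Finset.sum_filter, Finset.sum_const, Finset.sum_const, Finset.sum_const,
    Finset.card_erase_of_mem hv, hc] at hsum
  simp at hsum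
  refine ⟨by omega, fun z hz h2 => ?_⟩
  have : 0 < ((K.erase v).filter fun z => phi G v u z = 2).card :=
    Finset.card_pos.mpr ⟨z, Finset.mem_filter.mpr ⟨hz, h2⟩⟩
  omega

/-- A far vertex lies with `v` in exactly two points. -/
theorem card_two_points {u : V} (hu : u ∈ far G v) :
    ((pointsThrough (G := G) v).filter fun K => u ∈ K).card = 2 := by
  classical
  let M := {z // z ∈ far G v}
  letI st : Setoid M := Setoid.ker fun a : M => vec G v a.1
  let C := Quotient st
  haveI : Fintype C := Fintype.ofFinite C
  let q : M → C := fun a => Quotient.mk _ a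
  have hq : ∀ a b : M, q a = q b ↔ phi G v a.1 b.1 = 0 := fun a b => by
    rw [phi_eq_zero_iff hG v a.2 b.2]
    exact Quotient.eq
  let r : C → M := Quotient.out
  have hr : ∀ c, q (r c) = c := Quotient.out_eq
  let Φ : C → C → ℤ := fun c d => phi G v (r c).1 (r d).1
  have hΦ : ∀ a b : M, Φ (q a) (q b) = phi G v a.1 b.1 := by
    intro a b
    have ha := (hq _ _).mp (hr (q a))
    have hb := (hq _ _).mp (hr (q b))
    show phi G v (r (q a)).1 (r (q b)).1 = _
    rw [phi_congr hG v (r (q a)).2 a.2 (r (q b)).2 (vec_eq hG v (r (q a)).2 a.2 ha), phi_comm,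
      phi_congr hG v (r (q b)).2 b.2 a.2 (vec_eq hG v (r (q b)).2 b.2 hb), phi_comm]
  have hfib : ∀ c : C, ((Finset.univ : Finset M).filter fun a => q a = c).card = 4 := by
    intro c
    rw [← card_class hG v (r c).2, ← Finset.card_map (Function.Embedding.subtype _)]
    congr 1
    ext z
    simp only [Finset.mem_map, Finset.mem_filter, Finset.mem_univ, true_and, Function.Embedding.coe_subtype]
    constructor
    · rintro ⟨a, ha, rfl⟩
      exact ⟨a.2, (hq _ _).mp ((hr c).trans ha.symm)⟩
    · rintro ⟨hz, h⟩
      exact ⟨⟨z, hz⟩, ((hq _ _).mpr h).symm.trans (hr c), rfl⟩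
  have hlift : ∀ (P : C → Prop) (Q : V → Prop) [DecidablePred P] [DecidablePred Q],
      (∀ a : M, Q a.1 ↔ P (q a)) → ((far G v).filter Q).card = 4 * (Finset.univ.filter P).card := by
    intro P Q _ _ hPQ
    have h1 : ((far G v).filter Q).card = ((Finset.univ : Finset M).filter fun a => P (q a)).card := by
      rw [← Finset.card_map (Function.Embedding.subtype _)]
      congr 1
      ext z
      simp only [Finset.mem_map, Finset.mem_filter, Finset.mem_univ, true_and, Function.Embedding.coe_subtype]
      constructor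
      · rintro ⟨hz, h⟩; exact ⟨⟨z, hz⟩, (hPQ ⟨z, hz⟩).mp h, rfl⟩
      · rintro ⟨a, ha, rfl⟩; exact ⟨a.2, (hPQ a).mpr ha⟩
    rw [h1, Finset.card_eq_sum_card_fiberwise (f := q) (t := Finset.univ.filter P)
      (fun a ha => by simpa using (Finset.mem_filter.mp ha).2)]
    rw [Finset.sum_congr rfl fun c hc => ?_, Finset.sum_const, smul_eq_mul, mul_comm]
    rw [Finset.filter_filter, ← hfib c]
    congr 1
    ext a
    simp only [Finset.mem_filter, Finset.mem_univ, true_and]
    exact ⟨fun h => h.2, fun h => ⟨h ▸ (Finset.mem_filter.mp hc).2, h⟩⟩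
  have h15 : Fintype.card C = 15 := by
    have := hlift (fun _ => True) (fun _ => True) (fun _ => Iff.rfl)
    simp [card_far hG v] at this
    omega
  have hne : ∀ c d : C, c ≠ d → Φ c d ≠ 0 := fun c d hcd h => hcd (by rw [← hr c, ← hr d, (hq _ _).mpr h])
  have hax : GQTwoTwo.Axioms fun c d : C => Φ c d = 2 := by
    refine ⟨h15, fun a b h => by simpa only [Φ, phi_comm] using h, fun a h => by simp [Φ, phi] at h,
      fun a => ?_, fun a b h => ?_, fun a b hab h => ?_, fun a b c z h1 h2 h3 za zb zc => ?_⟩
    · have := hlift (fun d => Φ a d = 2) (fun z => phi G v (r a).1 z = 2)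
        (fun d => by rw [← hΦ (r a) d, hr])
      rw [card_twos hG v (r a).2] at this
      omega
    · have h' := hlift (fun d => Φ a d = 2 ∧ Φ b d = 2)
        (fun z => phi G v (r a).1 z = 2 ∧ phi G v (r b).1 z = 2)
        (fun d => by rw [← hΦ (r a) d, ← hΦ (r b) d, hr, hr])
      have e : phi G v (r a).1 (r b).1 = 2 := h
      have hz := card_two_two hG v (r a).2 (r b).2 (by omega)
      rw [h', e] at hz
      push_cast at hz
      omega
    · have h' := hlift (fun d => Φ a d = 2 ∧ Φ b d = 2)
        (fun z => phi G v (r a).1 z = 2 ∧ phi G v (r b).1 z = 2)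
        (fun d => by rw [← hΦ (r a) d, ← hΦ (r b) d, hr, hr])
      have e0 := hne a b hab
      have e1 := phi_le_two hG v (r a).2 (r b).2
      have e2 := phi_nonneg (G := G) v (r a).1 (r b).1
      have hz := card_two_two hG v (r a).2 (r b).2 e0
      rw [h'] at hz
      simp only [Φ] at h e0 hz ⊢
      push_cast at hz
      omega
    · have hsum := phi_triangle hG v (r a).2 (r b).2 (r c).2 (r z).2 h1 h2 h3
      have b1 := phi_le_two hG v (r z).2 (r a).2
      have b2 := phi_le_two hG v (r z).2 (r b).2
      have b3 := phi_le_two hG v (r z).2 (r c).2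
      have c1 := hne z a za
      have c2 := hne z b zb
      have c3 := hne z c zc
      have n1 := phi_nonneg (G := G) v (r z).1 (r a).1
      have n2 := phi_nonneg (G := G) v (r z).1 (r b).1
      have n3 := phi_nonneg (G := G) v (r z).1 (r c).1
      rw [phi_comm, phi_comm (G := G) v (r b).1, phi_comm (G := G) v (r c).1] at hsum
      simp only [Φ] at c1 c2 c3 ⊢
      omega
  rw [← GQTwoTwo.card_cocliques hax (q ⟨u, hu⟩)]
  let up : Finset C → Finset V := fun W =>
    insert v (((Finset.univ : Finset M).filter fun a => q a ∈ W).map (Function.Embedding.subtype _))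
  have hmem_up : ∀ (W : Finset C) (a : M), a.1 ∈ up W ↔ q a ∈ W := by
    intro W a
    have : a.1 ≠ v := ((mem_far v).mp a.2).1
    simp [up, this]
  symm
  refine Finset.card_bij (fun W _ => up W) (fun W hW => ?_) (fun W _ W' _ h => ?_) (fun K hK => ?_)
  · simp only [GQTwoTwo.cocliques, Finset.mem_filter, Finset.mem_powersetCard, Finset.subset_univ,
      true_and] at hW
    obtain ⟨hW5, huW, hWind⟩ := hW
    refine Finset.mem_filter.mpr ⟨(mem_pointsThrough v).mpr ⟨?_, Finset.mem_insert_self _ _, ?_⟩,
      (hmem_up W ⟨u, hu⟩).mpr huW⟩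
    · rw [Finset.card_insert_of_notMem, Finset.card_map]
      · have h20 : ((Finset.univ : Finset M).filter fun a => q a ∈ W).card = 20 := by
          rw [Finset.card_eq_sum_card_fiberwise (f := q) (t := W) fun a ha => by simpa using ha,
            Finset.sum_congr (g := fun _ => 4) rfl fun c hc => ?_, Finset.sum_const, hW5, smul_eq_mul]
          rw [Finset.filter_filter, ← hfib c]
          congr 1
          ext a; simp only [Finset.mem_filter, Finset.mem_univ, true_and]
          exact ⟨fun h => h.2, fun h => ⟨h ▸ hc, h⟩⟩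
        omega
      · intro hm
        obtain ⟨a, -, ha⟩ := Finset.mem_map.mp hm
        exact ((mem_far v).mp a.2).1 ha
    · intro a ha b hb hab
      simp only [up, Finset.mem_insert, Finset.mem_map, Finset.mem_filter, Finset.mem_univ, true_and,
        Function.Embedding.coe_subtype] at ha hb
      rcases ha with rfl | ⟨a, haW, rfl⟩ <;> rcases hb with rfl | ⟨b, hbW, rfl⟩
      · exact G.irrefl hab
      · exact ((mem_far a).mp b.2).2 hab
      · exact ((mem_far b).mp a.2).2 hab.symm
      · apply hWind _ haW _ hbW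
        show Φ (q a) (q b) = 2
        have hle := phi_le_two hG v a.2 b.2
        rw [hΦ]
        simp only [phi, if_neg hab.ne, if_pos hab] at hle ⊢
        omega
  · ext c
    rw [← hr c, ← hmem_up W (r c), ← hmem_up W' (r c)]
    exact Finset.ext_iff.mp h _
  · obtain ⟨hKm, huK⟩ := Finset.mem_filter.mp hK
    obtain ⟨hc, hvK, hind⟩ := (mem_pointsThrough v).mp hKm
    have hM : ∀ z ∈ K, z ≠ v → z ∈ far G v := fun z hz hzv =>
      (mem_far v).mpr ⟨hzv, hind v hvK z hz⟩
    -- a point contains whole classes
    have hclass : ∀ a b : M, a.1 ∈ K → q a = q b → b.1 ∈ K := by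
      intro a b ha hab
      have h4 := (phi_in_point hG v hKm ha ((mem_far v).mp a.2).1).1
      have hset : (K.erase v).filter (fun z => phi G v a.1 z = 0) =
          (far G v).filter fun z => phi G v a.1 z = 0 := by
        refine Finset.eq_of_subset_of_card_le (fun z hz => ?_) (by rw [h4, card_class hG v a.2])
        obtain ⟨hz, hz0⟩ := Finset.mem_filter.mp hz
        exact Finset.mem_filter.mpr ⟨hM z (Finset.mem_of_mem_erase hz) (Finset.ne_of_mem_erase hz), hz0⟩
      have : b.1 ∈ (far G v).filter fun z => phi G v a.1 z = 0 :=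
        Finset.mem_filter.mpr ⟨b.2, (hq a b).mp hab⟩
      rw [← hset] at this
      exact Finset.mem_of_mem_erase (Finset.mem_filter.mp this).1
    let W : Finset C := Finset.univ.filter fun c => (r c).1 ∈ K
    have hW : ∀ a : M, q a ∈ W ↔ a.1 ∈ K := fun a => by
      simp only [W, Finset.mem_filter, Finset.mem_univ, true_and]
      exact ⟨fun h => hclass _ a h (hr _), fun h => hclass a _ h (hr _).symm⟩
    have hup : up W = K := by
      ext z
      by_cases hzv : z = v
      · subst hzv; simp [up, hvK]
      by_cases hz : z ∈ far G v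
      · rw [show z = (⟨z, hz⟩ : M).1 from rfl, hmem_up, hW]
      · refine iff_of_false (fun h => ?_) fun h => hz (hM z h hzv)
        simp only [up, Finset.mem_insert, Finset.mem_map, Function.Embedding.coe_subtype] at h
        obtain h | ⟨a, -, rfl⟩ := h
        · exact hzv h
        · exact hz a.2
    refine ⟨W, ?_, hup⟩
    simp only [GQTwoTwo.cocliques, Finset.mem_filter, Finset.mem_powersetCard, Finset.subset_univ,
      true_and]
    refine ⟨?_, (hW ⟨u, hu⟩).mpr huK, fun a ha b hb h => ?_⟩
    · have h4 := hlift (· ∈ W) (· ∈ K) (fun a => (hW a).symm)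
      have : (far G v).filter (· ∈ K) = K.erase v := by
        ext z
        simp only [Finset.mem_filter, Finset.mem_erase]
        exact ⟨fun h => ⟨((mem_far v).mp h.1).1, h.2⟩, fun h => ⟨hM z h.2 h.1, h.2⟩⟩
      rw [this, Finset.card_erase_of_mem hvK, hc, Finset.filter_univ_mem] at h4
      omega
    · have ha' : (r a).1 ∈ K := (Finset.mem_filter.mp ha).2
      have hb' : (r b).1 ∈ K := (Finset.mem_filter.mp hb).2
      exact (phi_in_point hG v hKm ha' ((mem_far v).mp (r a).2).1).2 _
        (Finset.mem_erase.mpr ⟨((mem_far v).mp (r b).2).1, hb'⟩) h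

theorem card_pointsThrough : (pointsThrough (G := G) v).card = 6 := by
  have h1 : ∑ u ∈ far G v, ((pointsThrough (G := G) v).filter fun K => u ∈ K).card = 120 := by
    rw [Finset.sum_congr rfl fun u hu => card_two_points hG v hu, Finset.sum_const, card_far hG v]; rfl
  simp only [Finset.card_filter] at h1
  rw [Finset.sum_comm] at h1
  have h2 : ∀ K ∈ pointsThrough (G := G) v, (∑ u ∈ far G v, if u ∈ K then 1 else 0) = 20 := by
    intro K hK
    obtain ⟨hc, hv, hind⟩ := (mem_pointsThrough v).mp hK
    rw [← Finset.card_filter]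
    have : (far G v).filter (fun u => u ∈ K) = K.erase v := by
      ext z
      simp only [Finset.mem_filter, Finset.mem_erase, mem_far]
      exact ⟨fun h => ⟨h.1.1, h.2⟩, fun h => ⟨⟨h.1, hind v hv z h.2⟩, h.2⟩⟩
    rw [this, Finset.card_erase_of_mem hv, hc]
  rw [Finset.sum_congr rfl h2, Finset.sum_const, smul_eq_mul] at h1
  omega

omit v in
/-- The graph is the block graph of an S(3,6,22). -/
theorem exists_model :
    ∃ (α : Type u) (_ : Fintype α) (_ : DecidableEq α) (B : Set (Finset α)),
      Fintype.card α = 22 ∧ Cfsg.IsSteinerSystem 3 6 B ∧ Nonempty (Cfsg.blockGraph B ≃g G) := by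
  classical
  let P : Finset (Finset V) :=
    ((Finset.univ : Finset V).powersetCard 21).filter fun K => ∀ a ∈ K, ∀ b ∈ K, ¬ G.Adj a b
  have hfil : ∀ v, P.filter (fun K => v ∈ K) = pointsThrough (G := G) v := fun v => by
    ext K; simp [P, pointsThrough]; tauto
  have hP : P.card = 22 := by
    have h1 : ∑ v, (P.filter fun K => v ∈ K).card = 462 := by
      simp only [hfil, card_pointsThrough hG, Finset.sum_const, Finset.card_univ, hG.card]; rfl
    simp only [Finset.card_filter] at h1
    rw [Finset.sum_comm, Finset.sum_congr rfl (g := fun _ => 21) fun K hK => by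
      rw [← Finset.card_filter, Finset.filter_univ_mem]
      exact (Finset.mem_powersetCard.mp (Finset.mem_filter.mp hK).1).2] at h1
    simp at h1
    omega
  let α := {K // K ∈ P}
  have hα : Fintype.card α = 22 := by rw [Fintype.card_coe, hP]
  let bl : V → Finset α := fun v => Finset.univ.filter fun K => v ∈ K.1
  have hfilt : ∀ Q : Finset V → Prop, ∀ [DecidablePred Q],
      (Finset.univ.filter fun K : α => Q K.1).card = (P.filter Q).card := by
    intro Q _
    rw [← Finset.card_map (Function.Embedding.subtype _)]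
    congr 1
    ext K; simp [α]; tauto
  have hcard : ∀ v, (bl v).card = 6 := fun v => by
    rw [hfilt fun K => v ∈ K, hfil, card_pointsThrough hG]
  have hinter : ∀ x y, x ≠ y → (bl x ∩ bl y).card = if G.Adj x y then 0 else 2 := by
    intro x y hxy
    have hset : bl x ∩ bl y = Finset.univ.filter fun K : α => x ∈ K.1 ∧ y ∈ K.1 := by ext K; simp [bl]
    rw [hset, hfilt fun K => x ∈ K ∧ y ∈ K, ← Finset.filter_filter, hfil]
    split_ifs with h
    · rw [Finset.card_eq_zero, Finset.filter_eq_empty_iff]
      exact fun {K} hK hy => ((mem_pointsThrough x).mp hK).2.2 x ((mem_pointsThrough x).mp hK).2.1 y hy h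
    · exact card_two_points hG x ((mem_far x).mpr ⟨hxy.symm, h⟩)
  have hinj : Function.Injective bl := by
    intro x y h
    by_contra hne
    have := hinter x y hne
    rw [← h, Finset.inter_self, hcard] at this
    split at this <;> omega
  have hS : Cfsg.IsSteinerSystem 3 6 (Set.range bl) := by
    refine ⟨by rintro _ ⟨m, rfl⟩; exact hcard m, fun s hs => ?_⟩
    have huniq : ∀ m m', s ⊆ bl m → s ⊆ bl m' → m' = m := by
      intro m m' hm hm'
      by_contra hne
      have := Finset.card_le_card (Finset.subset_inter hm hm')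
      rw [hinter m m' (Ne.symm hne)] at this
      split at this <;> omega
    have hU : Finset.univ.biUnion (fun m => (bl m).powersetCard 3) =
        (Finset.univ : Finset α).powersetCard 3 := by
      refine Finset.eq_of_subset_of_card_le (fun t ht => ?_) ?_
      · obtain ⟨m, -, ht⟩ := Finset.mem_biUnion.mp ht
        exact Finset.mem_powersetCard.mpr ⟨Finset.subset_univ _, (Finset.mem_powersetCard.mp ht).2⟩
      · rw [Finset.card_powersetCard, Finset.card_univ, hα, Finset.card_biUnion]
        · simp only [Finset.card_powersetCard, hcard, Finset.sum_const, Finset.card_univ, hG.card]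
          decide
        · intro m _ m' _ hne
          simp only [Function.onFun, Finset.disjoint_left, Finset.mem_powersetCard]
          intro t ht ht'
          have := Finset.card_le_card (Finset.subset_inter ht.1 ht'.1)
          rw [hinter m m' hne, ht.2] at this
          split at this <;> omega
    have hsU : s ∈ (Finset.univ : Finset α).powersetCard 3 :=
      Finset.mem_powersetCard.mpr ⟨Finset.subset_univ _, hs⟩
    rw [← hU] at hsU
    obtain ⟨m, -, hm⟩ := Finset.mem_biUnion.mp hsU
    refine ⟨bl m, ⟨⟨m, rfl⟩, (Finset.mem_powersetCard.mp hm).1⟩, ?_⟩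
    rintro _ ⟨⟨m', rfl⟩, hm'⟩
    rw [huniq m m' (Finset.mem_powersetCard.mp hm).1 hm']
  refine ⟨α, inferInstance, inferInstance, Set.range bl, hα, hS,
    ⟨⟨(Equiv.ofInjective bl hinj).symm, fun {x y} => ?_⟩⟩⟩
  obtain ⟨x, rfl⟩ := (Equiv.ofInjective bl hinj).surjective x
  obtain ⟨y, rfl⟩ := (Equiv.ofInjective bl hinj).surjective y
  simp only [Equiv.symm_apply_apply]
  rw [GraphTwentyTwo.blockGraph_adj fun b hb => by rw [hS.1 b hb]; norm_num]
  show G.Adj x y ↔ Disjoint (bl x) (bl y)
  by_cases hxy : x = y
  · subst hxy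
    simp only [SimpleGraph.irrefl, false_iff, disjoint_self]
    exact fun h => by have := hcard x; simp [h] at this
  · rw [Finset.disjoint_iff_inter_eq_empty, ← Finset.card_eq_zero, hinter x y hxy]
    split_ifs with h <;> simp [h]

omit hG in
/-- Isomorphic set systems have isomorphic block graphs. -/
theorem exists_iso_blockGraph {α β : Type*} [DecidableEq β] {B : Set (Finset α)} {B' : Set (Finset β)}
    (h : Cfsg.SetSystemIso B B') : Nonempty (Cfsg.blockGraph B ≃g Cfsg.blockGraph B') := by
  classical
  obtain ⟨e, he⟩ := h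
  let eB : B ≃ B' :=
    (Equiv.Set.image (fun b : Finset α => b.image e) B (Finset.image_injective e.injective)).trans
      (Equiv.setCongr he)
  refine ⟨⟨eB, fun {x y} => ?_⟩⟩
  have heB : ∀ b : B, (eB b : Finset β) = (b : Finset α).image e := fun b => rfl
  simp only [Cfsg.blockGraph, SimpleGraph.fromRel_adj, heB, Finset.disjoint_image e.injective, ne_eq,
    eB.injective.eq_iff]

theorem nonempty_iso {W : Type*} [Fintype W] [DecidableEq W] {H : SimpleGraph W} [DecidableRel H.Adj]
    (hH : H.IsSRGWith 77 16 0 4) : Nonempty (G ≃g H) := by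
  obtain ⟨α, _, _, B, hα, hB, ⟨f⟩⟩ := exists_model hG
  obtain ⟨β, _, _, B', hβ, hB', ⟨f'⟩⟩ := exists_model hH
  obtain ⟨g⟩ := exists_iso_blockGraph (setSystemIso_trans (Witt.iso_std22 hα hB)
    (setSystemIso_symm (Witt.iso_std22 hβ hB')))
  exact ⟨(f.symm.trans g).trans f'⟩

end CfsgLib.Steiner.SRGSeventySeven
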