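import Mathlib
import Cfsg.Agent.Lib.Steiner.McLData

/-!
Checked facts about the tables of the rank three graph on 275 vertices: a graph on 112 points,
four permutations of it, and 162 of its subsets meeting every clique of size four in two points.
-/

set_option autoImplicit false
set_option maxRecDepth 100000
set_option Elab.async false

namespace CfsgLib.Steiner.McL

/-- Entry of a packed list of bytes. -/
def byteAt (code i : ℕ) : ℕ := (code >>> (8 * i)) &&& 255

/-- A packed map. -/
def mapOf (code : ℕ) (i : Fin 112) : Fin 112 := ⟨byteAt code i.val % 112, Nat.mod_lt _ (by norm_num)⟩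

/-- Adjacency. -/
def adjB (i j : Fin 112) : Bool := adjCode.testBit (112 * i.val + j.val)

theorem adj_basic : ∀ i : Fin 112, adjB i i = false ∧
    ((List.finRange 112).countP fun j => adjB i j) = 30 ∧
    ∀ j, adjB i j = adjB j i := by decide +kernel

/-- The test that a packed map has an inverse. -/
def invB (code icode : ℕ) : Bool :=
  (List.finRange 112).all fun i => mapOf icode (mapOf code i) == i && mapOf code (mapOf icode i) == i

/-- The test that a packed map preserves adjacency. -/
def presB (code : ℕ) : Bool :=
  (List.finRange 112).all fun i => (List.finRange 112).all fun j =>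
    adjB (mapOf code i) (mapOf code j) == adjB i j

theorem gen_inv : ∀ k : Fin 4,
    invB (genCode.getD k.val 0) (genInvCode.getD k.val 0) = true := by decide +kernel

theorem gen_pres : ∀ k : Fin 4, presB (genCode.getD k.val 0) = true := by decide +kernel

theorem sig_inv : ∀ k : Fin 4,
    invB (sigCode.getD k.val 0) (sigInvCode.getD k.val 0) = true := by decide +kernel

theorem sig_pres : ∀ k : Fin 4, presB (sigCode.getD k.val 0) = true := by decide +kernel

theorem invB_spec {code icode : ℕ} (h : invB code icode = true) :
    Function.LeftInverse (mapOf icode) (mapOf code) ∧ Function.RightInverse (mapOf icode) (mapOf code) := by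
  simp only [invB, List.all_eq_true, Bool.and_eq_true, beq_iff_eq] at h
  exact ⟨fun i => (h i (List.mem_finRange i)).1, fun i => (h i (List.mem_finRange i)).2⟩

/-- The four generating permutations. -/
def gen (k : Fin 4) : Equiv.Perm (Fin 112) :=
  ⟨mapOf (genCode.getD k.val 0), mapOf (genInvCode.getD k.val 0),
    (invB_spec (gen_inv k)).1, (invB_spec (gen_inv k)).2⟩

/-- Four automorphisms moving the first subset to the four subsets fixed by an element of order 7. -/
def sig (k : Fin 4) : Equiv.Perm (Fin 112) :=
  ⟨mapOf (sigCode.getD k.val 0), mapOf (sigInvCode.getD k.val 0),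
    (invB_spec (sig_inv k)).1, (invB_spec (sig_inv k)).2⟩

/-- The automorphism group of the graph. -/
def autAdj : Subgroup (Equiv.Perm (Fin 112)) where
  carrier := {g | ∀ i j, adjB (g i) (g j) = adjB i j}
  one_mem' := fun _ _ => rfl
  mul_mem' := fun {a b} ha hb i j => by rw [Equiv.Perm.mul_apply, Equiv.Perm.mul_apply, ha, hb]
  inv_mem' := fun {a} ha i j => by rw [← ha (a⁻¹ i) (a⁻¹ j)]; simp

theorem mem_autAdj {g : Equiv.Perm (Fin 112)} :
    g ∈ autAdj ↔ ∀ i j, adjB (g i) (g j) = adjB i j := Iff.rfl

theorem sig_mem (k : Fin 4) : sig k ∈ autAdj := fun i j => by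
  have h := sig_pres k
  simp only [presB, List.all_eq_true, beq_iff_eq] at h
  exact h i (List.mem_finRange i) j (List.mem_finRange j)

/-- Evaluation of a word. -/
def wordF (w : List (Fin 4)) (i : Fin 112) : Fin 112 :=
  w.foldr (fun k x => mapOf (genCode.getD k.val 0) x) i

/-- The permutation of a word. -/
def wordP (w : List (Fin 4)) : Equiv.Perm (Fin 112) := (w.map gen).prod

theorem wordP_apply (w : List (Fin 4)) (i : Fin 112) : wordP w i = wordF w i := by
  induction w with
  | nil => rfl
  | cons k w ih =>
    simp only [wordP, List.map_cons, List.prod_cons, Equiv.Perm.mul_apply, wordF, List.foldr_cons]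
    simp only [wordP, wordF] at ih
    rw [ih]
    rfl

/-- The subset of a code. -/
def maskSet (m : ℕ) : Finset (Fin 112) := Finset.univ.filter fun i => m.testBit i.val

/-- The test that a map sends one subset to another. -/
def imgB (f : Fin 112 → Fin 112) (a b : ℕ) : Bool :=
  (List.finRange 112).all fun i => b.testBit (f i).val == a.testBit i.val

theorem image_maskSet {g : Equiv.Perm (Fin 112)} {f : Fin 112 → Fin 112} (hf : ∀ i, g i = f i)
    {a b : ℕ} (h : imgB f a b = true) : (maskSet a).image g = maskSet b := by
  simp only [imgB, List.all_eq_true, beq_iff_eq] at h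
  ext j
  obtain ⟨i, rfl⟩ := g.surjective j
  rw [g.injective.mem_finset_image]
  simp only [maskSet, Finset.mem_filter, Finset.mem_univ, true_and, hf, h i (List.mem_finRange i)]

/-- The common neighbours and the two points. -/
def lineOf (p q : Fin 112) : Finset (Fin 112) :=
  insert p (insert q (Finset.univ.filter fun r => adjB p r && adjB q r))

theorem lineOf_image {g : Equiv.Perm (Fin 112)} (hg : g ∈ autAdj) (p q : Fin 112) :
    (lineOf p q).image g = lineOf (g p) (g q) := by
  ext j
  obtain ⟨i, rfl⟩ := g.surjective j
  rw [g.injective.mem_finset_image]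
  simp [lineOf, hg p i, hg q i]

/-- The first line. -/
def line0 : Finset (Fin 112) := {0, 6, 105, 110}

/-- Membership in the 27. -/
def midB (x : Fin 112) : Bool := adjB 0 x && !(x == 6 || x == 105 || x == 110)

/-- Membership in the 81. -/
def farB (x : Fin 112) : Bool := !(adjB 0 x) && !(x == 0)

theorem line0_eq : line0 = lineOf 0 6 ∧
    (∀ x : Fin 112, x = 0 ∨ x ∈ ({6, 105, 110} : Finset (Fin 112)) ∨ midB x = true ∨ farB x = true) ∧
    ((List.finRange 112).countP fun x => midB x) = 27 ∧
    ((List.finRange 112).countP fun x => farB x) = 81 := by decide +kernel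

/-- The test that a word fixes the first point and the first line. -/
def fixLineB (w : List (Fin 4)) : Bool :=
  wordF w 0 == 0 && [(6 : Fin 112), 105, 110].all fun x => [(6 : Fin 112), 105, 110].contains (wordF w x)

theorem three_cert : (wordsThree.all fixLineB &&
    [(6 : Fin 112), 105, 110].all fun y => wordsThree.any fun w => wordF w 6 == y) = true := by
  decide +kernel

theorem mid_cert : (wordsMid.all fixLineB && midB 17 &&
    (List.finRange 112).all fun y => !(midB y) || wordsMid.any fun w => wordF w 17 == y) = true := by
  decide +kernel

theorem far_cert : (wordsFar.all fixLineB && farB 1 &&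
    (List.finRange 112).all fun y => !(farB y) || wordsFar.any fun w => wordF w 1 == y) = true := by
  decide +kernel

theorem nbr_cert : (wordsNbr.all (fun w => wordF w 0 == 0) &&
    (List.finRange 112).all fun y => !(adjB 0 y) || wordsNbr.any fun w => wordF w 6 == y) = true := by
  decide +kernel

theorem point_cert :
    ((List.finRange 112).all fun y => wordsPoint.any fun w => wordF w 0 == y) = true := by
  decide +kernel

theorem gen_mem_autAdj (k : Fin 4) : gen k ∈ autAdj := fun i j => by
  have h := gen_pres k
  simp only [presB, List.all_eq_true, beq_iff_eq] at h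
  exact h i (List.mem_finRange i) j (List.mem_finRange j)

theorem wordP_mem_autAdj (w : List (Fin 4)) : wordP w ∈ autAdj := by
  refine autAdj.list_prod_mem fun g hg => ?_
  obtain ⟨k, -, rfl⟩ := List.mem_map.mp hg
  exact gen_mem_autAdj k

theorem adj_pairs_zero : ∀ q : Fin 112, adjB 0 q = true →
    ((List.finRange 112).countP fun r => adjB 0 r && adjB q r) = 2 := by decide +kernel

theorem countP_finRange (P : Fin 112 → Bool) :
    (List.finRange 112).countP P = (Finset.univ.filter fun r => P r = true).card := by
  rw [List.countP_eq_length_filter,
    ← List.toFinset_card_of_nodup ((List.nodup_finRange _).filter _)]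
  congr 1
  ext r
  simp

theorem adj_pairs : ∀ p q : Fin 112, adjB p q = true →
    ((List.finRange 112).countP fun r => adjB p r && adjB q r) = 2 := by
  intro p q hpq
  have h := point_cert
  simp only [List.all_eq_true, List.any_eq_true, beq_iff_eq] at h
  obtain ⟨w, -, hw⟩ := h p (List.mem_finRange p)
  have hg : wordP w ∈ autAdj := wordP_mem_autAdj w
  obtain ⟨q', rfl⟩ := (wordP w).surjective q
  have h0 : wordP w 0 = p := (wordP_apply w 0).trans hw
  subst h0
  rw [mem_autAdj.mp hg] at hpq
  rw [← adj_pairs_zero q' hpq, countP_finRange, countP_finRange]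
  symm
  refine Finset.card_bij (fun r _ => wordP w r) ?_ ?_ ?_
  · intro r hr
    simp only [Finset.mem_filter, Finset.mem_univ, true_and] at hr ⊢
    rwa [mem_autAdj.mp hg, mem_autAdj.mp hg]
  · intro a _ b _ e
    exact (wordP w).injective e
  · intro r hr
    obtain ⟨r', rfl⟩ := (wordP w).surjective r
    simp only [Finset.mem_filter, Finset.mem_univ, true_and] at hr
    rw [mem_autAdj.mp hg, mem_autAdj.mp hg] at hr
    exact ⟨r', by simpa using hr, rfl⟩

/-! ## The subsets meeting every line in two points -/

/-- A list of four pairwise adjacent points. -/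
def cliqueB : List ℕ → Bool
  | [a, b, c, d] => Nat.blt a 112 && Nat.blt b 112 && Nat.blt c 112 && Nat.blt d 112 &&
      [(a, b), (a, c), (a, d), (b, c), (b, d), (c, d)].all fun x => adjCode.testBit (112 * x.1 + x.2)
  | _ => false

theorem lines_cliques : lineList.all cliqueB = true := by decide +kernel

/-- The index of the orbit of a point under the element of order 7. -/
def orbIdx (i : Fin 112) : ℕ := byteAt orbIdxCode i.val

/-- The element of order 7 preserves the orbit index, and acts transitively on each class. -/
theorem orb_spec : ∀ i : Fin 112, orbIdx i < 16 ∧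
    ∃ n : Fin 7, (wordF g7Word)^[n.val] ⟨orbReps.getD (orbIdx i) 0 % 112, Nat.mod_lt _ (by norm_num)⟩ = i := by
  decide +kernel

theorem g7_cert : (∀ i : Fin 112, (wordF g7Word)^[7] i = i) ∧ wordF g7Word 0 ≠ 0 := by decide +kernel

/-- The line test on a union of classes. -/
def hemiB (x : ℕ) : Bool :=
  lineList.all fun l => (l.countP fun a => x.testBit (byteAt orbIdxCode a)) == 2

/-- Codes from `lo`. -/
def searchB (lo m : ℕ) : Bool :=
  Nat.rec true (fun i r => (!(hemiB (lo + i)) || solCodes.contains (lo + i)) && r) m

theorem searchB_spec {lo m : ℕ} (h : searchB lo m = true) :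
    ∀ x, lo ≤ x → x < lo + m → hemiB x = true → x ∈ solCodes := by
  induction m with
  | zero => intro x h1 h2; omega
  | succ m ih =>
    change ((!(hemiB (lo + m)) || solCodes.contains (lo + m)) && searchB lo m) = true at h
    rw [Bool.and_eq_true] at h
    intro x h1 h2 h3
    rcases Nat.lt_or_ge x (lo + m) with hx | hx
    · exact ih h.2 x h1 hx h3
    · obtain rfl : x = lo + m := by omega
      have := h.1
      rw [h3] at this
      simpa using this

/-! ## The family of 162 subsets -/

/-- The code of a member. -/
def famCode (z : Fin 162) : ℕ := famList.getD z.val 0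

/-- A member. -/
def famSet (z : Fin 162) : Finset (Fin 112) := maskSet (famCode z)

/-- The step of the spanning tree. -/
def famStepB (z : Fin 162) : Bool :=
  z == 0 ||
    (Nat.blt (famPar.getD z.val (0, 0)).1 z.val &&
      imgB (mapOf (genCode.getD (famPar.getD z.val (0, 0)).2.val 0))
        (famList.getD (famPar.getD z.val (0, 0)).1 0) (famCode z))

theorem fam_steps : ∀ z : Fin 162, famStepB z = true := by decide +kernel

theorem fam_distinct : ∀ z z' : Fin 162, famCode z = famCode z' → z = z' := by decide +kernel

theorem fam_bound : ∀ z : Fin 162, famCode z < 2 ^ 112 := by decide +kernel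

theorem fam_inter : ∀ z : Fin 162, z ≠ 0 →
    ((List.finRange 112).countP fun i => (famCode 0).testBit i.val && (famCode z).testBit i.val) = 20 ∨
    ((List.finRange 112).countP fun i => (famCode 0).testBit i.val && (famCode z).testBit i.val) = 32 := by
  decide +kernel

theorem fam_card : ((List.finRange 112).countP fun i => (famCode 0).testBit i.val) = 56 := by decide +kernel

/-- The test that a permutation carries the first member to a union of classes. -/
def solB (k : Fin 4) : Bool :=
  (List.finRange 112).all fun i =>
    (solCodes.getD k.val 0).testBit (orbIdx (mapOf (sigCode.getD k.val 0) i)) == (famCode 0).testBit i.val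

theorem sol_cert : (∀ k : Fin 4, solB k = true) ∧ solCodes.length = 4 := by decide +kernel

/-! ## The bound on the automorphism group -/

/-- The points still allowed for `b` once the points of `D` are fixed. -/
def candCount (D : List (Fin 112)) (b : Fin 112) : ℕ :=
  (List.finRange 112).countP fun y => D.all (fun d => adjB y d == adjB b d) && !(D.contains y)

/-- The product of the counts along a list. -/
def candProd : List (Fin 112) → List (Fin 112) → ℕ
  | _, [] => 1
  | D, b :: l => candCount D b * candProd (b :: D) l

/-- The base. -/
def base : List (Fin 112) := baseSeq.map fun i => ⟨i % 112, Nat.mod_lt _ (by norm_num)⟩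

theorem base_cert : candProd [] base = 26127360 ∧ base.Nodup ∧ base.length = 112 := by decide +kernel

end CfsgLib.Steiner.McL
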