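import Mathlib
import Cfsg.Agent.Lib.Steiner.McLTables

/-! Counts of lines in the graph on 112 points. -/

set_option autoImplicit false
set_option maxRecDepth 100000
set_option Elab.async false

namespace CfsgLib.Steiner.McL

theorem lines_through : ((List.finRange 112).filter fun q => adjB 0 q).all (fun q =>
    decide (lineOf 0 q ∈ [lineOf 0 6] ++ (wordsNbr.map fun w => lineOf (wordF w 0) (wordF w 6)))) = true ∧
    ((Finset.univ.filter fun q => adjB 0 q).image fun q => lineOf 0 q).card = 10 := by decide +kernel

/-- A row of the adjacency table. -/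
def rowCode (p : ℕ) : ℕ := (adjCode >>> (112 * p)) % 2 ^ 112

/-- The mask of a line. -/
def lineKey (p q : Fin 112) : ℕ := (rowCode p.val &&& rowCode q.val) ||| 2 ^ p.val ||| 2 ^ q.val

theorem lineKey_testBit (p q i : Fin 112) :
    (lineKey p q).testBit i.val = true ↔ i ∈ lineOf p q := by
  simp only [lineKey, rowCode, lineOf, adjB, Nat.testBit_lor, Nat.testBit_land,
    Nat.testBit_mod_two_pow, Nat.testBit_shiftRight, Nat.testBit_two_pow, i.2, decide_true,
    Bool.true_and, Bool.or_eq_true, Bool.and_eq_true, decide_eq_true_eq, Finset.mem_insert,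
    Finset.mem_filter, Finset.mem_univ, true_and, Fin.ext_iff]
  tauto

theorem lineKey_lt (p q : Fin 112) : lineKey p q < 2 ^ 112 :=
  Nat.or_lt_two_pow (Nat.or_lt_two_pow
    (Nat.and_lt_two_pow _ (Nat.mod_lt _ (by positivity)))
    (Nat.pow_lt_pow_right (by norm_num) p.2)) (Nat.pow_lt_pow_right (by norm_num) q.2)

theorem line_keys : (wordsLine.map fun w => lineKey (wordF w 0) (wordF w 6)).Nodup ∧
    wordsLine.length = 280 := by decide +kernel

theorem line_images : ((wordsLine.map fun w => lineOf (wordF w 0) (wordF w 6)).toFinset).card = 280 := by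
  rw [List.toFinset_card_of_nodup, List.length_map, line_keys.2]
  refine List.Nodup.map_on ?_ (List.Nodup.of_map _ line_keys.1)
  intro w hw v hv e
  refine List.inj_on_of_nodup_map line_keys.1 hw hv (Nat.eq_of_testBit_eq fun i => ?_)
  by_cases hi : i < 112
  · rw [Bool.eq_iff_iff]
    have h1 := lineKey_testBit (wordF w 0) (wordF w 6) ⟨i, hi⟩
    have h2 := lineKey_testBit (wordF v 0) (wordF v 6) ⟨i, hi⟩
    simp only at h1 h2
    rw [h1, h2, e]
  · rw [Nat.testBit_lt_two_pow, Nat.testBit_lt_two_pow] <;>
      exact (lineKey_lt _ _).trans_le (Nat.pow_le_pow_right (by norm_num) (by omega))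

theorem mid_count : (Finset.univ.filter fun z => midB z = true).card = 27 := by decide +kernel

theorem far_count : (Finset.univ.filter fun z => farB z = true).card = 81 := by decide +kernel

theorem nbr_count : (Finset.univ.filter fun z => adjB 0 z = true).card = 30 := by decide +kernel

theorem orbit_counts :
    (insert (0 : Fin 112) (({6, 105, 110} : Finset (Fin 112)) ∪
      Finset.univ.filter fun z => midB z = true)).card = 31 ∧
    (insert (0 : Fin 112) (Finset.univ.filter fun z => midB z = true)).card = 28 := by decide +kernel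

theorem fam_inner_zero : ∀ p : Fin 112, (famCode 0).testBit p.val = true →
    ((List.finRange 112).countP fun x => (famCode 0).testBit x.val && adjB p x) = 10 := by decide +kernel

theorem exists_fam_mem : ∃ r : Fin 162, (0 : Fin 112) ∈ famSet r := by
  have h : ∃ r : Fin 162, (famCode r).testBit 0 = true := by decide +kernel
  obtain ⟨r, hr⟩ := h
  exact ⟨r, by simpa [famSet, maskSet] using hr⟩

end CfsgLib.Steiner.McL
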