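import Mathlib
import Cfsg.Agent.Lib.Steiner.McLTables

/-!
Search, first half.
-/

set_option autoImplicit false
set_option maxRecDepth 100000
set_option Elab.async false

namespace CfsgLib.Steiner.McL

theorem search0 : searchB 0 8192 = true := by decide +kernel
theorem search1 : searchB 8192 8192 = true := by decide +kernel
theorem search2 : searchB 16384 8192 = true := by decide +kernel
theorem search3 : searchB 24576 8192 = true := by decide +kernel

end CfsgLib.Steiner.McL
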