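import Mathlib
import Cfsg.Agent.Lib.Steiner.McLTables

/-!
Search, second half.
-/

set_option autoImplicit false
set_option maxRecDepth 100000
set_option Elab.async false

namespace CfsgLib.Steiner.McL

theorem search4 : searchB 32768 8192 = true := by decide +kernel
theorem search5 : searchB 40960 8192 = true := by decide +kernel
theorem search6 : searchB 49152 8192 = true := by decide +kernel
theorem search7 : searchB 57344 8192 = true := by decide +kernel


end CfsgLib.Steiner.McL
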