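import Mathlib
import Cfsg.Agent.Lib.Steiner.McLTables
import Cfsg.Agent.Lib.Steiner.McLSearchA
import Cfsg.Agent.Lib.Steiner.McLSearchB

/-!
The subsets fixed by an element of order 7 meeting every line in two points.
-/

set_option autoImplicit false
set_option maxRecDepth 100000
set_option Elab.async false

namespace CfsgLib.Steiner.McL

theorem search {x : ℕ} (hx : x < 65536) (h : hemiB x = true) : x ∈ solCodes := by
  rcases (by omega : x < 8192 ∨ (8192 ≤ x ∧ x < 16384) ∨ (16384 ≤ x ∧ x < 24576) ∨
    (24576 ≤ x ∧ x < 32768) ∨ (32768 ≤ x ∧ x < 40960) ∨ (40960 ≤ x ∧ x < 49152) ∨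
    (49152 ≤ x ∧ x < 57344) ∨ 57344 ≤ x) with h' | h' | h' | h' | h' | h' | h' | h'
  · exact searchB_spec search0 x (Nat.zero_le x) (by omega) h
  · exact searchB_spec search1 x h'.1 (by omega) h
  · exact searchB_spec search2 x h'.1 (by omega) h
  · exact searchB_spec search3 x h'.1 (by omega) h
  · exact searchB_spec search4 x h'.1 (by omega) h
  · exact searchB_spec search5 x h'.1 (by omega) h
  · exact searchB_spec search6 x h'.1 (by omega) h
  · exact searchB_spec search7 x h' (by omega) h


end CfsgLib.Steiner.McL
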