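import Mathlib
import Cfsg.Agent.Lib.Steiner.McLTables
import Cfsg.Agent.Lib.Steiner.McLSearch
import Cfsg.Agent.Lib.Steiner.McLLineTables

/-!
The local structure for the recognition of the rank three group on 275 points: a simple group of
order 3265920 acting on the graph with 112 vertices, its subgroups of index 112, and the subsets
meeting every line in two points.
-/

set_option autoImplicit false

namespace CfsgLib.Steiner.McL

/-! ## The automorphism group of the small graph -/

/-- Automorphisms fixing the points of a list. -/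
def pinned (D : List (Fin 112)) : Subgroup autAdj where
  carrier := {g | ∀ d ∈ D, (g : Equiv.Perm (Fin 112)) d = d}
  one_mem' := fun _ _ => rfl
  mul_mem' := fun {a b} ha hb d hd => by
    rw [Subgroup.coe_mul, Equiv.Perm.mul_apply, hb d hd, ha d hd]
  inv_mem' := fun {a} ha d hd => by
    rw [Subgroup.coe_inv, Equiv.Perm.inv_eq_iff_eq, ha d hd]

theorem card_pinned_le : ∀ (l D : List (Fin 112)), (l ++ D).Nodup →
    Nat.card (pinned D) ≤ candProd D l * Nat.card (pinned (l.reverse ++ D))
  | [], D, _ => by simp [candProd]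
  | b :: l, D, h => by
    have hb : b ∉ D := fun hd => (List.nodup_cons.mp h).1 (List.mem_append_right _ hd)
    have hnd : (l ++ b :: D).Nodup := List.nodup_middle.mpr h
    have ih := card_pinned_le l (b :: D) hnd
    let K := pinned D
    have hos := (MulAction.stabilizer K b).card_mul_index
    rw [MulAction.index_stabilizer] at hos
    have horb : (MulAction.orbit K b).ncard ≤ candCount D b := by
      classical
      have hsub : MulAction.orbit K b ⊆
          ↑((List.finRange 112).filter fun y =>
            D.all (fun d => adjB y d == adjB b d) && !(D.contains y)).toFinset := by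
        rintro _ ⟨g, rfl⟩
        simp only [List.coe_toFinset, List.mem_filter, List.mem_finRange, true_and, Set.mem_ofPred_eq,
          Bool.and_eq_true, List.all_eq_true, beq_iff_eq]
        refine ⟨fun d hd => ?_, ?_⟩
        · calc adjB (g • b) d = adjB ((g.1.1 : Equiv.Perm (Fin 112)) b) (g.1.1 d) := by rw [g.2 d hd]; rfl
            _ = adjB b d := g.1.2 b d
        · simp only [Bool.not_eq_true', List.contains_eq_mem, decide_eq_false_iff_not]
          intro hm
          have := g.2 _ hm
          exact hb ((g.1.1.injective this) ▸ hm)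
      refine le_trans (Set.ncard_le_ncard hsub (Finset.finite_toSet _)) ?_
      rw [Set.ncard_coe_finset, candCount, List.countP_eq_length_filter]
      exact List.toFinset_card_le _
    have hstab : Nat.card (MulAction.stabilizer K b) ≤ Nat.card (pinned (b :: D)) := by
      refine Nat.card_le_card_of_injective
        (fun g => (⟨g.1.1, fun d hd => ?_⟩ : pinned (b :: D))) fun g g' e => ?_
      · rcases List.mem_cons.mp hd with rfl | hd
        · exact g.2
        · exact g.1.2 d hd
      · exact Subtype.ext (Subtype.ext (congrArg Subtype.val e :))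
    rw [List.reverse_cons, List.append_assoc, List.singleton_append, candProd]
    calc Nat.card (pinned D) = Nat.card (MulAction.stabilizer K b) * (MulAction.orbit K b).ncard := hos.symm
      _ ≤ Nat.card (pinned (b :: D)) * candCount D b := Nat.mul_le_mul hstab horb
      _ ≤ candProd (b :: D) l * Nat.card (pinned (l.reverse ++ b :: D)) * candCount D b :=
          Nat.mul_le_mul_right _ ih
      _ = _ := by ring

theorem card_autAdj_le : Nat.card autAdj ≤ 26127360 := by
  obtain ⟨h1, h2, h3⟩ := base_cert
  have h := card_pinned_le base [] (by simpa using h2)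
  have hall : ∀ x, x ∈ base := by
    have := (List.Nodup.length_le_card h2)
    have hu : base.toFinset = Finset.univ := Finset.eq_univ_of_card _ (by
      rw [List.toFinset_card_of_nodup h2, h3, Fintype.card_fin])
    intro x
    have := Finset.mem_univ x
    rwa [← hu, List.mem_toFinset] at this
  have htop : pinned [] = ⊤ := eq_top_iff.mpr fun g _ d hd => by simp at hd
  have hbot : pinned (base.reverse ++ []) = ⊥ := by
    refine eq_bot_iff.mpr fun g hg => Subgroup.mem_bot.mpr (Subtype.ext (Equiv.ext fun x => ?_))
    exact hg x (by simpa using hall x)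
  rw [hbot, Subgroup.card_bot, Nat.mul_one, htop, Subgroup.card_top] at h
  exact h.trans (le_of_eq h1)

/-- A simple subgroup of small index is the only simple subgroup of its order. -/
theorem simple_unique {A : Type*} [Group A] [Finite A] {X Y : Subgroup A} [IsSimpleGroup X]
    [IsSimpleGroup Y] (hX : Nat.card X = 3265920) (hY : Nat.card Y = 3265920)
    (hA : Nat.card A ≤ 26127360) : Y = X := by
  have hidx : X.index ≤ 8 := by
    have := X.card_mul_index
    rw [hX] at this
    omega
  have hcore : X.normalCore.index ∣ Nat.factorial 8 := by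
    rw [Subgroup.normalCore_eq_ker, Subgroup.index_ker]
    refine (Subgroup.card_subgroup_dvd_card _).trans ?_
    rw [Nat.card_perm]
    exact Nat.factorial_dvd_factorial hidx
  have hXn : X.Normal := by
    rcases IsSimpleGroup.eq_bot_or_eq_top_of_normal (X.normalCore.subgroupOf X) inferInstance with h | h
    · exfalso
      have h1 : X.normalCore.relIndex X ∣ Nat.factorial 8 :=
        (Subgroup.relIndex_dvd_index_of_normal _ _).trans hcore
      rw [Subgroup.relIndex, h, Subgroup.index_bot, hX] at h1
      exact absurd (Nat.le_of_dvd (Nat.factorial_pos 8) h1) (by decide)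
    · have := le_antisymm (Subgroup.normalCore_le X) (Subgroup.subgroupOf_eq_top.mp h)
      rw [← this]
      infer_instance
  rcases IsSimpleGroup.eq_bot_or_eq_top_of_normal (X.subgroupOf Y) inferInstance with h | h
  · exfalso
    have h1 : X.relIndex Y ≤ 8 :=
      (Nat.le_of_dvd (Nat.pos_of_ne_zero Subgroup.index_ne_zero_of_finite)
        (Subgroup.relIndex_dvd_index_of_normal X Y)).trans hidx
    rw [Subgroup.relIndex, h, Subgroup.index_bot, hY] at h1
    omega
  · exact Subgroup.eq_of_le_of_card_ge (Subgroup.subgroupOf_eq_top.mp h) (by rw [hX, hY])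

/-- A Sylow subgroup is transitive on any orbit of the same prime power size. -/
theorem sylow_orbit {B X : Type*} [Group B] [Finite B] [MulAction B X] (p : ℕ) [Fact p.Prime]
    (Q : Sylow p B) (x : X) (k : ℕ) (h : (MulAction.orbit B x).ncard = p ^ k) :
    MulAction.orbit (Q : Subgroup B) x = MulAction.orbit B x := by
  have hsub : MulAction.orbit (Q : Subgroup B) x ⊆ MulAction.orbit B x := by
    rintro _ ⟨g, rfl⟩
    exact ⟨g.1, rfl⟩
  refine Set.eq_of_subset_of_ncard_le hsub ?_ (Set.finite_range _)
  have hB := (MulAction.stabilizer B x).card_mul_index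
  have hQ := (MulAction.stabilizer (Q : Subgroup B) x).card_mul_index
  rw [MulAction.index_stabilizer, h] at hB
  rw [MulAction.index_stabilizer, Sylow.card_eq_multiplicity] at hQ
  set c := Nat.card (MulAction.stabilizer B x)
  set d := Nat.card (MulAction.stabilizer (Q : Subgroup B) x)
  have hc : c ≠ 0 := Nat.card_pos.ne'
  have hfac : (Nat.card B).factorization p = c.factorization p + k := by
    rw [← hB, Nat.factorization_mul hc (pow_ne_zero _ (Fact.out : p.Prime).ne_zero), Finsupp.add_apply,
      (Fact.out : p.Prime).factorization_pow, Finsupp.single_eq_same]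
  have hdvd : d ∣ c := by
    refine Subgroup.card_dvd_of_injective
      ((Q : Subgroup B).subtype.comp (MulAction.stabilizer (Q : Subgroup B) x).subtype |>.codRestrict
        (MulAction.stabilizer B x) fun g => g.2) fun g g' e => ?_
    exact Subtype.ext (Subtype.ext (congrArg Subtype.val e :))
  have hdp : d ∣ p ^ (Nat.card B).factorization p := ⟨_, hQ.symm⟩
  obtain ⟨j, -, hj⟩ := (Nat.dvd_prime_pow (Fact.out : p.Prime)).mp hdp
  have hjc : j ≤ c.factorization p :=
    ((Fact.out : p.Prime).pow_dvd_iff_le_factorization hc).mp (hj ▸ hdvd)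
  rw [h]
  by_contra hlt
  have h1 : d * (MulAction.orbit (Q : Subgroup B) x).ncard < p ^ j * p ^ k := by
    rw [hj]
    exact Nat.mul_lt_mul_of_pos_left (not_le.mp hlt) (pow_pos (Fact.out : p.Prime).pos j)
  rw [hQ, ← pow_add, hfac] at h1
  exact absurd h1 (not_lt.mpr (Nat.pow_le_pow_right (Fact.out : p.Prime).pos (by omega)))

/-- The properties of the acting group. -/
structure Setup (H : Subgroup (Equiv.Perm (Fin 112))) : Prop where
  card : Nat.card H = 3265920
  simple : IsSimpleGroup H
  gen_mem : ∀ k, gen k ∈ H
  le_aut : H ≤ autAdj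

variable {H : Subgroup (Equiv.Perm (Fin 112))} (hH : Setup H)

include hH

theorem wordP_mem (w : List (Fin 4)) : wordP w ∈ H := by
  refine H.list_prod_mem fun g hg => ?_
  obtain ⟨k, -, rfl⟩ := List.mem_map.mp hg
  exact hH.gen_mem k

/-- Every automorphism normalises the group. -/
theorem conj_eq {s : Equiv.Perm (Fin 112)} (hs : s ∈ autAdj) :
    H.map (MulAut.conj s).toMonoidHom = H := by
  set H' := H.map (MulAut.conj s).toMonoidHom with hH'
  have hle : H' ≤ autAdj := by
    rintro _ ⟨h, hh, rfl⟩
    simpa using mul_mem (mul_mem hs (hH.le_aut hh)) (inv_mem hs)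
  let e : H ≃* H' := H.equivMapOfInjective _ (MulAut.conj s).injective
  haveI := hH.simple
  haveI : IsSimpleGroup (H.subgroupOf autAdj) :=
    (Subgroup.subgroupOfEquivOfLe hH.le_aut).isSimpleGroup
  haveI : IsSimpleGroup (H'.subgroupOf autAdj) :=
    ((Subgroup.subgroupOfEquivOfLe hle).trans e.symm).isSimpleGroup
  have := simple_unique (X := H.subgroupOf autAdj) (Y := H'.subgroupOf autAdj)
    ((Nat.card_congr (Subgroup.subgroupOfEquivOfLe hH.le_aut).toEquiv).trans hH.card)
    ((Nat.card_congr ((Subgroup.subgroupOfEquivOfLe hle).trans e.symm).toEquiv).trans hH.card)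
    card_autAdj_le
  have h' := congrArg (Subgroup.map autAdj.subtype) this
  rwa [Subgroup.map_subgroupOf_eq_of_le hle, Subgroup.map_subgroupOf_eq_of_le hH.le_aut] at h'

theorem transitive : ∀ y : Fin 112, ∃ h : H, (h : Equiv.Perm (Fin 112)) 0 = y := by
  intro y
  have h := point_cert
  simp only [List.all_eq_true, List.any_eq_true, beq_iff_eq] at h
  obtain ⟨w, -, hw⟩ := h y (List.mem_finRange y)
  exact ⟨⟨wordP w, wordP_mem hH w⟩, by rw [← hw]; exact wordP_apply w 0⟩

/-- The stabiliser of the first point and the first line. -/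
def flagStab (H : Subgroup (Equiv.Perm (Fin 112))) : Subgroup H where
  carrier := {h | (h : Equiv.Perm (Fin 112)) 0 = 0 ∧ line0.image (h : Equiv.Perm (Fin 112)) = line0}
  one_mem' := by simp
  mul_mem' := fun {a b} ha hb => by
    refine ⟨by rw [Subgroup.coe_mul, Equiv.Perm.mul_apply, hb.1, ha.1], ?_⟩
    calc line0.image ⇑((a * b : H) : Equiv.Perm (Fin 112))
        = (line0.image ⇑(b : Equiv.Perm (Fin 112))).image ⇑(a : Equiv.Perm (Fin 112)) := by
          rw [Finset.image_image]; rfl
      _ = line0 := by rw [hb.2, ha.2]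
  inv_mem' := fun {a} ha => by
    refine ⟨by rw [Subgroup.coe_inv, Equiv.Perm.inv_eq_iff_eq, ha.1], ?_⟩
    conv_lhs => rw [← ha.2]
    rw [Finset.image_image]
    simp

theorem fixLine_mem {w : List (Fin 4)} (h : fixLineB w = true) :
    (⟨wordP w, wordP_mem hH w⟩ : H) ∈ flagStab H := by
  simp only [fixLineB, Bool.and_eq_true, beq_iff_eq, List.all_cons, List.all_nil, Bool.and_true,
    List.contains_eq_mem, decide_eq_true_eq] at h
  refine ⟨(wordP_apply w 0).trans h.1, Finset.eq_of_subset_of_card_le ?_ ?_⟩
  · intro y hy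
    obtain ⟨x, hx, rfl⟩ := Finset.mem_image.mp hy
    simp only [line0, Finset.mem_insert, Finset.mem_singleton] at hx ⊢
    have := h.2
    simp only [List.mem_cons, List.not_mem_nil, or_false] at this
    rw [wordP_apply]
    rcases hx with rfl | rfl | rfl | rfl
    · exact Or.inl h.1
    · exact Or.inr this.1
    · exact Or.inr this.2.1
    · exact Or.inr this.2.2
  · rw [Finset.card_image_of_injective _ (wordP w).injective]

theorem stab0_nbr {y : Fin 112} (hy : adjB 0 y = true) :
    ∃ h : H, (h : Equiv.Perm (Fin 112)) 0 = 0 ∧ (h : Equiv.Perm (Fin 112)) 6 = y := by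
  have h := nbr_cert
  simp only [Bool.and_eq_true, List.all_eq_true, beq_iff_eq, Bool.or_eq_true, Bool.not_eq_true',
    List.any_eq_true] at h
  rcases h.2 y (List.mem_finRange y) with h' | ⟨w, hw, hw'⟩
  · rw [hy] at h'; exact Bool.noConfusion h'
  · exact ⟨⟨wordP w, wordP_mem hH w⟩, (wordP_apply w 0).trans (h.1 w hw), (wordP_apply w 6).trans hw'⟩

theorem stab0_far {y : Fin 112} (hy : farB y = true) :
    ∃ h : H, h ∈ flagStab H ∧ (h : Equiv.Perm (Fin 112)) 1 = y := by
  have h := far_cert
  simp only [Bool.and_eq_true, List.all_eq_true, beq_iff_eq, Bool.or_eq_true, Bool.not_eq_true',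
    List.any_eq_true] at h
  rcases h.2 y (List.mem_finRange y) with h' | ⟨w, hw, hw'⟩
  · rw [hy] at h'; exact Bool.noConfusion h'
  · exact ⟨⟨wordP w, wordP_mem hH w⟩, fixLine_mem hH (h.1.1 w hw), (wordP_apply w 1).trans hw'⟩

theorem index_flagStab : (flagStab H).index = 1120 := by
  set S := MulAction.stabilizer H (0 : Fin 112) with hS
  have hle : flagStab H ≤ S := fun h hh => hh.1
  have h112 : S.index = 112 := by
    rw [hS, MulAction.index_stabilizer,
      Set.eq_univ_of_forall (s := MulAction.orbit H (0 : Fin 112)) fun y => transitive hH y,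
      Set.ncard_univ, Nat.card_fin]
  have h10 : (flagStab H).relIndex S = 10 := by
    obtain ⟨hlines, hcard⟩ := lines_through
    letI : MulAction S (Finset (Fin 112)) :=
      { smul := fun g L => L.image ((g : H) : Equiv.Perm (Fin 112))
        one_smul := fun L => Finset.image_id
        mul_smul := fun g g' L => by
          show L.image _ = (L.image _).image _
          rw [Finset.image_image]
          rfl }
    have hsmul : ∀ (g : S) (L : Finset (Fin 112)),
        g • L = L.image ((g : H) : Equiv.Perm (Fin 112)) := fun _ _ => rfl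
    have horb : MulAction.orbit S line0 =
        ↑((Finset.univ.filter fun q => adjB 0 q).image fun q => lineOf 0 q) := by
      ext L
      simp only [MulAction.mem_orbit_iff, hsmul, Finset.coe_image, Set.mem_image, Finset.coe_filter,
        Finset.mem_univ, true_and, Set.mem_ofPred_eq]
      constructor
      · rintro ⟨g, rfl⟩
        refine ⟨(g : H).1 6, ?_, ?_⟩
        · rw [← show (g : H).1 0 = 0 from g.2, hH.le_aut (g : H).2]
          decide +kernel
        · rw [line0_eq.1, lineOf_image (hH.le_aut (g : H).2), show (g : H).1 0 = 0 from g.2]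
      · rintro ⟨q, hq, rfl⟩
        obtain ⟨g, hg0, hg6⟩ := stab0_nbr hH hq
        exact ⟨⟨g, hg0⟩, by rw [line0_eq.1, lineOf_image (hH.le_aut g.2), hg0, hg6]⟩
    have hst : MulAction.stabilizer S line0 = (flagStab H).subgroupOf S := by
      ext g
      rw [MulAction.mem_stabilizer_iff, hsmul, Subgroup.mem_subgroupOf]
      exact ⟨fun h => ⟨g.2, h⟩, fun h => h.2⟩
    rw [Subgroup.relIndex, ← hst, MulAction.index_stabilizer, horb, Set.ncard_coe_finset, hcard]
  rw [← Subgroup.relIndex_mul_index hle, h10, h112]

theorem line_stab_small : ∀ K : Subgroup H, (∀ h ∈ K, line0.image (h : Equiv.Perm (Fin 112)) = line0) →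
    Nat.card K ≤ 11664 := by
  intro K hK
  letI : MulAction H (Finset (Fin 112)) :=
    { smul := fun g L => L.image (g : Equiv.Perm (Fin 112))
      one_smul := fun L => Finset.image_id
      mul_smul := fun g g' L => by
        show L.image _ = (L.image _).image _
        rw [Finset.image_image]
        rfl }
  have hsmul : ∀ (g : H) (L : Finset (Fin 112)),
      g • L = L.image (g : Equiv.Perm (Fin 112)) := fun _ _ => rfl
  have hle : K ≤ MulAction.stabilizer H line0 := fun g hg => by
    rw [MulAction.mem_stabilizer_iff, hsmul]; exact hK g hg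
  have h280 : 280 ≤ (MulAction.orbit H line0).ncard := by
    rw [← line_images, ← Set.ncard_coe_finset]
    refine Set.ncard_le_ncard ?_ (Set.toFinite _)
    intro L hL
    simp only [List.coe_toFinset, Set.mem_ofPred_eq, List.mem_map] at hL
    obtain ⟨w, -, rfl⟩ := hL
    refine ⟨⟨wordP w, wordP_mem hH w⟩, ?_⟩
    show line0.image (wordP w) = _
    rw [line0_eq.1, lineOf_image (hH.le_aut (wordP_mem hH w)), wordP_apply, wordP_apply]
  have hos := (MulAction.stabilizer H line0).card_mul_index
  rw [MulAction.index_stabilizer, hH.card] at hos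
  refine (Subgroup.card_le_of_le hle).trans ?_
  nlinarith

/-- The subgroups of index 112 are the point stabilisers. -/
theorem exists_fixed (K : Subgroup H) (hK : Nat.card K = 29160) :
    ∃ p : Fin 112, K = MulAction.stabilizer H p := by
  classical
  haveI : Fact (Nat.Prime 3) := ⟨Nat.prime_three⟩
  set B := flagStab H with hB
  obtain ⟨Q⟩ : Nonempty (Sylow 3 B) := inferInstance
  have hBcard : Nat.card B = 2916 := by
    have := B.card_mul_index
    rw [index_flagStab hH, hH.card] at this
    omega
  have hQcard : Nat.card (Q : Subgroup B) = 729 := by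
    rw [Sylow.card_eq_multiplicity, hBcard,
      show (2916 : ℕ) = 4 * 3 ^ 6 by norm_num, Nat.factorization_mul (by norm_num) (by norm_num),
      Finsupp.add_apply, Nat.prime_three.factorization_pow, Finsupp.single_eq_same,
      Nat.factorization_eq_zero_of_not_dvd (by norm_num : ¬ 3 ∣ 4)]
    rfl
  set Q' : Subgroup H := (Q : Subgroup B).map B.subtype with hQ'
  have hQ'card : Nat.card Q' = 729 := by
    rw [hQ', ← Nat.card_congr (Subgroup.equivMapOfInjective (Q : Subgroup B) B.subtype
      B.subtype_injective).toEquiv, hQcard]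
  have h729 : ∀ X : Subgroup H, Nat.card X = 729 → Nat.card X = 3 ^ (Nat.card H).factorization 3 := by
    intro X hX
    rw [hX, hH.card, show (3265920 : ℕ) = 4480 * 3 ^ 6 by norm_num,
      Nat.factorization_mul (by norm_num) (by norm_num), Finsupp.add_apply,
      Nat.prime_three.factorization_pow, Finsupp.single_eq_same,
      Nat.factorization_eq_zero_of_not_dvd (by norm_num : ¬ 3 ∣ 4480)]
    rfl
  obtain ⟨P⟩ : Nonempty (Sylow 3 K) := inferInstance
  set P' : Subgroup H := (P : Subgroup K).map K.subtype with hP'
  have hP'card : Nat.card P' = 729 := by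
    rw [hP', ← Nat.card_congr (Subgroup.equivMapOfInjective (P : Subgroup K) K.subtype
      K.subtype_injective).toEquiv, Sylow.card_eq_multiplicity, hK,
      show (29160 : ℕ) = 40 * 3 ^ 6 by norm_num, Nat.factorization_mul (by norm_num) (by norm_num),
      Finsupp.add_apply, Nat.prime_three.factorization_pow, Finsupp.single_eq_same,
      Nat.factorization_eq_zero_of_not_dvd (by norm_num : ¬ 3 ∣ 40)]
    rfl
  obtain ⟨g, hg⟩ := MulAction.exists_smul_eq H (Sylow.ofCard P' (h729 _ hP'card))
    (Sylow.ofCard Q' (h729 _ hQ'card))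
  have hgQ : P'.map (MulAut.conj g).toMonoidHom = Q' := congrArg Sylow.toSubgroup hg
  set K' := K.map (MulAut.conj g).toMonoidHom with hK'
  have hQK : Q' ≤ K' := by
    rw [← hgQ]
    refine Subgroup.map_mono ?_
    rintro _ ⟨x, -, rfl⟩
    exact x.2
  have hK'card : Nat.card K' = 29160 := by
    rw [hK', ← Nat.card_congr (Subgroup.equivMapOfInjective K _ (MulAut.conj g).injective).toEquiv, hK]
  have hQ0 : ∀ q ∈ Q', q • (0 : Fin 112) = 0 := by
    rintro _ ⟨q, -, rfl⟩
    exact q.2.1
  -- the orbit of the point
  set O := MulAction.orbit K' (0 : Fin 112) with hO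
  have hOdvd : O.ncard ∣ 40 := by
    have hos := (MulAction.stabilizer K' (0 : Fin 112)).card_mul_index
    rw [MulAction.index_stabilizer, ← hO, hK'card] at hos
    have hdvd : 729 ∣ Nat.card (MulAction.stabilizer K' (0 : Fin 112)) := by
      rw [← hQ'card]
      refine Subgroup.card_dvd_of_injective
        (((Subgroup.inclusion hQK).codRestrict (MulAction.stabilizer K' (0 : Fin 112))
          fun q => hQ0 _ q.2)) fun q q' e => ?_
      exact Subgroup.inclusion_injective hQK (congrArg Subtype.val e :)
    obtain ⟨m, hm⟩ := hdvd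
    rw [hm, mul_assoc] at hos
    exact ⟨m, by rw [mul_comm]; omega⟩
  have hstable : ∀ (x y : Fin 112), x ∈ O → y ∈ MulAction.orbit (Q : Subgroup B) x → y ∈ O := by
    rintro x _ ⟨k, rfl⟩ ⟨q, rfl⟩
    exact ⟨⟨(q.1 : H), hQK ⟨q.1, q.2, rfl⟩⟩ * k, mul_smul _ _ _⟩
  have hline : ∀ (g : B) (x : Fin 112), x ∈ ({6, 105, 110} : Finset (Fin 112)) →
      g • x ∈ ({6, 105, 110} : Finset (Fin 112)) := by
    intro g x hx
    have hx' : x ∈ line0 := by simp [line0] at hx ⊢; exact Or.inr hx
    have h1 : g • x ∈ line0 := by
      rw [← g.2.2]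
      exact Finset.mem_image_of_mem _ hx'
    have h2 : g • x ≠ (0 : Fin 112) := by
      intro e
      rw [← show g • (0 : Fin 112) = 0 from g.2.1] at e
      have := MulAction.injective g e
      subst this
      simp at hx
    simp only [line0, Finset.mem_insert, Finset.mem_singleton] at h1 ⊢
    exact h1.resolve_left h2
  have hadj : ∀ (g : B) (x : Fin 112), adjB 0 (g • x) = adjB 0 x := by
    intro g x
    conv_lhs => rw [← show g • (0 : Fin 112) = 0 from g.2.1]
    exact hH.le_aut g.1.2 0 x
  -- the three orbits
  have o3 : ∀ x ∈ ({6, 105, 110} : Finset (Fin 112)), ∀ y ∈ ({6, 105, 110} : Finset (Fin 112)),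
      y ∈ MulAction.orbit (Q : Subgroup B) x := by
    have h := three_cert
    simp only [Bool.and_eq_true, List.all_eq_true, List.any_eq_true, beq_iff_eq, List.mem_cons,
      List.not_mem_nil, or_false] at h
    have horb : MulAction.orbit B (6 : Fin 112) = ↑({6, 105, 110} : Finset (Fin 112)) := by
      refine Set.Subset.antisymm ?_ ?_
      · rintro _ ⟨g, rfl⟩; exact hline g 6 (by decide)
      · intro y hy
        obtain ⟨w, hw, hw'⟩ := h.2 y (by simpa using hy)
        exact ⟨⟨_, fixLine_mem hH (h.1 w hw)⟩, (wordP_apply w 6).trans hw'⟩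
    have hQ6 := sylow_orbit 3 Q (6 : Fin 112) 1 (by rw [horb, Set.ncard_coe_finset]; decide)
    intro x hx y hy
    rw [← Finset.mem_coe, ← horb, ← hQ6] at hx hy
    rw [MulAction.orbit_eq_iff.mpr hx]
    exact hy
  have o27 : ∀ x, midB x = true → ∀ y, midB y = true → y ∈ MulAction.orbit (Q : Subgroup B) x := by
    have h := mid_cert
    simp only [Bool.and_eq_true, List.all_eq_true, List.any_eq_true, beq_iff_eq, Bool.or_eq_true,
      Bool.not_eq_true'] at h
    have hmem : ∀ z, midB z = true ↔ adjB 0 z = true ∧ z ∉ ({6, 105, 110} : Finset (Fin 112)) := by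
      decide +kernel
    have horb : MulAction.orbit B (17 : Fin 112) =
        ↑(Finset.univ.filter fun z => midB z = true) := by
      refine Set.Subset.antisymm ?_ ?_
      · rintro _ ⟨g, rfl⟩
        simp only [Finset.coe_filter, Finset.mem_univ, true_and, Set.mem_ofPred_eq]
        obtain ⟨h1, h2⟩ := (hmem 17).mp h.1.2
        refine (hmem _).mpr ⟨(hadj g 17).trans h1, fun hc => h2 ?_⟩
        have := hline g⁻¹ _ hc
        rwa [inv_smul_smul] at this
      · intro y hy
        simp only [Finset.coe_filter, Finset.mem_univ, true_and, Set.mem_ofPred_eq] at hy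
        rcases h.2 y (List.mem_finRange y) with h' | ⟨w, hw, hw'⟩
        · rw [hy] at h'; exact Bool.noConfusion h'
        · exact ⟨⟨_, fixLine_mem hH (h.1.1 w hw)⟩, (wordP_apply w 17).trans hw'⟩
    have hQ17 := sylow_orbit 3 Q (17 : Fin 112) 3 (by
      rw [horb, Set.ncard_coe_finset]
      exact mid_count)
    intro x hx y hy
    have hx' : x ∈ MulAction.orbit B (17 : Fin 112) := by rw [horb]; simp [hx]
    have hy' : y ∈ MulAction.orbit B (17 : Fin 112) := by rw [horb]; simp [hy]
    rw [← hQ17] at hx' hy'
    rw [MulAction.orbit_eq_iff.mpr hx']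
    exact hy'
  have o81 : ∀ x, farB x = true → ∀ y, farB y = true → y ∈ MulAction.orbit (Q : Subgroup B) x := by
    have hmem : ∀ z, farB z = true ↔ adjB 0 z = false ∧ z ≠ 0 := by intro z; simp [farB]
    have hf1 : farB 1 = true := by decide +kernel
    have horb : MulAction.orbit B (1 : Fin 112) =
        ↑(Finset.univ.filter fun z => farB z = true) := by
      refine Set.Subset.antisymm ?_ ?_
      · rintro _ ⟨g, rfl⟩
        simp only [Finset.coe_filter, Finset.mem_univ, true_and, Set.mem_ofPred_eq]
        obtain ⟨h1, h2⟩ := (hmem 1).mp hf1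
        refine (hmem _).mpr ⟨(hadj g 1).trans h1, fun e => h2 ?_⟩
        exact MulAction.injective g (e.trans g.2.1.symm)
      · intro y hy
        simp only [Finset.coe_filter, Finset.mem_univ, true_and, Set.mem_ofPred_eq] at hy
        obtain ⟨g, hg, hg'⟩ := stab0_far hH hy
        exact ⟨⟨g, hg⟩, hg'⟩
    have hQ1 := sylow_orbit 3 Q (1 : Fin 112) 4 (by
      rw [horb, Set.ncard_coe_finset]
      exact far_count)
    intro x hx y hy
    have hx' : x ∈ MulAction.orbit B (1 : Fin 112) := by rw [horb]; simp [hx]
    have hy' : y ∈ MulAction.orbit B (1 : Fin 112) := by rw [horb]; simp [hy]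
    rw [← hQ1] at hx' hy'
    rw [MulAction.orbit_eq_iff.mpr hx']
    exact hy'
  have h0O : (0 : Fin 112) ∈ O := MulAction.mem_orbit_self 0
  have hOle : O.ncard ≤ 40 := Nat.le_of_dvd (by norm_num) hOdvd
  have no81 : ∀ x ∈ O, farB x = false := by
    intro x hx
    by_contra hc
    rw [Bool.not_eq_false] at hc
    have : (↑(Finset.univ.filter fun z => farB z = true) : Set (Fin 112)) ⊆ O := by
      intro y hy
      simp only [Finset.coe_filter, Finset.mem_univ, true_and, Set.mem_ofPred_eq] at hy
      exact hstable x y hx (o81 x hc y hy)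
    have h81 := Set.ncard_le_ncard this (Set.toFinite _)
    rw [Set.ncard_coe_finset, far_count] at h81
    omega
  have h3or : ∀ x ∈ O, x ∈ ({6, 105, 110} : Finset (Fin 112)) → ∀ y ∈ ({6, 105, 110} : Finset (Fin 112)),
      y ∈ O := fun x hx hx' y hy => hstable x y hx (o3 x hx' y hy)
  have no27 : ∀ x ∈ O, midB x = false := by
    intro x hx
    by_contra hc
    rw [Bool.not_eq_false] at hc
    have hsub : (↑(Finset.univ.filter fun z => midB z = true) : Set (Fin 112)) ⊆ O := by
      intro y hy
      simp only [Finset.coe_filter, Finset.mem_univ, true_and, Set.mem_ofPred_eq] at hy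
      exact hstable x y hx (o27 x hc y hy)
    by_cases h3 : ∃ z ∈ O, z ∈ ({6, 105, 110} : Finset (Fin 112))
    · obtain ⟨z, hz, hz'⟩ := h3
      have : O = ↑(insert 0 (({6, 105, 110} : Finset (Fin 112)) ∪
          Finset.univ.filter fun z => midB z = true)) := by
        ext y
        rw [Finset.mem_coe, Finset.mem_insert, Finset.mem_union, Finset.mem_filter]
        simp only [Finset.mem_univ, true_and]
        constructor
        · intro hy
          rcases line0_eq.2.1 y with h | h | h | h
          · exact Or.inl h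
          · exact Or.inr (Or.inl h)
          · exact Or.inr (Or.inr h)
          · rw [no81 y hy] at h; exact Bool.noConfusion h
        · rintro (rfl | h | h)
          · exact h0O
          · exact h3or z hz hz' y h
          · exact hsub (by simpa using h)
      rw [this, Set.ncard_coe_finset] at hOdvd
      rw [orbit_counts.1] at hOdvd
      norm_num at hOdvd
    · push Not at h3
      have : O = ↑(insert 0 (Finset.univ.filter fun z => midB z = true)) := by
        ext y
        simp only [Finset.coe_insert, Set.mem_insert_iff, Finset.mem_coe, Finset.mem_filter,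
          Finset.mem_univ, true_and]
        constructor
        · intro hy
          rcases line0_eq.2.1 y with h | h | h | h
          · exact Or.inl h
          · exact absurd h (h3 y hy)
          · exact Or.inr h
          · rw [no81 y hy] at h; exact Bool.noConfusion h
        · rintro (rfl | h)
          · exact h0O
          · exact hsub (by simpa using h)
      rw [this, Set.ncard_coe_finset] at hOdvd
      rw [orbit_counts.2] at hOdvd
      norm_num at hOdvd
  have hOline : O ⊆ ↑line0 := by
    intro y hy
    rcases line0_eq.2.1 y with h | h | h | h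
    · subst h; decide
    · exact Finset.mem_coe.mpr (Finset.mem_insert_of_mem h)
    · rw [no27 y hy] at h; exact Bool.noConfusion h
    · rw [no81 y hy] at h; exact Bool.noConfusion h
  have hOsingle : ∀ y ∈ O, y = 0 := by
    intro y hy
    by_contra hne
    have hyl : y ∈ ({6, 105, 110} : Finset (Fin 112)) :=
      (Finset.mem_insert.mp (Finset.mem_coe.mp (hOline hy))).resolve_left hne
    have hOeq : O = ↑line0 := Set.Subset.antisymm hOline fun z hz => by
      rcases Finset.mem_insert.mp (Finset.mem_coe.mp hz) with h | h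
      · exact h ▸ h0O
      · exact h3or y hy hyl z h
    have hinv : ∀ h ∈ K', line0.image (h : Equiv.Perm (Fin 112)) = line0 := by
      intro h hh
      refine Finset.eq_of_subset_of_card_le (fun z hz => ?_)
        (by rw [Finset.card_image_of_injective _ (h : Equiv.Perm (Fin 112)).injective])
      obtain ⟨x, hx, rfl⟩ := Finset.mem_image.mp hz
      rw [← Finset.mem_coe, ← hOeq] at hx ⊢
      obtain ⟨k, rfl⟩ := hx
      exact ⟨⟨h, hh⟩ * k, mul_smul _ _ _⟩
    have := line_stab_small hH K' hinv
    omega
  refine ⟨g⁻¹ • 0, Subgroup.eq_of_le_of_card_ge (fun k hk => ?_) ?_⟩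
  · rw [MulAction.mem_stabilizer_iff, ← smul_left_cancel_iff g, smul_inv_smul, ← mul_smul, ← mul_smul]
    exact hOsingle _ ⟨⟨g * k * g⁻¹, ⟨k, hk, rfl⟩⟩, rfl⟩
  · have hos := (MulAction.stabilizer H (g⁻¹ • (0 : Fin 112))).card_mul_index
    haveI : MulAction.IsPretransitive H (Fin 112) := MulAction.IsPretransitive.mk fun x y => by
      obtain ⟨a, ha⟩ := transitive hH x
      obtain ⟨b, hb⟩ := transitive hH y
      refine ⟨b * a⁻¹, ?_⟩
      rw [mul_smul, show a⁻¹ • x = 0 from inv_smul_eq_iff.mpr ha.symm]
      exact hb
    rw [MulAction.index_stabilizer_of_transitive, Nat.card_fin, hH.card] at hos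
    omega

/-- An invariant symmetric relation of valency 30 is the adjacency. -/
theorem rel_eq_adj (R : Fin 112 → Fin 112 → Prop) (hirr : ∀ x, ¬ R x x)
    (hinv : ∀ h ∈ H, ∀ x y, R (h x) (h y) ↔ R x y)
    (h30 : {y | R 0 y}.ncard = 30) : ∀ x y, R x y ↔ adjB x y = true := by
  classical
  have h0 : ∀ y, R 0 y ↔ adjB 0 y = true := by
    have hnfar : ∀ y, R 0 y → farB y = false := by
      intro y hy
      by_contra hc
      rw [Bool.not_eq_false] at hc
      obtain ⟨g, hg, hgy⟩ := stab0_far hH hc
      have hsub : (↑(Finset.univ.filter fun z => farB z = true) : Set (Fin 112)) ⊆ {z | R 0 z} := by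
        intro z hz
        simp only [Finset.coe_filter, Finset.mem_univ, true_and, Set.mem_ofPred_eq] at hz
        obtain ⟨g', hg', hgz⟩ := stab0_far hH hz
        have h1 : R 0 1 := (hinv g g.2 0 1).mp (by rw [hg.1, hgy]; exact hy)
        have h2 := (hinv g' g'.2 0 1).mpr h1
        rw [hg'.1, hgz] at h2
        exact h2
      have h81 := Set.ncard_le_ncard hsub (Set.toFinite _)
      rw [Set.ncard_coe_finset, far_count, h30] at h81
      omega
    have hsub : ∀ y, R 0 y → adjB 0 y = true := by
      intro y hy
      have hne : y ≠ 0 := fun e => hirr 0 (e ▸ hy)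
      have := hnfar y hy
      simpa [farB, hne] using this
    have heq : {y | R 0 y} = ↑(Finset.univ.filter fun y => adjB 0 y = true) := by
      refine Set.eq_of_subset_of_ncard_le (fun y hy => by simpa using hsub y hy) ?_ (Finset.finite_toSet _)
      rw [h30, Set.ncard_coe_finset, nbr_count]
    intro y
    have := Set.ext_iff.mp heq y
    simpa using this
  intro x y
  obtain ⟨g, rfl⟩ := transitive hH x
  obtain ⟨z, rfl⟩ := (g : Equiv.Perm (Fin 112)).surjective y
  rw [hinv g g.2, h0, hH.le_aut g.2]

/-- Meeting every clique of size four in two points. -/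
def IsTwoSet (S : Finset (Fin 112)) : Prop :=
  ∀ a b c d : Fin 112, adjB a b = true → adjB a c = true → adjB a d = true → adjB b c = true →
    adjB b d = true → adjB c d = true → (({a, b, c, d} : Finset (Fin 112)) ∩ S).card = 2

omit hH in
theorem isTwoSet_image {S : Finset (Fin 112)} (hS : IsTwoSet S) {s : Equiv.Perm (Fin 112)}
    (hs : s ∈ autAdj) : IsTwoSet (S.image s) := by
  intro a b c d hab hac had hbc hbd hcd
  obtain ⟨a, rfl⟩ := s.surjective a
  obtain ⟨b, rfl⟩ := s.surjective b
  obtain ⟨c, rfl⟩ := s.surjective c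
  obtain ⟨d, rfl⟩ := s.surjective d
  rw [hs] at hab hac had hbc hbd hcd
  rw [← hS a b c d hab hac had hbc hbd hcd]
  refine Eq.trans ?_ (Finset.card_image_of_injective _ s.injective)
  rw [Finset.image_inter _ _ s.injective]
  simp [Finset.image_insert]

/-- Such a set fixed by an element of order 7 of the group is an image of the first member. -/
theorem exists_aut {S : Finset (Fin 112)} (hS : IsTwoSet S) (u : H) (hu : orderOf u = 7)
    (hfix : S.image (u : Equiv.Perm (Fin 112)) = S) :
    ∃ s ∈ autAdj, S = (famSet 0).image s := by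
  classical
  haveI : Fact (Nat.Prime 7) := ⟨by norm_num⟩
  obtain ⟨h7, hne⟩ := g7_cert
  let v : H := ⟨wordP g7Word, wordP_mem hH g7Word⟩
  have hvf : ⇑(v : Equiv.Perm (Fin 112)) = wordF g7Word := funext (wordP_apply g7Word)
  have hv : orderOf v = 7 := by
    refine orderOf_eq_prime (Subtype.ext (Equiv.ext fun i => ?_)) fun e => hne ?_
    · rw [SubmonoidClass.coe_pow, Equiv.Perm.coe_pow, hvf]
      exact h7 i
    · rw [← hvf, e]; rfl
  have hcard : ∀ x : H, orderOf x = 7 →
      Nat.card (Subgroup.zpowers x) = 7 ^ (Nat.card H).factorization 7 := by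
    intro x hx
    rw [Nat.card_zpowers, hx, hH.card, show (3265920 : ℕ) = 466560 * 7 ^ 1 by norm_num,
      Nat.factorization_mul (by norm_num) (by norm_num), Finsupp.add_apply,
      (by norm_num : Nat.Prime 7).factorization_pow, Finsupp.single_eq_same,
      Nat.factorization_eq_zero_of_not_dvd (by norm_num : ¬ 7 ∣ 466560)]
    rfl
  obtain ⟨g, hg⟩ := MulAction.exists_smul_eq H (Sylow.ofCard _ (hcard u hu)) (Sylow.ofCard _ (hcard v hv))
  have hmem : v ∈ (Subgroup.zpowers u).map (MulAut.conj g).toMonoidHom := by
    rw [show (Subgroup.zpowers u).map (MulAut.conj g).toMonoidHom = Subgroup.zpowers v from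
      congrArg Sylow.toSubgroup hg]
    exact Subgroup.mem_zpowers v
  obtain ⟨u', hu', hv'⟩ := hmem
  let Stab : Subgroup H :=
    { carrier := {x | S.image (x : Equiv.Perm (Fin 112)) = S}
      one_mem' := Finset.image_id
      mul_mem' := fun {x y} hx hy => by
        show S.image ⇑((x * y : H) : Equiv.Perm (Fin 112)) = S
        calc S.image ⇑((x * y : H) : Equiv.Perm (Fin 112))
            = (S.image ⇑(y : Equiv.Perm (Fin 112))).image ⇑(x : Equiv.Perm (Fin 112)) := by
              rw [Finset.image_image]; rfl
          _ = S := by rw [hy, hx]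
      inv_mem' := fun {x} hx => by
        show S.image ⇑((x⁻¹ : H) : Equiv.Perm (Fin 112)) = S
        conv_lhs => rw [← show S.image ⇑(x : Equiv.Perm (Fin 112)) = S from hx]
        rw [Finset.image_image]
        simp }
  have hu'fix : S.image (u' : Equiv.Perm (Fin 112)) = S :=
    (Subgroup.zpowers_le.mpr (show u ∈ Stab from hfix)) hu'
  set S' := S.image (g : Equiv.Perm (Fin 112)) with hS'
  have hfix' : S'.image (v : Equiv.Perm (Fin 112)) = S' := by
    rw [← hv', hS', Finset.image_image]
    conv_rhs => rw [← hu'fix, Finset.image_image]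
    congr 1
    funext i
    simp
  have hstep : ∀ i, wordF g7Word i ∈ S' ↔ i ∈ S' := by
    intro i
    conv_lhs => rw [← hvf, ← hfix']
    exact (v : Equiv.Perm (Fin 112)).injective.mem_finset_image
  let x : ℕ := Nat.ofBits fun k : Fin 16 =>
    decide ((⟨orbReps.getD k.val 0 % 112, Nat.mod_lt _ (by norm_num)⟩ : Fin 112) ∈ S')
  have hx : ∀ i, i ∈ S' ↔ x.testBit (orbIdx i) = true := by
    intro i
    obtain ⟨hlt, n, hn⟩ := orb_spec i
    rw [Nat.testBit_ofBits_lt _ _ hlt, decide_eq_true_eq]
    conv_lhs => rw [← hn]
    generalize n.val = m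
    induction m with
    | zero => rfl
    | succ m ih => rw [Function.iterate_succ_apply', hstep, ih]
  have hhemi : hemiB x = true := by
    simp only [hemiB, List.all_eq_true, beq_iff_eq]
    intro l hl
    have hc := List.all_eq_true.mp lines_cliques l hl
    obtain ⟨a, b, c, d, rfl⟩ : ∃ a b c d, l = [a, b, c, d] := by
      match l, hc with
      | [a, b, c, d], _ => exact ⟨a, b, c, d, rfl⟩
    simp only [cliqueB, List.all_cons, List.all_nil, Bool.and_true, Bool.and_eq_true, Nat.blt_eq] at hc
    obtain ⟨⟨⟨⟨ha, hb⟩, hc'⟩, hd⟩, hab, hac, had, hbc, hbd, hcd⟩ := hc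
    have hS2 := isTwoSet_image hS (hH.le_aut g.2) ⟨a, ha⟩ ⟨b, hb⟩ ⟨c, hc'⟩ ⟨d, hd⟩ hab hac had hbc hbd hcd
    have hne : ∀ p q : Fin 112, adjB p q = true → p ≠ q := fun p q h e => by
      rw [e, (adj_basic q).1] at h; exact Bool.noConfusion h
    have hnd : ([⟨a, ha⟩, ⟨b, hb⟩, ⟨c, hc'⟩, ⟨d, hd⟩] : List (Fin 112)).Nodup := by
      simp only [List.nodup_cons, List.mem_cons, List.not_mem_nil, or_false, List.nodup_nil, and_true,
        not_or, not_false_eq_true]
      exact ⟨⟨hne _ _ hab, hne _ _ hac, hne _ _ had⟩, ⟨hne _ _ hbc, hne _ _ hbd⟩, hne _ _ hcd⟩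
    rw [← hS2, ← Finset.filter_mem_eq_inter]
    have hset : ({⟨a, ha⟩, ⟨b, hb⟩, ⟨c, hc'⟩, ⟨d, hd⟩} : Finset (Fin 112)) =
        ([⟨a, ha⟩, ⟨b, hb⟩, ⟨c, hc'⟩, ⟨d, hd⟩] : List (Fin 112)).toFinset := by simp
    have hfilt : ∀ l : List (Fin 112), l.toFinset.filter (fun i => i ∈ S') =
        (l.filter fun i => decide (i ∈ S')).toFinset := fun l => by ext; simp
    rw [hset, hfilt, List.toFinset_card_of_nodup (hnd.filter _),
      ← List.countP_eq_length_filter]
    have hval : ∀ (m : ℕ) (hm : m < 112),
        x.testBit (byteAt orbIdxCode m) = decide ((⟨m, hm⟩ : Fin 112) ∈ S') := fun m hm =>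
      Bool.eq_iff_iff.mpr (by rw [decide_eq_true_eq]; exact (hx ⟨m, hm⟩).symm)
    simp only [List.countP_cons, List.countP_nil, hval a ha, hval b hb, hval c hc', hval d hd]
  have hsol := search (Nat.ofBits_lt_two_pow _) hhemi
  obtain ⟨k, hk, hkx⟩ := List.getElem_of_mem hsol
  rw [sol_cert.2] at hk
  have hsolk := sol_cert.1 ⟨k, hk⟩
  simp only [solB, List.all_eq_true, beq_iff_eq, List.getD_eq_getElem solCodes 0
    (show k < solCodes.length by rw [sol_cert.2]; exact hk), hkx] at hsolk
  refine ⟨(g : Equiv.Perm (Fin 112))⁻¹ * sig ⟨k, hk⟩,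
    mul_mem (inv_mem (hH.le_aut g.2)) (sig_mem _), ?_⟩
  have hS'' : S' = (famSet 0).image (sig ⟨k, hk⟩) := by
    ext j
    obtain ⟨i, rfl⟩ := (sig ⟨k, hk⟩).surjective j
    rw [(sig ⟨k, hk⟩).injective.mem_finset_image, hx]
    simp only [famSet, maskSet, Finset.mem_filter, Finset.mem_univ, true_and]
    rw [← hsolk i (List.mem_finRange i)]
    rfl
  rw [Equiv.Perm.coe_mul, ← Finset.image_image, ← hS'', hS', Finset.image_image]
  simp

theorem fam_reach (z : Fin 162) : ∃ h ∈ H, famSet z = (famSet 0).image h := by
  suffices ∀ n, ∀ z : Fin 162, z.val = n → ∃ h ∈ H, famSet z = (famSet 0).image h from this _ z rfl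
  intro n
  induction n using Nat.strong_induction_on with
  | _ n ih =>
    intro z hz
    have h := fam_steps z
    simp only [famStepB, Bool.or_eq_true, Bool.and_eq_true, Nat.blt_eq, beq_iff_eq] at h
    rcases h with h | ⟨hlt, himg⟩
    · exact ⟨1, one_mem H, by rw [h]; simp⟩
    · obtain ⟨h', hh', he⟩ := ih _ (hz ▸ hlt) ⟨_, hlt.trans z.2⟩ rfl
      refine ⟨gen (famPar.getD z.val (0, 0)).2 * h', mul_mem (hH.gen_mem _) hh', ?_⟩
      rw [Equiv.Perm.coe_mul, ← Finset.image_image, ← he]
      exact (image_maskSet (fun _ => rfl) himg).symm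

omit hH in
theorem famSet_injective : Function.Injective famSet := fun z z' e => by
  refine fam_distinct z z' (Nat.eq_of_testBit_eq fun i => ?_)
  by_cases hi : i < 112
  · have := Finset.ext_iff.mp e ⟨i, hi⟩
    simp only [famSet, maskSet, Finset.mem_filter, Finset.mem_univ, true_and] at this
    exact Bool.eq_iff_iff.mpr this
  · rw [Nat.testBit_lt_two_pow ((fam_bound z).trans_le (Nat.pow_le_pow_right two_pos (by omega))),
      Nat.testBit_lt_two_pow ((fam_bound z').trans_le (Nat.pow_le_pow_right two_pos (by omega)))]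

/-- A set as above with at most 162 images gives the tabulated family up to an automorphism. -/
theorem exists_family {S : Finset (Fin 112)} (hS : IsTwoSet S) (u : H) (hu : orderOf u = 7)
    (hfix : S.image (u : Equiv.Perm (Fin 112)) = S)
    (h162 : ((fun h : Equiv.Perm (Fin 112) => S.image h) '' (H : Set (Equiv.Perm (Fin 112)))).ncard ≤ 162) :
    ∃ s ∈ autAdj,
      (fun h : Equiv.Perm (Fin 112) => S.image h) '' (H : Set (Equiv.Perm (Fin 112))) =
          Set.range (fun z => (famSet z).image s) ∧
      (fun h : Equiv.Perm (Fin 112) => (famSet 0).image h) '' (H : Set (Equiv.Perm (Fin 112))) =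
          Set.range famSet := by
  classical
  obtain ⟨s, hs, hSs⟩ := exists_aut hH hS u hu hfix
  set O0 := (fun h : Equiv.Perm (Fin 112) => (famSet 0).image h) '' (H : Set (Equiv.Perm (Fin 112)))
  have hmap : (fun h : Equiv.Perm (Fin 112) => S.image h) '' (H : Set (Equiv.Perm (Fin 112))) =
      (fun T : Finset (Fin 112) => T.image s) '' O0 := by
    ext T
    simp only [Set.mem_image, SetLike.mem_coe, O0, exists_exists_and_eq_and]
    constructor
    · rintro ⟨h, hh, rfl⟩
      have hh' : h ∈ H.map (MulAut.conj s).toMonoidHom := by rwa [conj_eq hH hs]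
      obtain ⟨k, hk, rfl⟩ := hh'
      refine ⟨k, hk, ?_⟩
      rw [hSs, Finset.image_image, Finset.image_image]
      congr 1
      funext i
      simp
    · rintro ⟨k, hk, rfl⟩
      refine ⟨MulAut.conj s k, ?_, ?_⟩
      · have : (MulAut.conj s) k ∈ H.map (MulAut.conj s).toMonoidHom := ⟨k, hk, rfl⟩
        rwa [conj_eq hH hs] at this
      · rw [hSs, Finset.image_image, Finset.image_image]
        congr 1
        funext i
        simp
  have hinj : Function.Injective fun T : Finset (Fin 112) => T.image s :=
    Finset.image_injective s.injective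
  have hO0 : O0 = Set.range famSet := by
    refine (Set.eq_of_subset_of_ncard_le ?_ ?_ (Set.toFinite _)).symm
    · rintro _ ⟨z, rfl⟩
      obtain ⟨h, hh, he⟩ := fam_reach hH z
      exact ⟨h, hh, he.symm⟩
    · rw [hmap, Set.ncard_image_of_injective _ hinj] at h162
      rwa [Set.ncard_range_of_injective famSet_injective, Nat.card_fin]
  refine ⟨s, hs, ?_, hO0⟩
  rw [hmap, hO0, ← Set.range_comp]
  rfl

/-- The intersection numbers of the family. -/
theorem fam_card_inter
    (hfam : (fun h : Equiv.Perm (Fin 112) => (famSet 0).image h) '' (H : Set (Equiv.Perm (Fin 112))) =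
      Set.range famSet) {z z' : Fin 162} (hne : z ≠ z') :
    (famSet z ∩ famSet z').card = 20 ∨ (famSet z ∩ famSet z').card = 32 := by
  obtain ⟨h, hh, he⟩ := fam_reach hH z
  obtain ⟨h', hh', he'⟩ := fam_reach hH z'
  have hmem : (famSet z').image ⇑h⁻¹ ∈ Set.range famSet := by
    rw [← hfam]
    exact ⟨h⁻¹ * h', mul_mem (inv_mem hh) hh', by rw [he', Finset.image_image]; rfl⟩
  obtain ⟨y, hy⟩ := hmem
  have hy0 : y ≠ 0 := by
    rintro rfl
    refine hne (famSet_injective ?_)
    rw [he, hy, Finset.image_image]
    simp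
  have key : (famSet z ∩ famSet z').card = (famSet 0 ∩ famSet y).card := by
    rw [hy, ← Finset.card_image_of_injective (famSet 0 ∩ (famSet z').image ⇑h⁻¹) h.injective,
      Finset.image_inter _ _ h.injective, ← he, Finset.image_image]
    simp
  have hcount : (famSet 0 ∩ famSet y).card =
      (List.finRange 112).countP fun i => (famCode 0).testBit i.val && (famCode y).testBit i.val := by
    have : famSet 0 ∩ famSet y = (List.finRange 112).toFinset.filter fun i =>
        ((famCode 0).testBit i.val && (famCode y).testBit i.val) = true := by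
      ext i; simp [famSet, maskSet]
    rw [this, ← List.toFinset_filter, List.toFinset_card_of_nodup ((List.nodup_finRange _).filter _),
      ← List.countP_eq_length_filter]
  rw [key, hcount]
  exact fam_inter y hy0

theorem famSet_card (z : Fin 162) : (famSet z).card = 56 := by
  obtain ⟨h, -, he⟩ := fam_reach hH z
  rw [he, Finset.card_image_of_injective _ h.injective]
  have h2 := fam_card
  have hset : famSet 0 = ((List.finRange 112).filter fun i : Fin 112 => (famCode 0).testBit i.val).toFinset := by
    ext i
    simp [famSet, maskSet]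
  rw [hset, List.toFinset_card_of_nodup ((List.nodup_finRange _).filter _)]
  exact List.countP_eq_length_filter.symm.trans h2

/-- Inside a member each point has ten neighbours. -/
theorem famSet_inner (z : Fin 162) (y : Fin 112) (hy : y ∈ famSet z) :
    (Finset.univ.filter fun x => x ∈ famSet z ∧ adjB y x = true).card = 10 := by
  obtain ⟨h, hh, he⟩ := fam_reach hH z
  rw [he] at hy
  obtain ⟨p, hp, rfl⟩ := Finset.mem_image.mp hy
  rw [← fam_inner_zero p (by simpa [famSet, maskSet] using hp), List.countP_eq_length_filter,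
    ← List.toFinset_card_of_nodup ((List.nodup_finRange _).filter _),
    ← Finset.card_image_of_injective (List.toFinset _) h.injective]
  congr 1
  ext x
  obtain ⟨x0, rfl⟩ := h.surjective x
  rw [he, Finset.mem_filter, h.injective.mem_finset_image, h.injective.mem_finset_image]
  simp only [Finset.mem_filter, Finset.mem_univ, true_and, h.injective.mem_finset_image, hH.le_aut hh p x0,
    List.mem_toFinset, List.mem_filter, List.mem_finRange, Bool.and_eq_true, famSet, maskSet]

end CfsgLib.Steiner.McL
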