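import Cfsg.Agent.Lib.Steiner.RankThreeMcL
import Cfsg.Agent.Lib.Sporadic.ConwayPsu43.Iso
import Cfsg.Agent.Lib.Sporadic.MclOutApp
import Cfsg.Agent.Lib.Golay.LeechOrbit.Normal

/-!
The point stabiliser of McL on 112 vectors of the Leech lattice as a group of the tabulated graph,
and the recognition of McL from its rank three action.
-/

set_option autoImplicit false
set_option maxRecDepth 100000

namespace CfsgLib.Steiner.McLModel

open Cfsg CfsgLib.Golay CfsgLib.Golay.LeechOrbit CfsgLib.MonsterType CfsgLib.Sporadic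
open CfsgLib.Sporadic.ConwayPairs CfsgLib.Sporadic.ConwayPsu43

/-- The test on the key of one of the 112 vectors. -/
noncomputable def vecOK (i : ℕ) : Bool :=
  forceN (keyT.get i) fun k =>
    latA (vecK k) && decide (dotL (toL (vecK k)) (toL (vecK k)) = 32) && keyOf (vecK k) == k &&
      decide (dotL (toL (Spor.leechV : GolayPt → ℤ)) (toL (vecK k)) = 24) &&
      decide (dotL (toL (negU : GolayPt → ℤ)) (toL (vecK k)) = 16) &&
      decide (dotL (toL (root275 : GolayPt → ℤ)) (toL (vecK k)) = 8)

theorem vecs_ok : allFrom 0 112 vecOK = true := by decide +kernel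

theorem keys_distinct : ∀ i j : Fin 112, keyT.get i.val = keyT.get j.val → i = j := by decide +kernel

/-- The digits of the keys against the first row of adjacency. -/
noncomputable def adjOK (j : ℕ) : Bool :=
  forceN (keyT.get 0) fun k0 => forceN (keyT.get j) fun kj =>
    (decide (dotL (digitsF 24 k0) (digitsF 24 kj) = 8)) == McL.adjCode.testBit j

theorem adj_ok : allFrom 0 112 adjOK = true := by decide +kernel

theorem succ_ok : ∀ k : Fin 4, ∀ i : Fin 112,
    succT.get (112 * k.val + i.val) = (McL.mapOf (McL.genCode.getD k.val 0) i).val := by decide +kernel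

/-- The vector at an index. -/
noncomputable def pnt (i : Fin 112) : leechLattice :=
  ⟨vecK (keyT.get i.val), mem_of_latA (by
    have h := of_allFrom_zero vecs_ok i.2
    simp only [vecOK, forceN_eq, Bool.and_eq_true] at h
    exact h.1.1.1.1.1)⟩

theorem pnt_mem (i : Fin 112) : pnt i ∈ consSet cs112 := by
  have h := of_allFrom_zero vecs_ok i.2
  simp only [vecOK, forceN_eq, Bool.and_eq_true, decide_eq_true_eq, beq_iff_eq] at h
  refine mem_cons3.mpr ⟨?_, ?_, ?_, ?_⟩
  · rw [sqNorm_eq_dotL]; exact h.1.1.1.1.2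
  · rw [dotInt_eq_dotL]; exact h.1.1.2
  · rw [dotInt_eq_dotL]; exact h.1.2
  · rw [dotInt_eq_dotL]; exact h.2

theorem key_pnt (i : Fin 112) : keyOf ((pnt i : leechLattice) : GolayPt → ℤ) = keyT.get i.val := by
  have h := of_allFrom_zero vecs_ok i.2
  simp only [vecOK, forceN_eq, Bool.and_eq_true, beq_iff_eq] at h
  exact h.1.1.1.2

theorem pnt_injective : Function.Injective pnt := fun i j e =>
  keys_distinct i j (by rw [← key_pnt, ← key_pnt, e])

theorem adjB_zero_iff (j : Fin 112) :
    dotInt (pnt 0 : GolayPt → ℤ) (pnt j : GolayPt → ℤ) = 8 ↔ McL.adjB 0 j = true := by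
  have h := of_allFrom_zero adj_ok j.2
  simp only [adjOK, forceN_eq, beq_iff_eq, digitsF_eq] at h
  rw [← toL_vecK, ← toL_vecK, ← dotInt_eq_dotL] at h
  rw [McL.adjB, show 112 * (0 : Fin 112).val + j.val = j.val by simp, ← h, decide_eq_true_eq]
  rfl

theorem G0_eq : ConwayPsu43.G0 = consStab cs112 := by
  ext γ
  simp [cs112, ConwayPsu43.G0, mem_consStab]

/-- The 112 vectors. -/
abbrev Pts : Type := {x : leechLattice // x ∈ consSet cs112}

noncomputable instance actPts : MulAction ConwayPsu43.G0 Pts where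
  smul γ x := ⟨(γ : Co0) • x.1, smul_mem_consSet (by rw [← G0_eq]; exact γ.2) x.2⟩
  one_smul x := Subtype.ext (one_smul Co0 x.1)
  mul_smul γ δ x := Subtype.ext (mul_smul (γ : Co0) δ x.1)

theorem pnt_bijective : Function.Bijective fun i : Fin 112 => (⟨pnt i, pnt_mem i⟩ : Pts) := by
  have hinj : Function.Injective fun i : Fin 112 => (⟨pnt i, pnt_mem i⟩ : Pts) :=
    fun i j e => pnt_injective (congrArg Subtype.val e)
  refine ⟨hinj, fun x => ?_⟩
  have hfin : (consSet cs112).Finite := Set.finite_of_ncard_pos (by rw [spec112.ncard]; norm_num)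
  have heq : Set.range pnt = consSet cs112 := by
    refine Set.eq_of_subset_of_ncard_le ?_ ?_ hfin
    · rintro _ ⟨i, rfl⟩; exact pnt_mem i
    · rw [Set.ncard_range_of_injective pnt_injective, spec112.ncard, Nat.card_fin]
  obtain ⟨i, hi⟩ : x.1 ∈ Set.range pnt := by rw [heq]; exact x.2
  exact ⟨i, Subtype.ext hi⟩

/-- The numbering of the 112 vectors. -/
noncomputable def num : Fin 112 ≃ Pts := Equiv.ofBijective _ pnt_bijective

/-- The action on the indices. -/
noncomputable def perm : ConwayPsu43.G0 →* Equiv.Perm (Fin 112) :=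
  (num.symm.permCongrHom).toMonoidHom.comp (MulAction.toPermHom ConwayPsu43.G0 Pts)

theorem pnt_perm (γ : ConwayPsu43.G0) (i : Fin 112) : pnt (perm γ i) = (γ : Co0) • pnt i := by
  have h : num (perm γ i) = γ • num i := by
    show num (num.symm (γ • num i)) = _
    rw [num.apply_symm_apply]
  exact congrArg Subtype.val h

theorem perm_gen (k : Fin 4) : perm (sGen k) = McL.gen k := by
  refine Equiv.ext fun i => pnt_injective (Subtype.ext ?_)
  have hm := pnt_mem i
  have hi : sqNorm ((pnt i : leechLattice) : GolayPt → ℤ) = 32 := hm.1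
  refine eq_of_keyOf (pnt_mem _).1 (pnt_mem _).1 ?_
  rw [key_pnt, key_pnt]
  have h := moves_ok k k.2 i.val i.2
  simp only [moveOK, forceN_eq, Bool.and_eq_true, Nat.blt_eq, decide_eq_true_eq] at h
  obtain ⟨⟨⟨-, hdot⟩, -⟩, -⟩ := h
  have hcol : gCols.getD k [] = colsW (gWs.getD k []) := by
    have hg := gens_ok
    simp only [Bool.and_eq_true, beq_iff_eq] at hg
    rw [cols_g, List.getD_eq_getElem _ _ (by rw [List.length_map, hg.1.2]; exact k.2),
      List.getD_eq_getElem _ _ (by rw [hg.1.2]; exact k.2), List.getElem_map]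
  rw [hcol, digitsF_eq, ← toL_vecK, ← key_pnt, vecK_keyOf hi, ← pack_wordW] at hdot
  have e : pack (((sGen k : Co0) • pnt i : leechLattice) : GolayPt → ℤ) + off =
      (keyT.get (succT.get (112 * k.val + i.val)) : ℤ) := by
    show pack ((wordW (gWs.getD k []) • pnt i : leechLattice) : GolayPt → ℤ) + off = _
    linarith
  have e2 : keyT.get (perm (sGen k) i).val = keyT.get (succT.get (112 * k.val + i.val)) := by
    rw [← key_pnt, pnt_perm, keyOf, e, Int.toNat_natCast]
  rw [e2, succ_ok k i]
  rfl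

theorem adjB_iff (i j : Fin 112) :
    dotInt (pnt i : GolayPt → ℤ) (pnt j : GolayPt → ℤ) = 8 ↔ McL.adjB i j = true := by
  have hcert := McL.point_cert
  simp only [List.all_eq_true, List.any_eq_true, beq_iff_eq] at hcert
  obtain ⟨w, -, hw⟩ := hcert i (List.mem_finRange i)
  have hperm : perm (w.map sGen).prod = McL.wordP w := by
    rw [map_list_prod, List.map_map, McL.wordP]
    congr 1
    exact List.map_congr_left fun k _ => perm_gen k
  obtain ⟨j', rfl⟩ := (McL.wordP w).surjective j
  have h0 : McL.wordP w 0 = i := (McL.wordP_apply w 0).trans hw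
  rw [← h0, McL.mem_autAdj.mp (McL.wordP_mem_autAdj w), ← hperm, pnt_perm, pnt_perm, dot_smul_lat]
  exact adjB_zero_iff j'

theorem setup : McL.Setup perm.range ∧ Function.Injective perm := by
  have := co0_finite
  haveI : Fact (Nat.Prime 3) := ⟨Nat.prime_three⟩
  haveI := Fintype.ofFinite (GaloisField 3 2)
  have hF : Fintype.card (GaloisField 3 2) = 3 ^ 2 := by
    rw [← Nat.card_eq_fintype_card]; exact GaloisField.card 3 2 (by norm_num)
  obtain ⟨w, hw⟩ : IsSquare (-1 : GaloisField 3 2) :=
    FiniteField.isSquare_neg_one_iff.mpr (by rw [hF]; norm_num)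
  obtain ⟨e⟩ := ConwayPsu43.iso_G0 hF (w := w) (by rw [sq]; exact hw.symm)
  haveI := CfsgLib.ClassicalGroups.psu_isSimpleGroup (n := 4) (q := 3) hF (by norm_num) (by norm_num)
  haveI : IsSimpleGroup ConwayPsu43.G0 := e.isSimpleGroup
  have hinj : Function.Injective perm := by
    rcases IsSimpleGroup.eq_bot_or_eq_top_of_normal perm.ker inferInstance with h | h
    · exact (MonoidHom.ker_eq_bot_iff _).mp h
    · exfalso
      have h1 : perm (sGen 0) = 1 := MonoidHom.mem_ker.mp (h ▸ Subgroup.mem_top _)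
      rw [perm_gen] at h1
      have h2 := congrFun (congrArg DFunLike.coe h1) 0
      revert h2
      decide +kernel
  let ee := MonoidHom.ofInjective hinj
  refine ⟨⟨(Nat.card_congr ee.toEquiv).symm.trans ConwayPsu43.card_G0, ee.symm.isSimpleGroup,
    fun k => ⟨sGen k, perm_gen k⟩, ?_⟩, hinj⟩
  rintro _ ⟨γ, rfl⟩
  intro i j
  refine Bool.eq_iff_iff.mpr ?_
  rw [← adjB_iff, ← adjB_iff, pnt_perm, pnt_perm, dot_smul_lat]

/-! ## The model on 275 vectors -/

/-- The 275 vectors. -/
abbrev Big : Type := {x : leechLattice // x ∈ consSet cs275}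

theorem consStab_275 : consStab cs275 = pairStab negU := by
  ext γ
  simp [cs275, mem_consStab, pairStab, MulAction.mem_stabilizer_iff]

noncomputable instance actBig : MulAction (pairStab negU) Big where
  smul γ x := ⟨(γ : Co0) • x.1, smul_mem_consSet (by rw [consStab_275]; exact γ.2) x.2⟩
  one_smul x := Subtype.ext (one_smul Co0 x.1)
  mul_smul γ δ x := Subtype.ext (mul_smul (γ : Co0) δ x.1)

instance : MulAction.IsPretransitive (pairStab negU) Big :=
  MulAction.IsPretransitive.mk fun x y => by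
    obtain ⟨γ, hγ, e⟩ := spec275.exists_smul x.2 y.2
    exact ⟨⟨γ, consStab_275 ▸ hγ⟩, Subtype.ext e⟩

theorem finite_big : Finite Big :=
  (Set.finite_of_ncard_pos (s := consSet cs275) (by rw [spec275.ncard]; norm_num)).to_subtype

theorem isMcL_pairStab : Cfsg.IsMcL (pairStab negU) := by
  rw [show negU = -Spor.leechU from rfl, ConwayPairOrders.pairStab_neg]
  exact isMcL_of_card (PairOutApps.card_mcl.trans (by norm_num))

instance : FaithfulSMul (pairStab negU) Big := by
  refine ⟨fun {g h} e => ?_⟩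
  haveI := isMcL_pairStab.1
  rcases IsSimpleGroup.eq_bot_or_eq_top_of_normal
    (MulAction.toPermHom (pairStab negU) Big).ker inferInstance with hk | hk
  · exact (MonoidHom.ker_eq_bot_iff _).mp hk (Equiv.ext e)
  · exfalso
    have h1 : ∀ (γ : pairStab negU) (x : Big), γ • x = x := fun γ x =>
      congrFun (congrArg DFunLike.coe (MonoidHom.mem_ker.mp (hk ▸ Subgroup.mem_top γ))) x
    haveI := finite_big
    obtain ⟨x, y, hxy⟩ := (Set.one_lt_ncard_iff (Set.toFinite _)).mp
      (show 1 < (consSet cs275).ncard by rw [spec275.ncard]; norm_num)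
    obtain ⟨γ, hγ⟩ := MulAction.exists_smul_eq (pairStab negU)
      (⟨x, hxy.1⟩ : Big) (⟨y, hxy.2.1⟩ : Big)
    exact hxy.2.2 (congrArg Subtype.val ((h1 γ _).symm.trans hγ))

/-- The base vector. -/
abbrev base : Big := ⟨root275, spec275.root_mem⟩

/-- The stabiliser of the base vector. -/
noncomputable def stabEquiv : MulAction.stabilizer (pairStab negU) base ≃* ConwayPsu43.G0 where
  toFun g := ⟨(g.1 : Co0), by
    have h1 := g.1.2.1
    have h2 := g.1.2.2
    have h3 : (g.1 : Co0) • root275 = root275 := congrArg Subtype.val g.2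
    intro c hc
    simp only [List.mem_cons, List.not_mem_nil, or_false] at hc
    rcases hc with rfl | rfl | rfl <;> assumption⟩
  invFun g := ⟨⟨(g : Co0), ⟨g.2 (Spor.leechV, 24) (by simp), g.2 (negU, 16) (by simp)⟩⟩,
    Subtype.ext (g.2 (root275, 0) (by simp))⟩
  left_inv _ := rfl
  right_inv _ := rfl
  map_mul' _ _ := rfl

/-- The suborbit cut out by one more inner product. -/
theorem orbit_ncard {r : leechLattice} {k : ℤ} {n : ℕ}
    (h : OrbitSpec [(Spor.leechV, 24), (negU, 16), (root275, k)] r n) :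
    ∃ b : Big, (MulAction.orbit (MulAction.stabilizer (pairStab negU) base) b).ncard = n := by
  have hsub : consSet [(Spor.leechV, 24), (negU, 16), (root275, k)] ⊆ consSet cs275 :=
    consSet_mono (by simp [cs275])
  refine ⟨⟨r, hsub h.root_mem⟩, ?_⟩
  refine Eq.trans ?_ h.ncard
  rw [← Set.ncard_image_of_injective _ Subtype.val_injective]
  congr 1
  ext x
  constructor
  · rintro ⟨_, ⟨g, rfl⟩, rfl⟩
    exact smul_mem_consSet (consStab3.mpr ⟨g.1.2.1, g.1.2.2, congrArg Subtype.val g.2⟩) h.root_mem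
  · intro hx
    obtain ⟨γ, hγ, e⟩ := h.trans x hx
    obtain ⟨h1, h2, h3⟩ := consStab3.mp hγ
    exact ⟨⟨x, hsub hx⟩, ⟨⟨⟨γ, h1, h2⟩, Subtype.ext h3⟩, Subtype.ext e⟩, rfl⟩

/-- Recognition of McL from its rank three action. -/
theorem isoMcL_of_rank_three {G Ω : Type*} [Group G] [Finite G] [MulAction G Ω] [FaithfulSMul G Ω]
    [Fintype Ω] [DecidableEq Ω] [MulAction.IsPretransitive G Ω] (hΩ : Fintype.card Ω = 275) (a b c : Ω)
    {F : Type} [Field F] [Fintype F] (hF : Fintype.card F = 9)
    (e : MulAction.stabilizer G a ≃* Cfsg.PSU 4 F 3)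
    (hb : (MulAction.orbit (MulAction.stabilizer G a) b).ncard = 112)
    (hc : (MulAction.orbit (MulAction.stabilizer G a) c).ncard = 162) : Spor.IsoMcL G := by
  classical
  haveI := co0_finite
  haveI := finite_big
  haveI := Fintype.ofFinite Big
  have hF' : Fintype.card F = 3 ^ 2 := hF
  obtain ⟨w, hw⟩ : IsSquare (-1 : F) := FiniteField.isSquare_neg_one_iff.mpr (by rw [hF]; norm_num)
  obtain ⟨f⟩ := ConwayPsu43.iso_G0 hF' (w := w) (by rw [sq]; exact hw.symm)
  obtain ⟨hH, hinj⟩ := setup
  let ee := MonoidHom.ofInjective hinj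
  have h275 : Fintype.card Big = 275 := by
    rw [← Nat.card_eq_fintype_card, Nat.card_coe_set_eq]
    exact spec275.ncard
  obtain ⟨b', hb'⟩ := orbit_ncard spec112
  obtain ⟨c', hc'⟩ := orbit_ncard spec162
  obtain ⟨g⟩ := McL.nonempty_mulEquiv (G' := pairStab negU) (Ω' := Big) hH hΩ h275 a b c base b' c'
    ((e.trans f.symm).trans ee) (stabEquiv.trans ee) hb hc hb' hc'
  have hP : pairStab negU = pairStab Spor.leechU := by
    rw [show negU = -Spor.leechU from rfl, ConwayPairOrders.pairStab_neg]
  exact ⟨(g.trans (MulEquiv.subgroupCongr hP)).trans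
    (((pairStab Spor.leechU).equivMapOfInjective Co0.subtype Co0.subtype_injective).trans
      (MulEquiv.subgroupCongr (PairOutApps.map_pairStab Spor.leechU)))⟩

end CfsgLib.Steiner.McLModel
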