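import Mathlib
import Cfsg.Agent.Lib.Steiner.McLLocal
import Cfsg.Agent.Lib.Steiner.OrbitalGraph

/-!
Rank three groups on 275 points with suborbits 112 and 162 and simple point stabilisers of order
3265920 act on the tabulated graph, and two of them are isomorphic.
-/

set_option autoImplicit false

namespace CfsgLib.Steiner.McL

/-- The vertices of the large graph. -/
abbrev Vtx : Type := Option (Fin 112 ⊕ Fin 162)

/-- Adjacency in the large graph. -/
def vAdj : Vtx → Vtx → Prop
  | none, some (Sum.inl _) => True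
  | some (Sum.inl _), none => True
  | some (Sum.inl i), some (Sum.inl j) => adjB i j = true
  | some (Sum.inl i), some (Sum.inr z) => i ∈ famSet z
  | some (Sum.inr z), some (Sum.inl i) => i ∈ famSet z
  | some (Sum.inr z), some (Sum.inr z') => z ≠ z' ∧ (famSet z ∩ famSet z').card = 20
  | _, _ => False

/-- The tabulated graph on 275 vertices. -/
def mclGraph : SimpleGraph Vtx where
  Adj := vAdj
  symm := ⟨by
    rintro (_ | (i | z)) (_ | (j | z')) h <;> simp only [vAdj] at h ⊢ <;> try exact h
    · rwa [← (adj_basic i).2.2 j]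
    · exact ⟨h.1.symm, by rw [Finset.inter_comm]; exact h.2⟩⟩
  loopless := ⟨by
    rintro (_ | (i | z)) h <;> simp only [vAdj] at h
    · rw [(adj_basic i).1] at h; exact Bool.noConfusion h
    · exact h.1 rfl⟩

theorem mclGraph_adj (x y : Vtx) : mclGraph.Adj x y ↔ vAdj x y := Iff.rfl

/-- The parameters. -/
theorem params {V : Type*} [Fintype V] [DecidableEq V] {Γ : SimpleGraph V} [DecidableRel Γ.Adj]
    {l m : ℕ} (h : Γ.IsSRGWith 275 112 l m) : l = 30 ∧ m = 56 := by
  have hp := h.param_eq Γ (by norm_num)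
  obtain ⟨v⟩ : Nonempty V := Fintype.card_pos_iff.mp (by rw [h.card]; norm_num)
  have hd : 0 < Γ.degree v := by rw [h.regular v]; norm_num
  obtain ⟨w, hw⟩ := (Γ.degree_pos_iff_exists_adj v).mp hd
  have hl := hw.card_commonNeighbors_lt_degree
  rw [h.of_adj v w hw, h.regular v] at hl
  by_cases h111 : l = 111
  · exfalso
    subst h111
    obtain rfl : m = 0 := by omega
    have htr : ∀ x y z, Γ.Adj x y → Γ.Adj y z → x ≠ z → Γ.Adj x z := by
      intro x y z h1 h2 hne
      by_contra hn
      have h0 := h.of_not_adj hne hn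
      rw [Fintype.card_eq_zero_iff] at h0
      exact h0.elim ⟨y, h1, h2.symm⟩
    let C : V → Finset V := fun x => insert x (Γ.neighborFinset x)
    have hC : ∀ x, (C x).card = 113 := fun x => by
      rw [Finset.card_insert_of_notMem (by simp), SimpleGraph.card_neighborFinset_eq_degree, h.regular x]
    have hsame : ∀ x y, y ∈ C x → C y = C x := by
      intro x y hy
      simp only [C, Finset.mem_insert, SimpleGraph.mem_neighborFinset] at hy
      rcases hy with rfl | hy
      · rfl
      refine Finset.eq_of_subset_of_card_le (fun z hz => ?_) (by rw [hC, hC])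
      simp only [C, Finset.mem_insert, SimpleGraph.mem_neighborFinset] at hz ⊢
      by_cases hzx : z = x
      · exact Or.inl hzx
      rcases hz with rfl | hz
      · exact Or.inr hy
      · exact Or.inr (htr x y z hy hz (Ne.symm hzx))
    have hs := Finset.card_eq_sum_card_image C (Finset.univ : Finset V)
    rw [Finset.card_univ, h.card,
      Finset.sum_congr rfl fun c hc => show (Finset.univ.filter fun x => C x = c).card = 113 by
        obtain ⟨x, -, rfl⟩ := Finset.mem_image.mp hc
        rw [← hC x]
        congr 1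
        ext y
        simp only [Finset.mem_filter, Finset.mem_univ, true_and]
        exact ⟨fun e => e ▸ Finset.mem_insert_self _ _, hsame x y⟩,
      Finset.sum_const, smul_eq_mul] at hs
    omega
  · omega

variable {G Ω : Type*} [Group G] [Finite G] [MulAction G Ω] [FaithfulSMul G Ω] [Fintype Ω]
  [DecidableEq Ω] [MulAction.IsPretransitive G Ω] {H : Subgroup (Equiv.Perm (Fin 112))}

theorem card_group (hH : Setup H) (hΩ : Fintype.card Ω = 275) (a : Ω)
    (ε : MulAction.stabilizer G a ≃* H) : Nat.card G = 898128000 := by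
  rw [← (MulAction.stabilizer G a).card_mul_index, MulAction.index_stabilizer_of_transitive,
    Nat.card_congr ε.toEquiv, hH.card, Nat.card_eq_fintype_card, hΩ]

theorem exists_model (hH : Setup H) (hΩ : Fintype.card Ω = 275) (a b c : Ω)
    (ε : MulAction.stabilizer G a ≃* H)
    (hb : (MulAction.orbit (MulAction.stabilizer G a) b).ncard = 112)
    (hc : (MulAction.orbit (MulAction.stabilizer G a) c).ncard = 162) :
    ∃ e : Ω ≃ Vtx, e a = none ∧
      (∀ (g : G) (x y : Ω), mclGraph.Adj (e (g • x)) (e (g • y)) ↔ mclGraph.Adj (e x) (e y)) ∧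
      (∀ i, e.symm (some (Sum.inl i)) ∈ MulAction.orbit (MulAction.stabilizer G a) b) ∧
      ∀ z, e.symm (some (Sum.inr z)) ∈ MulAction.orbit (MulAction.stabilizer G a) c := by
  classical
  have hG2 : 2 ∣ Nat.card G := by rw [card_group hH hΩ a ε]; norm_num
  obtain ⟨Γ, _, l, m, hs, hadj, hnbr⟩ := OrbitalGraph.exists_graph hΩ (k := 112) (k' := 162)
    (by norm_num) (by norm_num) (by norm_num) (by norm_num) hG2 a b c hb hc
  obtain ⟨rfl, rfl⟩ := params hs
  set S := MulAction.stabilizer G a with hS
  have hScard : Nat.card S = 3265920 := (Nat.card_congr ε.toEquiv).trans hH.card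
  -- the neighbours of `a` as the 112 points
  set K := MulAction.stabilizer S b with hK
  have hKcard : Nat.card K = 29160 := by
    have := K.card_mul_index
    rw [hK, MulAction.index_stabilizer, hb, hScard, ← hK] at this
    omega
  obtain ⟨p, hp⟩ := exists_fixed hH (K.map ε.toMonoidHom) (by
    rw [← Nat.card_congr (Subgroup.equivMapOfInjective K _ ε.injective).toEquiv, hKcard])
  have hfixb : ∀ h : H, h • p = p → (ε.symm h) • b = b := by
    intro h hh
    have : h ∈ K.map ε.toMonoidHom := by rw [hp]; exact hh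
    obtain ⟨k, hk, rfl⟩ := this
    show ε.symm (ε k) • b = b
    rw [ε.symm_apply_apply]
    exact hk
  haveI : MulAction.IsPretransitive H (Fin 112) := MulAction.IsPretransitive.mk fun x y => by
    obtain ⟨g, hg⟩ := transitive hH x
    obtain ⟨g', hg'⟩ := transitive hH y
    refine ⟨g' * g⁻¹, ?_⟩
    rw [mul_smul, show g⁻¹ • x = 0 from inv_smul_eq_iff.mpr hg.symm]
    exact hg'
  choose t ht using fun y : Fin 112 => MulAction.exists_smul_eq H p y
  let φ : Fin 112 → Ω := fun y => ((ε.symm (t y) : S) • b)
  have hφb : ∀ h : H, φ (h • p) = ε.symm h • b := by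
    intro h
    have := hfixb (h⁻¹ * t (h • p)) (by rw [mul_smul, ht, inv_smul_smul])
    rw [map_mul, map_inv, mul_smul, inv_smul_eq_iff] at this
    exact this
  have hφ : ∀ (h : H) (y : Fin 112), φ (h • y) = ε.symm h • φ y := by
    intro h y
    conv_lhs => rw [← ht y, ← mul_smul]
    rw [hφb, map_mul, mul_smul]
  have hφinj : Function.Injective φ := by
    intro y y' e
    have h1 : ε.symm ((t y)⁻¹ * t y') • b = b := by
      rw [map_mul, map_inv, mul_smul, inv_smul_eq_iff]
      exact e.symm
    have h2 : (t y)⁻¹ * t y' ∈ K.map ε.toMonoidHom := ⟨_, h1, ε.apply_symm_apply _⟩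
    rw [hp, MulAction.mem_stabilizer_iff, mul_smul, inv_smul_eq_iff, ht, ht] at h2
    exact h2.symm
  have hrange : Set.range φ = MulAction.orbit S b := by
    ext x
    refine ⟨?_, ?_⟩
    · rintro ⟨y, rfl⟩; exact ⟨_, rfl⟩
    · rintro ⟨s, rfl⟩
      exact ⟨ε s • p, by rw [hφb, MulEquiv.symm_apply_apply]⟩
  have hnbr' : ∀ x, Γ.Adj a x ↔ x ∈ Set.range φ := fun x => by rw [hrange]; exact hnbr x
  have haφ : ∀ y, Γ.Adj a (φ y) := fun y => (hnbr' _).mpr ⟨y, rfl⟩
  have hSadj : ∀ (s : S) (x y : Ω), Γ.Adj (s • x) (s • y) ↔ Γ.Adj x y := fun s x y => hadj s.1 x y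
  have hSa : ∀ s : S, s • a = a := fun s => s.2
  -- common neighbour counts
  have hcn : ∀ x y, Γ.Adj x y → (Finset.univ.filter fun z => Γ.Adj x z ∧ Γ.Adj y z).card = 30 := by
    intro x y h
    rw [← hs.of_adj x y h, Fintype.card_subtype]
    rfl
  have hcn' : ∀ x y, x ≠ y → ¬ Γ.Adj x y →
      (Finset.univ.filter fun z => Γ.Adj x z ∧ Γ.Adj y z).card = 56 := by
    intro x y hne h
    rw [← hs.of_not_adj hne h, Fintype.card_subtype]
    rfl
  have hdeg : ∀ x, (Finset.univ.filter fun z => Γ.Adj x z).card = 112 := by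
    intro x
    rw [← SimpleGraph.neighborFinset_eq_filter]
    exact hs.regular x
  -- the graph on the neighbours
  have hin : ∀ x y, Γ.Adj (φ x) (φ y) ↔ adjB x y = true := by
    refine rel_eq_adj hH (fun x y => Γ.Adj (φ x) (φ y)) (fun x => Γ.irrefl) ?_ ?_
    · intro h hh x y
      have e := hSadj (ε.symm ⟨h, hh⟩) (φ x) (φ y)
      rw [← hφ, ← hφ] at e
      exact e
    · rw [← Set.ncard_image_of_injective _ hφinj, ← hcn a (φ 0) (haφ 0), ← Set.ncard_coe_finset]
      congr 1
      ext z
      simp only [Set.mem_image, Set.mem_ofPred_eq, Finset.coe_filter, Finset.mem_univ, true_and]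
      constructor
      · rintro ⟨y, hy, rfl⟩; exact ⟨haφ y, hy⟩
      · rintro ⟨h1, h2⟩
        obtain ⟨y, rfl⟩ := (hnbr' z).mp h1
        exact ⟨y, h2, rfl⟩
  -- the vertices at distance two
  set X := Finset.univ.filter fun z => z ≠ a ∧ ¬ Γ.Adj a z with hX
  have hsplit : ∀ (P : Ω → Prop) [DecidablePred P], ¬ P a →
      (Finset.univ.filter P).card =
        (Finset.univ.filter fun y => P (φ y)).card + (X.filter P).card := by
    intro P _ hPa
    have hN : (Finset.univ.filter fun y => P (φ y)).image φ =
        Finset.univ.filter fun z => P z ∧ Γ.Adj a z := by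
      ext z
      simp only [Finset.mem_image, Finset.mem_filter, Finset.mem_univ, true_and]
      constructor
      · rintro ⟨y, hy, rfl⟩; exact ⟨hy, haφ y⟩
      · rintro ⟨h1, h2⟩
        obtain ⟨y, rfl⟩ := (hnbr' z).mp h2
        exact ⟨y, h1, rfl⟩
    rw [← Finset.card_image_of_injective _ hφinj, hN, hX, Finset.filter_filter,
      ← Finset.card_union_of_disjoint]
    · congr 1
      ext z
      simp only [Finset.mem_filter, Finset.mem_univ, true_and, Finset.mem_union]
      refine ⟨fun h => ?_, fun h => h.elim (·.1) (·.2)⟩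
      by_cases ha : Γ.Adj a z
      · exact Or.inl ⟨h, ha⟩
      · exact Or.inr ⟨⟨fun e => hPa (e ▸ h), ha⟩, h⟩
    · rw [Finset.disjoint_left]
      intro z hz hz'
      simp only [Finset.mem_filter] at hz hz'
      exact hz'.2.1.2 hz.2.2
  have hXcard : X.card = 162 := by
    have hins : Finset.univ = insert a (X ∪ Finset.univ.filter fun z => Γ.Adj a z) := by
      ext z
      simp only [hX, Finset.mem_univ, Finset.mem_insert, Finset.mem_union, Finset.mem_filter, true_and,
        true_iff]
      tauto
    have h := congrArg Finset.card hins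
    rw [Finset.card_univ, hΩ, Finset.card_insert_of_notMem (by simp [hX]),
      Finset.card_union_of_disjoint (by
        rw [Finset.disjoint_left]; intro z hz hz'; simp only [hX, Finset.mem_filter] at hz hz'
        exact hz.2.2 hz'.2), hdeg] at h
    omega
  let Sz : Ω → Finset (Fin 112) := fun z => Finset.univ.filter fun y => Γ.Adj z (φ y)
  have hone : ∀ y, (X.filter fun z => Γ.Adj (φ y) z).card = 81 := by
    intro y
    have h112 := hdeg (φ y)
    have heq : (Finset.univ.filter fun z => Γ.Adj (φ y) z) =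
        insert a ((Finset.univ.filter fun z => Γ.Adj a z ∧ Γ.Adj (φ y) z) ∪ X.filter fun z => Γ.Adj (φ y) z) := by
      ext z
      simp only [hX, Finset.mem_filter, Finset.mem_univ, true_and, Finset.mem_insert, Finset.mem_union]
      constructor
      · intro h; by_cases hz : z = a <;> tauto
      · rintro (rfl | h | h)
        · exact (haφ y).symm
        · exact h.2
        · exact h.2
    rw [heq, Finset.card_insert_of_notMem (by simp [hX]),
      Finset.card_union_of_disjoint (by
        rw [Finset.disjoint_left]; intro z hz hz'; simp only [hX, Finset.mem_filter] at hz hz'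
        exact hz'.1.2.2 hz.2.1), hcn a (φ y) (haφ y)] at h112
    omega
  have htwo : ∀ y y', adjB y y' = true →
      (X.filter fun z => Γ.Adj (φ y) z ∧ Γ.Adj (φ y') z).card = 27 := by
    intro y y' h
    have h30 := hcn _ _ ((hin y y').mpr h)
    have heq : (Finset.univ.filter fun z => Γ.Adj (φ y) z ∧ Γ.Adj (φ y') z) =
        insert a (Finset.univ.filter fun z => (Γ.Adj (φ y) z ∧ Γ.Adj (φ y') z) ∧ z ≠ a) := by
      ext z
      simp only [Finset.mem_filter, Finset.mem_univ, true_and, Finset.mem_insert]
      constructor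
      · intro hz; by_cases hza : z = a
        · exact Or.inl hza
        · exact Or.inr ⟨hz, hza⟩
      · rintro (rfl | hz)
        · exact ⟨(haφ y).symm, (haφ y').symm⟩
        · exact hz.1
    rw [heq, Finset.card_insert_of_notMem (by simp),
      hsplit (fun z => (Γ.Adj (φ y) z ∧ Γ.Adj (φ y') z) ∧ z ≠ a) (fun h => h.2 rfl)] at h30
    have hN : (Finset.univ.filter fun x => (Γ.Adj (φ y) (φ x) ∧ Γ.Adj (φ y') (φ x)) ∧ φ x ≠ a).card = 2 := by
      have h2 := adj_pairs y y' h
      rw [List.countP_eq_length_filter, ← List.toFinset_card_of_nodup ((List.nodup_finRange _).filter _)] at h2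
      rw [← h2]
      congr 1
      ext x
      have hne : φ x ≠ a := (haφ x).ne'
      simp [hin, hne]
    have hX' : (X.filter fun z => (Γ.Adj (φ y) z ∧ Γ.Adj (φ y') z) ∧ z ≠ a) =
        X.filter fun z => Γ.Adj (φ y) z ∧ Γ.Adj (φ y') z :=
      Finset.filter_congr fun z hz => by
        simp only [hX, Finset.mem_filter] at hz
        simp [hz.2.1]
    rw [hN, hX'] at h30
    omega
  -- every line meets the set of a far vertex in two points
  have htwoset : ∀ z ∈ X, IsTwoSet (Sz z) := by
    intro z hz p1 p2 p3 p4 h12 h13 h14 h23 h24 h34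
    set L : Finset (Fin 112) := {p1, p2, p3, p4} with hL
    have hne : ∀ u v : Fin 112, adjB u v = true → u ≠ v := fun u v h e => by
      rw [e, (adj_basic v).1] at h; exact Bool.noConfusion h
    have hLcard : L.card = 4 := by
      rw [hL, Finset.card_insert_of_notMem (by simp [hne _ _ h12, hne _ _ h13, hne _ _ h14]),
        Finset.card_insert_of_notMem (by simp [hne _ _ h23, hne _ _ h24]),
        Finset.card_insert_of_notMem (by simp [hne _ _ h34]), Finset.card_singleton]
    have hLadj : ∀ u ∈ L, ∀ v ∈ L, u ≠ v → adjB u v = true := by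
      have hsymm : ∀ u v, adjB u v = true → adjB v u = true := fun u v h => by rwa [← (adj_basic u).2.2 v]
      simp only [hL, Finset.mem_insert, Finset.mem_singleton]
      rintro u (rfl | rfl | rfl | rfl) v (rfl | rfl | rfl | rfl) h <;>
        first | exact absurd rfl h | assumption | (apply hsymm; assumption)
    let x : Ω → ℕ := fun w => (L.filter fun u => Γ.Adj (φ u) w).card
    have hs1 : ∑ w ∈ X, x w = 324 := by
      simp only [x, Finset.card_filter]
      rw [Finset.sum_comm, Finset.sum_congr rfl fun u _ => (Finset.card_filter _ _).symm.trans (hone u),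
        Finset.sum_const, hLcard, smul_eq_mul]
    have hs2 : ∑ w ∈ X, x w ^ 2 = 648 := by
      have : ∀ w, x w ^ 2 = ∑ u ∈ L, ∑ v ∈ L, if Γ.Adj (φ u) w ∧ Γ.Adj (φ v) w then 1 else 0 := fun w => by
        simp only [x, pow_two, Finset.card_filter]
        rw [Finset.sum_mul_sum]
        refine Finset.sum_congr rfl fun u _ => Finset.sum_congr rfl fun v _ => ?_
        by_cases h1 : Γ.Adj (φ u) w <;> by_cases h2 : Γ.Adj (φ v) w <;> simp [h1, h2]
      simp only [this]
      rw [Finset.sum_comm]
      calc ∑ u ∈ L, ∑ w ∈ X, ∑ v ∈ L, (if Γ.Adj (φ u) w ∧ Γ.Adj (φ v) w then 1 else 0)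
          = ∑ u ∈ L, ∑ v ∈ L, (X.filter fun w => Γ.Adj (φ u) w ∧ Γ.Adj (φ v) w).card :=
            Finset.sum_congr rfl fun u _ => by rw [Finset.sum_comm]; simp only [Finset.card_filter]
        _ = ∑ u ∈ L, ∑ v ∈ L, (if u = v then 81 else 27) := by
            refine Finset.sum_congr rfl fun u hu => Finset.sum_congr rfl fun v hv => ?_
            by_cases huv : u = v
            · subst huv; rw [if_pos rfl, ← hone u]; simp only [and_self]
            · rw [if_neg huv, htwo u v (hLadj u hu v hv huv)]
        _ = 648 := by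
            rw [Finset.sum_congr rfl fun u hu => show (∑ v ∈ L, if u = v then 81 else 27) = 162 by
              rw [← Finset.add_sum_erase _ _ hu, if_pos rfl,
                Finset.sum_congr rfl fun v hv => if_neg (Finset.ne_of_mem_erase hv).symm,
                Finset.sum_const, Finset.card_erase_of_mem hu, hLcard]
              rfl]
            rw [Finset.sum_const, hLcard]
            rfl
    have hzero : ∑ w ∈ X, ((x w : ℤ) - 2) ^ 2 = 0 := by
      have e1 : ((∑ w ∈ X, x w : ℕ) : ℤ) = 324 := by rw [hs1]; rfl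
      have e2 : ((∑ w ∈ X, x w ^ 2 : ℕ) : ℤ) = 648 := by rw [hs2]; rfl
      push_cast at e1 e2
      calc ∑ w ∈ X, ((x w : ℤ) - 2) ^ 2 = ∑ w ∈ X, ((x w : ℤ) ^ 2 - 4 * (x w : ℤ) + 4) :=
            Finset.sum_congr rfl fun w _ => by ring
        _ = 0 := by
            rw [Finset.sum_add_distrib, Finset.sum_sub_distrib, ← Finset.mul_sum, e1, e2,
              Finset.sum_const, hXcard]
            norm_num
    have hxz := pow_eq_zero_iff two_ne_zero |>.mp
      ((Finset.sum_eq_zero_iff_of_nonneg fun w _ => sq_nonneg _).mp hzero z hz)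
    have hx2 : x z = 2 := by omega
    rw [← hx2]
    show (L ∩ Sz z).card = (L.filter fun u => Γ.Adj (φ u) z).card
    rw [← Finset.filter_mem_eq_inter]
    congr 1
    ext u
    simp [Sz, Γ.adj_comm]
  -- the action on the sets
  have hSzmap : ∀ (s : S) (z : Ω), Sz (s • z) = (Sz z).image (ε s : Equiv.Perm (Fin 112)) := by
    intro s z
    ext y
    obtain ⟨x, rfl⟩ := (ε s : Equiv.Perm (Fin 112)).surjective y
    rw [(ε s : Equiv.Perm (Fin 112)).injective.mem_finset_image]
    simp only [Sz, Finset.mem_filter, Finset.mem_univ, true_and]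
    rw [show φ ((ε s : Equiv.Perm (Fin 112)) x) = s • φ x by
      have := hφ (ε s) x
      rwa [MulEquiv.symm_apply_apply] at this, hSadj]
  have hcb : Disjoint (MulAction.orbit S c) (MulAction.orbit S b) := by
    rw [Set.disjoint_left]
    intro x hx hx'
    have e := (MulAction.orbit_eq_iff.mpr hx).symm.trans (MulAction.orbit_eq_iff.mpr hx')
    rw [e, hb] at hc
    norm_num at hc
  have hca : ∀ x ∈ MulAction.orbit S c, x ≠ a := by
    rintro _ ⟨s, rfl⟩ e
    have hca : c = a := by rwa [← hSa s, smul_left_cancel_iff] at e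
    have : MulAction.orbit S c ⊆ {a} := by rintro _ ⟨t, rfl⟩; rw [hca]; exact hSa t
    have := Set.ncard_le_ncard this
    rw [hc, Set.ncard_singleton] at this
    omega
  have hXorb : (↑X : Set Ω) = MulAction.orbit S c := by
    symm
    refine Set.eq_of_subset_of_ncard_le ?_ (by rw [hc, Set.ncard_coe_finset, hXcard]) (Set.toFinite _)
    intro x hx
    simp only [hX, Finset.coe_filter, Finset.mem_univ, true_and, Set.mem_ofPred_eq]
    exact ⟨hca x hx, fun h => Set.disjoint_left.mp hcb hx ((hnbr x).mp h)⟩
  have hcX : c ∈ X := by rw [← Finset.mem_coe, hXorb]; exact MulAction.mem_orbit_self c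
  obtain ⟨u, hu, hufix⟩ : ∃ u : H, orderOf u = 7 ∧ (Sz c).image (u : Equiv.Perm (Fin 112)) = Sz c := by
    haveI : Fact (Nat.Prime 7) := ⟨by norm_num⟩
    have h7 : 7 ∣ Nat.card (MulAction.stabilizer S c) := by
      have := (MulAction.stabilizer S c).card_mul_index
      rw [MulAction.index_stabilizer, hc, hScard] at this
      omega
    obtain ⟨v, hv⟩ := exists_prime_orderOf_dvd_card' 7 h7
    refine ⟨ε v.1, ?_, ?_⟩
    · rw [← hv, show (ε v.1) = ε.toMonoidHom v.1 from rfl, orderOf_injective ε.toMonoidHom ε.injective]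
      exact orderOf_injective (MulAction.stabilizer S c).subtype Subtype.val_injective v
    · rw [← hSzmap, show (v.1 : S) • c = c from v.2]
  have himage : (fun h : Equiv.Perm (Fin 112) => (Sz c).image h) '' (H : Set (Equiv.Perm (Fin 112))) =
      Sz '' ↑X := by
    ext T
    simp only [hXorb, Set.mem_image, SetLike.mem_coe]
    constructor
    · rintro ⟨h, hh, rfl⟩
      exact ⟨_, ⟨ε.symm ⟨h, hh⟩, rfl⟩, by rw [hSzmap, MulEquiv.apply_symm_apply]⟩
    · rintro ⟨_, ⟨s, rfl⟩, rfl⟩
      exact ⟨_, (ε s).2, (hSzmap s c).symm⟩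
  obtain ⟨σ, hσ, hfam, hfam0⟩ := exists_family hH (htwoset c hcX) u hu hufix (by
    rw [himage]
    exact (Set.ncard_image_le (Finset.finite_toSet X)).trans_eq (by rw [Set.ncard_coe_finset, hXcard]))
  rw [himage] at hfam
  have hσinj : Function.Injective fun z : Fin 162 => (famSet z).image σ :=
    (Finset.image_injective σ.injective).comp famSet_injective
  have hSzinj : Set.InjOn Sz ↑X := by
    refine Set.injOn_of_ncard_image_eq ?_ (Finset.finite_toSet X)
    rw [hfam, Set.ncard_range_of_injective hσinj, Nat.card_fin, Set.ncard_coe_finset, hXcard]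
  choose w hwX hw using fun z : Fin 162 => show (famSet z).image σ ∈ Sz '' ↑X by rw [hfam]; exact ⟨z, rfl⟩
  have hwinj : Function.Injective w := fun z z' e => hσinj (by
    show (famSet z).image σ = (famSet z').image σ
    rw [← hw z, ← hw z', e])
  have hwX' : ∀ z, w z ≠ a ∧ ¬ Γ.Adj a (w z) := fun z => by
    simpa [hX] using hwX z
  -- adjacency among the far vertices
  have hSz56 : ∀ z ∈ X, (Sz z).card = 56 := by
    intro z hz
    obtain ⟨i, hi⟩ : Sz z ∈ Set.range (fun z : Fin 162 => (famSet z).image σ) := by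
      rw [← hfam]; exact ⟨z, hz, rfl⟩
    rw [← hi, Finset.card_image_of_injective _ σ.injective]
    exact famSet_card hH i
  have hinter : ∀ z ∈ X, ∀ z' ∈ X, z ≠ z' →
      (Sz z ∩ Sz z').card = 20 ∨ (Sz z ∩ Sz z').card = 32 := by
    intro z hz z' hz' hne
    obtain ⟨i, hi⟩ : Sz z ∈ Set.range (fun z : Fin 162 => (famSet z).image σ) := by
      rw [← hfam]; exact ⟨z, hz, rfl⟩
    obtain ⟨j, hj⟩ : Sz z' ∈ Set.range (fun z : Fin 162 => (famSet z).image σ) := by
      rw [← hfam]; exact ⟨z', hz', rfl⟩
    have hij : i ≠ j := fun e => hne (hSzinj hz hz' (by rw [← hi, ← hj, e]))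
    rw [← hi, ← hj, ← Finset.image_inter _ _ σ.injective, Finset.card_image_of_injective _ σ.injective]
    exact fam_card_inter hH hfam0 hij
  have hfar : ∀ z ∈ X, ∀ z' ∈ X, z ≠ z' → (Γ.Adj z z' ↔ (Sz z ∩ Sz z').card = 20) := by
    intro z hz
    obtain ⟨i, hi⟩ : Sz z ∈ Set.range (fun z : Fin 162 => (famSet z).image σ) := by
      rw [← hfam]; exact ⟨z, hz, rfl⟩
    have hza : z ≠ a ∧ ¬ Γ.Adj a z := by simpa [hX] using hz
    set Y := X.erase z with hY
    have hYcard : Y.card = 161 := by rw [hY, Finset.card_erase_of_mem hz, hXcard]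
    set T := Y.filter fun z' => (Sz z ∩ Sz z').card = 20 with hT
    -- total intersection
    have htot : ∑ z' ∈ Y, (Sz z ∩ Sz z').card = 4480 := by
      have hcount : ∀ z', (Sz z ∩ Sz z').card = ∑ y ∈ Sz z, if Γ.Adj (φ y) z' then 1 else 0 := by
        intro z'
        rw [← Finset.card_filter, ← Finset.filter_mem_eq_inter]
        congr 1
        ext y
        simp [Sz, Γ.adj_comm]
      simp only [hcount]
      rw [Finset.sum_comm]
      have : ∀ y ∈ Sz z, (∑ z' ∈ Y, if Γ.Adj (φ y) z' then 1 else 0) = 80 := by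
        intro y hy
        have hyz : Γ.Adj (φ y) z := by simpa [Sz, Γ.adj_comm] using hy
        rw [← Finset.card_filter, hY, Finset.filter_erase, Finset.card_erase_of_mem (by simp [hz, hyz]), hone]
      rw [Finset.sum_congr rfl this, Finset.sum_const, hSz56 z hz, smul_eq_mul]
    have hT56 : T.card = 56 := by
      have hrest : ∀ z' ∈ Y.filter (fun z' => ¬ (Sz z ∩ Sz z').card = 20), (Sz z ∩ Sz z').card = 32 := by
        intro z' hz'
        simp only [hY, Finset.mem_filter, Finset.mem_erase] at hz'
        exact (hinter z hz z' hz'.1.2 (Ne.symm hz'.1.1)).resolve_left hz'.2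
      rw [← Finset.sum_filter_add_sum_filter_not Y (fun z' => (Sz z ∩ Sz z').card = 20),
        Finset.sum_congr rfl (fun z' hz' => (Finset.mem_filter.mp hz').2), Finset.sum_congr rfl hrest,
        Finset.sum_const, Finset.sum_const, smul_eq_mul, smul_eq_mul, ← hT] at htot
      have h161 := Finset.card_filter_add_card_filter_not (s := Y) fun z' => (Sz z ∩ Sz z').card = 20
      rw [← hT, hYcard] at h161
      omega
    set U := Y.filter fun z' => Γ.Adj z z' with hU
    have hU56 : U.card = 56 := by
      have h112 := hdeg z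
      rw [hsplit (fun z' => Γ.Adj z z') (fun h => hza.2 h.symm)] at h112
      have : (Finset.univ.filter fun y => Γ.Adj z (φ y)).card = 56 := hSz56 z hz
      rw [this] at h112
      rw [hU, hY, Finset.filter_erase, Finset.erase_eq_of_notMem (by simp)]
      omega
    have hUsum : ∑ z' ∈ U, (Sz z ∩ Sz z').card = 1120 := by
      have hcount : ∀ z', (Sz z ∩ Sz z').card = ∑ y ∈ Sz z, if Γ.Adj (φ y) z' then 1 else 0 := by
        intro z'
        rw [← Finset.card_filter, ← Finset.filter_mem_eq_inter]
        congr 1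
        ext y
        simp [Sz, Γ.adj_comm]
      simp only [hcount]
      rw [Finset.sum_comm]
      have : ∀ y ∈ Sz z, (∑ z' ∈ U, if Γ.Adj (φ y) z' then 1 else 0) = 20 := by
        intro y hy
        have hzy : Γ.Adj z (φ y) := by simpa [Sz] using hy
        have h30 := hcn z (φ y) hzy
        rw [hsplit (fun w => Γ.Adj z w ∧ Γ.Adj (φ y) w) (fun h => hza.2 h.1.symm)] at h30
        have hten : (Finset.univ.filter fun x => Γ.Adj z (φ x) ∧ Γ.Adj (φ y) (φ x)).card = 10 := by
          have hmem : y ∈ Sz z := hy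
          rw [← hi] at hmem
          obtain ⟨y0, hy0, rfl⟩ := Finset.mem_image.mp hmem
          rw [← famSet_inner hH i y0 hy0, ← Finset.card_image_of_injective
            (Finset.univ.filter fun x => x ∈ famSet i ∧ adjB y0 x = true) σ.injective]
          congr 1
          ext x
          obtain ⟨x0, rfl⟩ := σ.surjective x
          rw [σ.injective.mem_finset_image, Finset.mem_filter, Finset.mem_filter, hin, hσ y0 x0]
          simp only [Finset.mem_univ, true_and]
          refine and_congr_left' ?_
          show Γ.Adj z (φ (σ x0)) ↔ _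
          have : σ x0 ∈ Sz z ↔ x0 ∈ famSet i := by rw [← hi, σ.injective.mem_finset_image]
          simpa [Sz] using this
        rw [hten] at h30
        rw [← Finset.card_filter, hU, Finset.filter_filter, hY, Finset.filter_erase,
          Finset.erase_eq_of_notMem (by simp)]
        omega
      rw [Finset.sum_congr rfl this, Finset.sum_const, hSz56 z hz, smul_eq_mul]
    have hge : ∀ z' ∈ U, 20 ≤ (Sz z ∩ Sz z').card := by
      intro z' hz'
      simp only [hU, hY, Finset.mem_filter, Finset.mem_erase] at hz'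
      rcases hinter z hz z' hz'.1.2 (Ne.symm hz'.1.1) with h | h <;> omega
    have hall : ∀ z' ∈ U, (Sz z ∩ Sz z').card = 20 := by
      intro z' hz'
      have h1 := Finset.add_sum_erase U (fun w => (Sz z ∩ Sz w).card) hz'
      have h2 : (U.erase z').card * 20 ≤ ∑ w ∈ U.erase z', (Sz z ∩ Sz w).card := by
        rw [← smul_eq_mul]
        exact Finset.card_nsmul_le_sum _ _ _ fun w hw => hge w (Finset.mem_of_mem_erase hw)
      rw [Finset.card_erase_of_mem hz', hU56] at h2
      have := hge z' hz'
      omega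
    have hUT : U = T := Finset.eq_of_subset_of_card_le
      (fun z' hz' => Finset.mem_filter.mpr ⟨(Finset.mem_filter.mp hz').1, hall z' hz'⟩) (by rw [hT56, hU56])
    intro z' hz' hne
    have := Finset.ext_iff.mp hUT z'
    simpa [hU, hT, hY, hz', Ne.symm hne] using this
  -- the bijection
  let f : Vtx → Ω := fun
    | none => a
    | some (Sum.inl y) => φ (σ y)
    | some (Sum.inr z) => w z
  have hfinj : Function.Injective f := by
    rintro (_ | (y | z)) (_ | (y' | z')) h <;> simp only [f] at h
    · rfl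
    · exact absurd h (haφ _).ne
    · exact absurd h.symm (hwX' _).1
    · exact absurd h.symm (haφ _).ne
    · rw [σ.injective (hφinj h)]
    · exact absurd (h ▸ haφ (σ y)) (hwX' z').2
    · exact absurd h (hwX' _).1
    · exact absurd (h ▸ haφ (σ y')) (hwX' z).2
    · rw [hwinj h]
  have hfbij : Function.Bijective f := by
    rw [Fintype.bijective_iff_injective_and_card]
    exact ⟨hfinj, by simp [Fintype.card_option, Fintype.card_sum, hΩ]⟩
  have hfadj : ∀ x y, Γ.Adj (f x) (f y) ↔ mclGraph.Adj x y := by
    have hmem : ∀ i z, Γ.Adj (φ (σ i)) (w z) ↔ i ∈ famSet z := by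
      intro i z
      have : σ i ∈ Sz (w z) ↔ i ∈ famSet z := by rw [hw, σ.injective.mem_finset_image]
      simpa [Sz, Γ.adj_comm] using this
    rintro (_ | (i | z)) (_ | (j | z')) <;> simp only [f, mclGraph_adj, vAdj]
    · simp
    · simp [haφ]
    · simp [(hwX' z').2]
    · simp [(haφ _).symm]
    · rw [hin]
      rw [hσ i j]
    · exact hmem i z'
    · simp only [iff_false]
      exact fun h => (hwX' z).2 h.symm
    · rw [Γ.adj_comm]
      exact hmem j z
    · by_cases hzz : z = z'
      · subst hzz; simp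
      · rw [hfar _ (hwX z) _ (hwX z') (fun e => hzz (hwinj e)), hw, hw,
          ← Finset.image_inter _ _ σ.injective, Finset.card_image_of_injective _ σ.injective]
        simp [hzz]
  let e := Equiv.ofBijective f hfbij
  refine ⟨e.symm, e.symm_apply_eq.mpr rfl, fun g x y => ?_, fun i => ?_, fun z => ?_⟩
  rotate_left
  · show φ (σ i) ∈ MulAction.orbit S b
    rw [← hrange]
    exact ⟨_, rfl⟩
  · show w z ∈ MulAction.orbit S c
    rw [← hXorb]
    exact hwX z
  rw [← hfadj, ← hfadj]
  show Γ.Adj (e (e.symm (g • x))) (e (e.symm (g • y))) ↔ Γ.Adj (e (e.symm x)) (e (e.symm y))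
  rw [e.apply_symm_apply, e.apply_symm_apply, e.apply_symm_apply, e.apply_symm_apply]
  exact hadj g x y

/-- What is used about the image of such a group in the automorphism group of the graph. -/
structure IsRankThree (X : Subgroup (mclGraph ≃g mclGraph)) : Prop where
  trans : ∀ v, ∃ x ∈ X, (x : mclGraph ≃g mclGraph) none = v
  card : Nat.card (MulAction.stabilizer X (none : Vtx)) = 3265920
  simple : IsSimpleGroup (MulAction.stabilizer X (none : Vtx))
  near : ∀ i j, ∃ x : MulAction.stabilizer X (none : Vtx),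
    (x.1.1 : mclGraph ≃g mclGraph) (some (Sum.inl i)) = some (Sum.inl j)
  far : ∀ z z', ∃ x : MulAction.stabilizer X (none : Vtx),
    (x.1.1 : mclGraph ≃g mclGraph) (some (Sum.inr z)) = some (Sum.inr z')

/-- Automorphisms fixing the first vertex. -/
abbrev stabNone : Subgroup (mclGraph ≃g mclGraph) :=
  MulAction.stabilizer (mclGraph ≃g mclGraph) (none : Vtx)

theorem inl_image (g : stabNone) (i : Fin 112) :
    ∃ j, (g.1 : mclGraph ≃g mclGraph) (some (Sum.inl i)) = some (Sum.inl j) := by
  have h : mclGraph.Adj (g.1 none) (g.1 (some (Sum.inl i))) := g.1.map_adj_iff.mpr trivial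
  rw [show g.1 none = none from g.2] at h
  generalize g.1 (some (Sum.inl i)) = v at h ⊢
  match v, h with
  | some (Sum.inl j), _ => exact ⟨j, rfl⟩

theorem card_stabNone_le : Nat.card stabNone ≤ 26127360 := by
  classical
  choose f hf using fun g : stabNone => inl_image g
  have hinj : ∀ g, Function.Injective (f g) := fun g i j e =>
    Sum.inl_injective (Option.some_injective _ (g.1.injective ((hf g i).trans (e ▸ (hf g j).symm))))
  refine (Nat.card_le_card_of_injective (fun g => (⟨Equiv.ofBijective (f g)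
    (Finite.injective_iff_bijective.mp (hinj g)), fun i j => ?_⟩ : autAdj)) ?_).trans card_autAdj_le
  · refine Bool.eq_iff_iff.mpr ?_
    have := g.1.map_adj_iff (v := some (Sum.inl i)) (w := some (Sum.inl j))
    rw [hf g i, hf g j] at this
    exact this
  · intro g g' e
    have hff : ∀ i, f g i = f g' i := fun i =>
      congrFun (congrArg DFunLike.coe (congrArg Subtype.val e)) i
    have hinl : ∀ i, g.1 (some (Sum.inl i)) = g'.1 (some (Sum.inl i)) := fun i => by rw [hf, hf, hff]
    refine Subtype.ext (RelIso.ext ?_)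
    rintro (_ | (i | z))
    · exact g.2.trans g'.2.symm
    · exact hinl i
    · have hz : ∀ k : stabNone, ∃ z', k.1 (some (Sum.inr z)) = some (Sum.inr z') := by
        intro k
        have h : ¬ mclGraph.Adj (k.1 none) (k.1 (some (Sum.inr z))) := fun h => k.1.map_adj_iff.mp h
        rw [show k.1 none = none from k.2] at h
        have hne : k.1 (some (Sum.inr z)) ≠ none := fun e => by
          have := k.1.injective (e.trans k.2.symm)
          simp at this
        generalize k.1 (some (Sum.inr z)) = v at h hne ⊢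
        match v, h, hne with
        | some (Sum.inr j), _, _ => exact ⟨j, rfl⟩
        | some (Sum.inl j), h, _ => exact absurd trivial h
        | none, _, hne => exact absurd rfl hne
      obtain ⟨z1, h1⟩ := hz g
      obtain ⟨z2, h2⟩ := hz g'
      rw [h1, h2]
      have : z1 = z2 := by
        refine famSet_injective (Finset.ext fun j => ?_)
        obtain ⟨i, rfl⟩ := (Finite.injective_iff_bijective.mp (hinj g)).2 j
        have e1 := g.1.map_adj_iff (v := some (Sum.inl i)) (w := some (Sum.inr z))
        have e2 := g'.1.map_adj_iff (v := some (Sum.inl i)) (w := some (Sum.inr z))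
        rw [h1, hf g i] at e1
        rw [h2, hf g' i, ← hff i] at e2
        exact e1.trans e2.symm
      rw [this]

theorem isRankThree_le {X Y : Subgroup (mclGraph ≃g mclGraph)} (hX : IsRankThree X) (hY : IsRankThree Y) :
    X ≤ Y := by
  haveI : Finite (mclGraph ≃g mclGraph) :=
    Finite.of_injective _ (RelIso.toEquiv_injective (r := mclGraph.Adj) (s := mclGraph.Adj))
  let toA : ∀ Z : Subgroup (mclGraph ≃g mclGraph), MulAction.stabilizer Z (none : Vtx) →* stabNone :=
    fun Z => (Z.subtype.comp (MulAction.stabilizer Z (none : Vtx)).subtype).codRestrict stabNone fun g => g.2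
  have htoA : ∀ Z, Function.Injective (toA Z) := fun Z g g' e =>
    Subtype.ext (Subtype.ext (congrArg Subtype.val e :))
  have hA : ∀ {Z}, IsRankThree Z → Nat.card (toA Z).range = 3265920 ∧ IsSimpleGroup (toA Z).range := by
    intro Z hZ
    haveI := hZ.simple
    exact ⟨(Nat.card_congr (MonoidHom.ofInjective (htoA Z)).toEquiv).symm.trans hZ.card,
      (MonoidHom.ofInjective (htoA Z)).symm.isSimpleGroup⟩
  haveI := (hA hX).2
  haveI := (hA hY).2
  -- the stabiliser of every vertex is common
  have hconj : ∀ x ∈ X, ∀ k : MulAction.stabilizer X (none : Vtx), x * k.1.1 * x⁻¹ ∈ Y := by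
    intro x hx k
    obtain ⟨y, hy, hyv⟩ := hY.trans (x none)
    have hd : y⁻¹ * x ∈ stabNone := by
      rw [MulAction.mem_stabilizer_iff, RelIso.smul_def, RelIso.mul_apply, ← hyv]
      exact y.symm_apply_apply none
    let d : stabNone := ⟨y⁻¹ * x, hd⟩
    haveI : IsSimpleGroup ((toA X).range.map (MulAut.conj d).toMonoidHom) :=
      ((toA X).range.equivMapOfInjective _ (MulAut.conj d).injective).symm.isSimpleGroup
    have heq : (toA X).range.map (MulAut.conj d).toMonoidHom = (toA Y).range :=
      simple_unique (X := (toA Y).range) (hA hY).1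
        ((Nat.card_congr ((toA X).range.equivMapOfInjective _ (MulAut.conj d).injective).toEquiv).symm.trans
          (hA hX).1) card_stabNone_le
    have hmem : MulAut.conj d (toA X k) ∈ (toA Y).range := by
      rw [← heq]; exact ⟨_, ⟨k, rfl⟩, rfl⟩
    obtain ⟨k', hk'⟩ := hmem
    have hk'' : (k'.1.1 : mclGraph ≃g mclGraph) = y⁻¹ * x * k.1.1 * (y⁻¹ * x)⁻¹ := congrArg Subtype.val hk'
    have : x * k.1.1 * x⁻¹ = y * k'.1.1 * y⁻¹ := by rw [hk'']; group
    rw [this]
    exact mul_mem (mul_mem hy k'.1.2) (inv_mem hy)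
  have hX0 : ∀ k : MulAction.stabilizer X (none : Vtx), k.1.1 ∈ Y := fun k => by
    simpa using hconj 1 (one_mem X) k
  let D := X ⊓ Y
  have hspread : ∀ v, ∃ d ∈ D, (d : mclGraph ≃g mclGraph) none = v := by
    obtain ⟨x, hx, hxv⟩ := hX.trans (some (Sum.inl 0))
    have hxn : ∃ i, x (some (Sum.inl i)) = none := by
      have h0 : mclGraph.Adj none (x none) := by rw [hxv]; trivial
      have h : mclGraph.Adj (x.symm none) none := by
        have := x.symm.map_adj_iff.mpr h0
        rwa [x.symm_apply_apply] at this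
      match hv : x.symm none, h with
      | some (Sum.inl i), _ => exact ⟨i, by rw [← hv]; exact x.apply_symm_apply none⟩
      | none, h => exact absurd h (mclGraph.irrefl)
      | some (Sum.inr i), h => exact (show False from h).elim
    obtain ⟨i, hi⟩ := hxn
    have hgo : ∀ j, ∃ d ∈ D, (d : mclGraph ≃g mclGraph) none = x (some (Sum.inl j)) := by
      intro j
      obtain ⟨k, hk⟩ := hX.near i j
      refine ⟨x * k.1.1 * x⁻¹, ⟨X.mul_mem (X.mul_mem hx k.1.2) (X.inv_mem hx), hconj x hx k⟩, ?_⟩
      have e : x.symm none = some (Sum.inl i) := x.injective (by rw [x.apply_symm_apply]; exact hi.symm)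
      show x (k.1.1 (x.symm none)) = _
      rw [e, hk]
    obtain ⟨q, hq⟩ : ∃ q, adjB 0 q = true := ⟨6, by decide +kernel⟩
    obtain ⟨r, hr⟩ : ∃ r : Fin 162, (0 : Fin 112) ∈ famSet r := exists_fam_mem
    have hin : ∀ v, mclGraph.Adj (some (Sum.inl 0)) v → v ≠ none →
        ∃ d ∈ D, (d : mclGraph ≃g mclGraph) none = v := by
      intro v hv hvn
      rw [← hxv, ← x.apply_symm_apply v, x.map_adj_iff] at hv
      match hw : x.symm v, hv with
      | some (Sum.inl j), _ =>
        obtain ⟨d, hd, hd'⟩ := hgo j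
        exact ⟨d, hd, by rw [hd', ← hw]; exact x.apply_symm_apply v⟩
      | none, h => exact absurd h (mclGraph.irrefl)
      | some (Sum.inr j), h => exact absurd h (fun h' => h')
    obtain ⟨d1, hd1, hd1'⟩ := hin (some (Sum.inl q)) hq (by simp)
    obtain ⟨d2, hd2, hd2'⟩ := hin (some (Sum.inr r)) hr (by simp)
    rintro (_ | (j | z))
    · exact ⟨1, one_mem D, rfl⟩
    · obtain ⟨k, hk⟩ := hX.near q j
      exact ⟨k.1.1 * d1, mul_mem ⟨k.1.2, hX0 k⟩ hd1, by rw [RelIso.mul_apply, hd1', hk]⟩
    · obtain ⟨k, hk⟩ := hX.far r z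
      exact ⟨k.1.1 * d2, mul_mem ⟨k.1.2, hX0 k⟩ hd2, by rw [RelIso.mul_apply, hd2', hk]⟩
  intro x hx
  obtain ⟨d, hd, hd'⟩ := hspread (x none)
  have hmem : d⁻¹ * x ∈ X := mul_mem (inv_mem hd.1) hx
  have hfix : (⟨d⁻¹ * x, hmem⟩ : X) ∈ MulAction.stabilizer X (none : Vtx) := by
    show (d⁻¹ * x) none = none
    rw [RelIso.mul_apply, ← hd']
    exact d.symm_apply_apply none
  have := mul_mem hd.2 (hX0 ⟨_, hfix⟩)
  simpa using this

/-- The image of such a group. -/
theorem exists_image (hH : Setup H) (hΩ : Fintype.card Ω = 275) (a b c : Ω)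
    (ε : MulAction.stabilizer G a ≃* H)
    (hb : (MulAction.orbit (MulAction.stabilizer G a) b).ncard = 112)
    (hc : (MulAction.orbit (MulAction.stabilizer G a) c).ncard = 162) :
    ∃ X : Subgroup (mclGraph ≃g mclGraph), IsRankThree X ∧ Nonempty (G ≃* X) := by
  classical
  obtain ⟨e, hea, he, hel, her⟩ := exists_model hH hΩ a b c ε hb hc
  let f : G →* (mclGraph ≃g mclGraph) :=
    { toFun := fun g => ⟨e.permCongr (MulAction.toPerm g), fun {x y} => by
        show mclGraph.Adj (e (g • e.symm x)) (e (g • e.symm y)) ↔ _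
        rw [he, e.apply_symm_apply, e.apply_symm_apply]⟩
      map_one' := RelIso.ext fun x => by
        show e ((1 : G) • e.symm x) = x
        rw [one_smul, e.apply_symm_apply]
      map_mul' := fun g g' => RelIso.ext fun x => by
        show e ((g * g') • e.symm x) = e (g • e.symm (e (g' • e.symm x)))
        rw [e.symm_apply_apply, mul_smul] }
  have hf : ∀ (g : G) (x : Ω), f g (e x) = e (g • x) := fun g x => by
    show e (g • e.symm (e x)) = _
    rw [e.symm_apply_apply]
  have hfinj : Function.Injective f := fun g g' h => eq_of_smul_eq_smul fun x : Ω =>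
    e.injective (by rw [← hf, ← hf, h])
  let F := MonoidHom.ofInjective hfinj
  have hstab : ∀ g : G, f g none = none ↔ g ∈ MulAction.stabilizer G a := fun g => by
    rw [← hea, hf, e.apply_eq_iff_eq, MulAction.mem_stabilizer_iff]
  let T : MulAction.stabilizer G a ≃* MulAction.stabilizer f.range (none : Vtx) :=
    MulEquiv.ofBijective
      ((F.toMonoidHom.comp (MulAction.stabilizer G a).subtype).codRestrict _ fun g => (hstab g.1).mpr g.2)
      ⟨fun g g' h => Subtype.ext (F.injective (congrArg Subtype.val h :)), fun y => by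
        obtain ⟨g, hg⟩ := y.1.2
        exact ⟨⟨g, (hstab g).mp (by rw [hg]; exact y.2)⟩, Subtype.ext (Subtype.ext hg)⟩⟩
  haveI := hH.simple
  have hT : ∀ k, ((T k).1.1 : mclGraph ≃g mclGraph) = f k.1 := fun k => rfl
  have hmove : ∀ (b0 : Ω) (v v' : Vtx), e.symm v ∈ MulAction.orbit (MulAction.stabilizer G a) b0 →
      e.symm v' ∈ MulAction.orbit (MulAction.stabilizer G a) b0 →
      ∃ x : MulAction.stabilizer f.range (none : Vtx), (x.1.1 : mclGraph ≃g mclGraph) v = v' := by
    intro b0 v v' h1 h2
    rw [← MulAction.orbit_eq_iff.mpr h1] at h2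
    obtain ⟨s, hs⟩ := h2
    refine ⟨T s, ?_⟩
    rw [hT]
    show e ((s : G) • e.symm v) = v'
    rw [← e.eq_symm_apply]
    exact hs
  refine ⟨f.range, ⟨fun v => ?_, ?_, ?_, fun i j => hmove b _ _ (hel i) (hel j),
    fun z z' => hmove c _ _ (her z) (her z')⟩, ⟨F⟩⟩
  · obtain ⟨g, hg⟩ := MulAction.exists_smul_eq G a (e.symm v)
    exact ⟨f g, ⟨g, rfl⟩, by rw [← hea, hf, hg, e.apply_symm_apply]⟩
  · rw [← Nat.card_congr T.toEquiv, Nat.card_congr ε.toEquiv, hH.card]
  · exact (T.symm.trans ε).isSimpleGroup

/-- Two such groups are isomorphic. -/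
theorem nonempty_mulEquiv {G' Ω' : Type*} [Group G'] [Finite G'] [MulAction G' Ω'] [FaithfulSMul G' Ω']
    [Fintype Ω'] [DecidableEq Ω'] [MulAction.IsPretransitive G' Ω'] (hH : Setup H)
    (hΩ : Fintype.card Ω = 275) (hΩ' : Fintype.card Ω' = 275) (a b c : Ω) (a' b' c' : Ω')
    (ε : MulAction.stabilizer G a ≃* H) (ε' : MulAction.stabilizer G' a' ≃* H)
    (hb : (MulAction.orbit (MulAction.stabilizer G a) b).ncard = 112)
    (hc : (MulAction.orbit (MulAction.stabilizer G a) c).ncard = 162)
    (hb' : (MulAction.orbit (MulAction.stabilizer G' a') b').ncard = 112)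
    (hc' : (MulAction.orbit (MulAction.stabilizer G' a') c').ncard = 162) : Nonempty (G ≃* G') := by
  obtain ⟨X, hX, ⟨e⟩⟩ := exists_image hH hΩ a b c ε hb hc
  obtain ⟨Y, hY, ⟨e'⟩⟩ := exists_image hH hΩ' a' b' c' ε' hb' hc'
  exact ⟨(e.trans (MulEquiv.subgroupCongr (le_antisymm (isRankThree_le hX hY) (isRankThree_le hY hX)))).trans
    e'.symm⟩

end CfsgLib.Steiner.McL
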